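import Groth.Agent.CycPB.Tower
import Groth.Agent.PerfGen.PnFlat
import Groth.Agent.Horrocks.Dim
import Groth.Agent.AlgSpLib.Reduced
import Groth.Agent.ProjMor.ProjSpaceBase

/-!
Projective bundles are smooth with irreducible fibres; splitting towers of smooth morphisms.
-/

set_option autoImplicit false
set_option linter.unusedSectionVars false
set_option linter.style.haveILetI false
set_option backward.isDefEq.respectTransparency false
set_option backward.isDefEq.respectTransparency.types false

universe u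

open CategoryTheory CategoryTheory.Limits AlgebraicGeometry TopologicalSpace Opposite

noncomputable section

namespace Groth.Agent.CycPB

variable {X P : Scheme.{u}}

/-- Projective space is smooth. -/
theorem smooth_toSpec (n : ℕ) (R : Type u) [CommRing R] : Smooth (CohB1.ProjSpace.toSpec n R) := by
  let 𝒜 := CohB1.polyGrading n R
  let U : Fin (n + 1) → (CohB1.ProjSpace n R).Opens := fun j => Proj.basicOpen 𝒜 (MvPolynomial.X j)
  have hU : ⨆ j, U j = ⊤ := (S9576.result n R).1
  have key : ∀ j, Smooth ((U j).ι ≫ CohB1.ProjSpace.toSpec n R) := fun j => by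
    let j₀ := HomogeneousLocalization.fromZeroRingHom 𝒜 (Submonoid.powers (MvPolynomial.X j))
    let φ : CommRingCat.of R ⟶ CommRingCat.of (HomogeneousLocalization.Away 𝒜 (MvPolynomial.X j)) :=
      CommRingCat.ofHom (j₀.comp (algebraMap R (𝒜 0)))
    have hφ : Proj.awayι 𝒜 (MvPolynomial.X j) (MvPolynomial.isHomogeneous_X R j) one_pos ≫
        CohB1.ProjSpace.toSpec n R = Spec.map φ := by
      unfold CohB1.ProjSpace.toSpec
      rw [← Category.assoc, Proj.awayι_toSpecZero, ← Spec.map_comp]
      rfl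
    obtain ⟨-, hb⟩ := S9576.result n R
    let σ := RingEquiv.ofBijective _ (hb j)
    have h : j₀.comp (algebraMap R (𝒜 0)) =
        σ.toRingHom.comp (MvPolynomial.C : R →+* MvPolynomial {l : Fin (n + 1) // l ≠ j} R) :=
      RingHom.ext fun r => (MvPolynomial.eval₂Hom_C _ _ r).symm
    have hs : φ.hom.Smooth := by
      show (j₀.comp (algebraMap R (𝒜 0))).Smooth
      rw [h, ← MvPolynomial.algebraMap_eq]
      exact RingHom.Smooth.respectsIso.1 _ σ (RingHom.smooth_algebraMap.2 ⟨inferInstance, inferInstance⟩)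
    let e := Proj.basicOpenIsoSpec 𝒜 (MvPolynomial.X j) (MvPolynomial.isHomogeneous_X R j) one_pos
    have he : (U j).ι ≫ CohB1.ProjSpace.toSpec n R = e.hom ≫ Spec.map φ := by
      rw [← hφ, ← Category.assoc]
      congr 1
      exact (Iso.hom_inv_id_assoc e _).symm
    rw [he]
    haveI : Smooth (Spec.map φ) := (HasRingHomProperty.Spec_iff (P := @Smooth)).2 hs
    infer_instance
  exact IsZariskiLocalAtSource.of_openCover ((CohB1.ProjSpace n R).openCoverOfIsOpenCover U hU) key

instance smooth_toBase (n : ℕ) (S : Scheme.{u}) : Smooth (CohB1.ProjSpaceOver.toBase n S) :=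
  haveI := smooth_toSpec n (ULift.{u} ℤ)
  inferInstanceAs (Smooth (pullback.snd (CohB1.ProjSpace.toSpec n (ULift.{u} ℤ)) (specULiftZIsTerminal.from S)))

/-- Projective bundles are smooth. -/
theorem smooth_of_isProjBundle {E : X.Modules} {O : P.Modules} {p : P ⟶ X}
    {q : (Scheme.Modules.pullback p).obj E ⟶ O} (hP : KRR.IsProjBundle p E O q) {n : ℕ}
    (hE : FlatMod.IsFinLocFreeOfRank (n + 1) E) : Smooth p := by
  choose U hU hf using hE
  refine IsZariskiLocalAtTarget.of_openCover (X.openCoverOfIsOpenCover U ?_) fun x => ?_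
  · exact eq_top_iff.2 fun y _ => Opens.mem_iSup.2 ⟨y, hU y⟩
  obtain ⟨e⟩ := hf x
  show Smooth (pullback.snd p (U x).ι)
  have sq : IsPullback (pullback.fst p (U x).ι) (pullback.snd p (U x).ι) p (U x).ι := .of_hasPullback _ _
  obtain ⟨θ⟩ := PBundle.nonempty_free_of_le (le_refl (U x)) e
  obtain ⟨h, hg, -, -⟩ := PBundle.exists_iso (PBundle.of_moduleIso (PBundle.of_isPullback hP sq) θ.symm)
    (PBundle.isProjBundle_free n (U x))
  rw [show pullback.snd p (U x).ι = h.inv ≫ CohB1.ProjSpaceOver.toBase n (U x) by rw [← hg, Iso.inv_hom_id_assoc]]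
  infer_instance

/-- Over an irreducible base, an open surjection with irreducible fibres has irreducible source. -/
theorem irreducibleSpace_of_fibres {p : P ⟶ X} [IrreducibleSpace X] (ho : IsOpenMap p)
    (hf : ∀ y : X, IrreducibleSpace (p.fiber y)) : IrreducibleSpace P := by
  haveI : Nonempty P := ⟨p.fiberι (Classical.arbitrary X) (hf _).toNonempty.some⟩
  haveI : PreirreducibleSpace P := ⟨fun U V hU hV hU' hV' => by
    obtain ⟨a, -, ha⟩ := hU'
    obtain ⟨b, -, hb⟩ := hV'
    obtain ⟨y, -, ⟨a', ha', ha''⟩, ⟨b', hb', hb''⟩⟩ := (PreirreducibleSpace.isPreirreducible_univ (X := X))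
      (p '' U) (p '' V) (ho U hU) (ho V hV) ⟨p a, trivial, a, ha, rfl⟩ ⟨p b, trivial, b, hb, rfl⟩
    have hmem : ∀ z : P, p z = y → ∃ w : p.fiber y, p.fiberι y w = z := fun z hz => by
      have : z ∈ p ⁻¹' {y} := hz
      rwa [← Scheme.Hom.range_fiberι] at this
    obtain ⟨wa, rfl⟩ := hmem a' ha''
    obtain ⟨wb, rfl⟩ := hmem b' hb''
    haveI := hf y
    obtain ⟨w, -, hwa, hwb⟩ := (PreirreducibleSpace.isPreirreducible_univ (X := p.fiber y))
      (p.fiberι y ⁻¹' U) (p.fiberι y ⁻¹' V) (hU.preimage (p.fiberι y).continuous)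
      (hV.preimage (p.fiberι y).continuous) ⟨wa, trivial, ha'⟩ ⟨wb, trivial, hb'⟩
    exact ⟨p.fiberι y w, trivial, hwa, hwb⟩⟩
  exact { toNonempty := ‹_› }

/-- A projective bundle over an integral scheme is integral. -/
theorem isIntegral_of_isProjBundle [IsIntegral X] {E : X.Modules} {O : P.Modules} {p : P ⟶ X}
    {q : (Scheme.Modules.pullback p).obj E ⟶ O} (hP : KRR.IsProjBundle p E O q) {n : ℕ}
    (hE : FlatMod.IsFinLocFreeOfRank (n + 1) E) : IsIntegral P := by
  haveI := smooth_of_isProjBundle hP hE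
  haveI := AlgSpLib.isReduced_of_smooth p
  haveI : IrreducibleSpace P := irreducibleSpace_of_fibres p.isOpenMap fun y => by
    obtain ⟨φ, -⟩ := hasPnFibres_of_isProjBundle hP hE y
    haveI := Horrocks.isIntegral_projSpace (k := X.residueField y) (n := n)
    exact φ.hom.homeomorph.surjective.irreducibleSpace φ.hom.homeomorph.continuous
  exact isIntegral_of_irreducibleSpace_of_isReduced P

/-- A smooth integral tower on which a module gets a filtration. -/
theorem exists_split_smooth {δ : X → ℤ} (hX : Cyc.IsSetup X δ) : ∀ (r : ℕ) {P : Scheme.{u}} [IsIntegral P]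
    {π : P ⟶ X} [Smooth π] {d : ℕ} (_ : IsSplit π δ d) {E : P.Modules} (_ : FlatMod.IsFinLocFreeOfRank r E),
    ∃ (P' : Scheme.{u}) (π' : P' ⟶ P) (d' : ℕ), IsSplit (π' ≫ π) δ d' ∧ IsIntegral P' ∧ Smooth π' ∧
      HasFilt ((Scheme.Modules.pullback π').obj E) r
  | 0, P, _, π, _, d, h, E, hE => by
    refine ⟨P, 𝟙 P, d, by rwa [Category.id_comp], inferInstance, inferInstance, fun i => i.elim0, fun i => i.elim0,
      ⟨⟨fun _ => (Scheme.Modules.pullback (𝟙 P)).obj E, ?_, Iso.refl _, fun i => i.elim0, fun i => i.elim0,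
        fun i => i.elim0, fun i => i.elim0⟩⟩⟩
    rw [IsZero.iff_id_eq_zero]
    refine eq_zero_of_cover _ fun x => ?_
    obtain ⟨U, hxU, ⟨e⟩⟩ := Nagata.isFinLocFreeOfRank_pullback (𝟙 P) hE x
    refine ⟨U, hxU, IsZero.eq_of_src ?_ _ _⟩
    refine IsZero.of_iso ?_ (((Scheme.Modules.restrictFunctorIsoPullback U.ι).app _).symm ≪≫ e)
    rw [IsZero.iff_id_eq_zero]
    exact Sigma.hom_ext _ _ fun i => i.elim0
  | n + 1, P, _, π, _, d, h, E, hE => by
    obtain ⟨P₁, p, O, q, hP, hp, hproj⟩ := exists_projBundle hE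
    haveI := hp
    haveI := hP.epi
    haveI := smooth_of_isProjBundle hP hE
    haveI := isIntegral_of_isProjBundle hP hE
    have h1 := h.bundle hX hproj hP hE
    have hEp := Nagata.isFinLocFreeOfRank_pullback p hE
    obtain ⟨P', π', d', h2, hint, hsm, hK⟩ := exists_split_smooth hX n h1
      (isFinLocFreeOfRank_kernel q hEp (PBundle.isInvertible hP))
    haveI := hsm
    refine ⟨P', π' ≫ p, d', by rwa [Category.assoc], hint, inferInstance, ?_⟩
    haveI := (Scheme.Modules.pullback π').additive_of_preserves_binary_products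
    have hS : (ShortComplex.mk (kernel.ι q) q (kernel.condition q)).ShortExact :=
      { exact := ShortComplex.exact_kernel q }
    exact (hK.extend (PicLoc.isInvertible_pullback π' (PBundle.isInvertible hP)) _ _ _
      (hS.map_of_exact (Scheme.Modules.pullback π'))).of_iso ((Scheme.Modules.pullbackComp π' p).app E)

end Groth.Agent.CycPB
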