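import Groth.Agent.CycPB.OpsRoots
import Groth.Agent.CycK0.Killed
import Groth.Agent.LocFree.SemiLocal

/-!
Filtrations by invertible modules under arbitrary pull back.
-/

set_option autoImplicit false
set_option linter.unusedSectionVars false
set_option linter.style.haveILetI false
set_option backward.isDefEq.respectTransparency false
set_option backward.isDefEq.respectTransparency.types false

universe u

open CategoryTheory CategoryTheory.Limits AlgebraicGeometry TopologicalSpace Opposite
open Groth.Agent.K0Dev (St)

noncomputable section

namespace Groth.Agent.CycPB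

variable {X Y : Scheme.{u}}

/-- Inverse images preserve short exact sequences with locally free quotient. -/
theorem shortExact_pullback_locFree (f : Y ⟶ X) {S : ShortComplex X.Modules} (hS : S.ShortExact) {n : ℕ}
    (h : FlatMod.IsFinLocFreeOfRank n S.X₃) : (S.map (Scheme.Modules.pullback f)).ShortExact := by
  refine CycK0.shortExact_of_stalks _ fun y => ?_
  have hx : (S.map (St (f y))).ShortExact := hS.map_of_exact (St (f y))
  obtain ⟨W, hW, ⟨e⟩⟩ := h (f y)
  obtain ⟨b⟩ := LocFree.exists_basis_stalk e (CurveRR.isCoh_of_rank h).1 hW
  haveI : Module.Projective (X.presheaf.stalk (f y)) (S.X₃.presheaf.stalk (f y)) := Module.Projective.of_basis b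
  haveI : Projective (S.map (St (f y))).X₃ :=
    (IsProjective.iff_projective (R := X.presheaf.stalk (f y)) (S.X₃.presheaf.stalk (f y))).1 inferInstance
  haveI := hx.mono_f
  haveI := hx.epi_g
  let s : (S.map (St (f y))).Splitting :=
    ShortComplex.Splitting.ofExactOfSection _ hx.exact (Projective.factorThru (𝟙 _) (S.map (St (f y))).g)
      (Projective.factorThru_comp _ _) inferInstance
  let G := ModuleCat.extendScalars.{u, u, u} (f.stalkMap y).hom
  haveI : G.Additive := Functor.additive_of_preserves_binary_products G
  exact ShortComplex.shortExact_of_iso (S.mapNatIso (KFlat.pullStalkIso f y)).symm (s.map G).shortExact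

/-- The filtration pulled back. -/
def Filt.pullAny {E : X.Modules} {r : ℕ} {L : Fin r → X.Modules} (f : Y ⟶ X) (hL : ∀ i, PicF.IsInvertible (L i))
    (F : Filt E r L) : Filt ((Scheme.Modules.pullback f).obj E) r fun i => (Scheme.Modules.pullback f).obj (L i) :=
  haveI := (Scheme.Modules.pullback f).additive_of_preserves_binary_products
  { M := fun i => (Scheme.Modules.pullback f).obj (F.M i)
    zero := (Scheme.Modules.pullback f).map_isZero F.zero
    top := (Scheme.Modules.pullback f).mapIso F.top
    a := fun i => (Scheme.Modules.pullback f).map (F.a i)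
    b := fun i => (Scheme.Modules.pullback f).map (F.b i)
    comp := fun i => by rw [← Functor.map_comp, F.comp, Functor.map_zero]
    exact := fun i => shortExact_pullback_locFree f (F.exact i) (CurveRR.isFinLocFreeOfRank_one (hL i)) }

/-- The steps of a filtration are locally free. -/
theorem Filt.rank {E : X.Modules} {r : ℕ} {L : Fin r → X.Modules} (hL : ∀ i, PicF.IsInvertible (L i))
    (F : Filt E r L) : ∀ i : Fin (r + 1), FlatMod.IsFinLocFreeOfRank (i : ℕ) (F.M i) := by
  refine Fin.induction ?_ fun i ih => ?_
  · intro x
    obtain ⟨U, -, hxU, -⟩ := exists_isAffineOpen_mem_and_subset (U := (⊤ : X.Opens)) (x := x) trivial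
    refine ⟨U, hxU, ⟨((Scheme.Modules.restrictFunctor U.ι).map_isZero F.zero).iso ?_⟩⟩
    rw [IsZero.iff_id_eq_zero]
    exact Sigma.hom_ext _ _ fun i => i.elim0
  · rw [Fin.val_succ]
    exact isFinLocFreeOfRank_middle (F.exact i) ih (CurveRR.isFinLocFreeOfRank_one (hL i))

end Groth.Agent.CycPB
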