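import Groth.Agent.CycPB.OpsTensor
import Groth.Agent.CycPB.FiltPull
import Groth.Agent.ExtShX.RelTensor
import Groth.Agent.W7Hull.InvDual

/-!
Duals of locally free modules: short exact sequences, inverse images and Chern roots.
-/

set_option autoImplicit false
set_option linter.unusedSectionVars false
set_option linter.style.haveILetI false
set_option backward.isDefEq.respectTransparency false
set_option backward.isDefEq.respectTransparency.types false

universe u

open CategoryTheory CategoryTheory.Limits AlgebraicGeometry TopologicalSpace Opposite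
open Groth.Agent.S0927 (tens)
open scoped IsMulCommutative

noncomputable section

namespace Groth.Agent.CycPB

variable {X Y : Scheme.{u}}

/-- The dual. -/
abbrev dualM (E : X.Modules) : X.Modules := (DCoh.sheafHom E).obj (Coh.structureModule X)

/-- A short exact sequence with locally free terms dualises to a short exact sequence. -/
theorem exists_dual_shortExact {S : ShortComplex X.Modules} (hS : S.ShortExact) (h₂ : FlatMod.IsFinLocFree S.X₂)
    (h₃ : FlatMod.IsFinLocFree S.X₃) :
    ∃ (f : dualM S.X₃ ⟶ dualM S.X₂) (g : dualM S.X₂ ⟶ dualM S.X₁) (w : f ≫ g = 0),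
      (ShortComplex.mk f g w).ShortExact := by
  let N := Coh.structureModule X
  let I := injectiveResolution N
  let T := ExtShX.preCx (S := S) I.cocomplex
  have hT : T.ShortExact := ExtShX.preCx_shortExact hS N
  haveI := hT.mono_f
  haveI : Mono (HomologicalComplex.homologyMap T.f 0) :=
    HomologicalComplex.mono_homologyMap_of_mono_of_not_rel T.f 0 fun j h => by simp at h
  have hz : IsZero (T.X₁.homology 1) :=
    (ExtShX.isZero_of_finLocFree S.X₃ h₃ 0 N).of_iso (I.isoRightDerivedObj (DCoh.sheafHom S.X₃) 1).symm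
  haveI : Epi (HomologicalComplex.homologyMap T.g 0) :=
    (hT.homology_exact₃ 0 1 rfl).epi_f (hz.eq_of_tgt _ _)
  have hH : (ShortComplex.mk (HomologicalComplex.homologyMap T.f 0) (HomologicalComplex.homologyMap T.g 0)
      (by rw [← HomologicalComplex.homologyMap_comp, T.zero, HomologicalComplex.homologyMap_zero])).ShortExact :=
    { exact := hT.homology_exact₂ 0 }
  let e := fun F : X.Modules => (ExtShX.zeroIso F N).symm ≪≫ I.isoRightDerivedObj (DCoh.sheafHom F) 0
  refine ⟨(e S.X₃).hom ≫ HomologicalComplex.homologyMap T.f 0 ≫ (e S.X₂).inv,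
    (e S.X₂).hom ≫ HomologicalComplex.homologyMap T.g 0 ≫ (e S.X₁).inv, ?_, ?_⟩
  · simp only [Category.assoc, Iso.inv_hom_id_assoc]
    rw [← HomologicalComplex.homologyMap_comp_assoc, T.zero, HomologicalComplex.homologyMap_zero]
    simp
  · exact ShortComplex.shortExact_of_iso
      (ShortComplex.isoMk (e S.X₃).symm (e S.X₂).symm (e S.X₁).symm (by simp) (by simp)) hH

/-- Tensoring with the unit. -/
def tensorUnitIso (D : X.Modules) : ((DCoh.tensorBi (X := X)).obj D).obj (Coh.structureModule X) ≅ D :=
  ((ExtShX.commNat D).app (Coh.structureModule X)).symm ≪≫ TMul.leftUnitIso D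

theorem isIso_unitMap (f : Y ⟶ X) :
    Nonempty ((Scheme.Modules.pullback f).obj (Coh.structureModule X) ≅ Coh.structureModule Y) := by
  exact ⟨DerPerf.pullUnitIso f⟩

/-- Inverse image commutes with the dual of a locally free module. -/
theorem nonempty_pullback_dual (f : Y ⟶ X) {N : X.Modules} (hN : FlatMod.IsFinLocFree N) :
    Nonempty ((Scheme.Modules.pullback f).obj (RefHull.dual N) ≅ RefHull.dual ((Scheme.Modules.pullback f).obj N)) := by
  have hfN := DerPerf.isFinLocFree_pullback f hN
  let ψ : Scheme.Modules.pushforward f ⋙ DCoh.sheafHom (RefHull.dual N) ≅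
      DCoh.sheafHom (RefHull.dual ((Scheme.Modules.pullback f).obj N)) ⋙ Scheme.Modules.pushforward f :=
    Functor.isoWhiskerLeft _ (ExtShX.tensHomNat hN).symm ≪≫ S0927.projIso f N hN ≪≫
      Functor.isoWhiskerRight (ExtShX.tensHomNat hfN) _
  let adj₁ := (DCoh.sheafHomAdj (RefHull.dual N)).comp (Scheme.Modules.pullbackPushforwardAdjunction f)
  let adj₂ := (Scheme.Modules.pullbackPushforwardAdjunction f).comp
    (DCoh.sheafHomAdj (RefHull.dual ((Scheme.Modules.pullback f).obj N)))
  let e := (adj₁.leftAdjointUniq (adj₂.ofNatIsoRight ψ.symm)).app (Coh.structureModule X)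
  obtain ⟨u⟩ := isIso_unitMap f
  exact ⟨((Scheme.Modules.pullback f).mapIso (tensorUnitIso _)).symm ≪≫ e ≪≫
    ((DCoh.tensorBi (X := Y)).obj _).mapIso u ≪≫ tensorUnitIso _⟩

/-- The abstract dual is the sheaf of linear forms. -/
def dualIso (E : X.Modules) : dualM E ≅ RefHull.dual E := (W7Hull.sheafHomIso E).app (Coh.structureModule X)

theorem nonempty_pullback_dualM (f : Y ⟶ X) {N : X.Modules} (hN : FlatMod.IsFinLocFree N) :
    Nonempty ((Scheme.Modules.pullback f).obj (dualM N) ≅ dualM ((Scheme.Modules.pullback f).obj N)) := by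
  obtain ⟨e⟩ := nonempty_pullback_dual f hN
  exact ⟨(Scheme.Modules.pullback f).mapIso (dualIso N) ≪≫ e ≪≫ (dualIso _).symm⟩

variable {δ : X → ℤ} {hX : Cyc.IsSetup X δ}

/-- The first Chern class of the structure sheaf vanishes. -/
theorem c1R_structure : c1R hX (TMul.isInvertible_structureModule (X := X)) = 0 := by
  have h := c1R_tensor hX (TMul.isInvertible_structureModule (X := X)) TMul.isInvertible_structureModule
  rw [c1R_iso hX _ TMul.isInvertible_structureModule (TMul.leftUnitIso (Coh.structureModule X))] at h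
  exact left_eq_add.1 h

/-- The first Chern class of the dual of an invertible module. -/
theorem c1R_dual {L : X.Modules} (hL : PicF.IsInvertible L) (h : PicF.IsInvertible (RefHull.dual L)) :
    c1R hX h = - c1R hX hL := by
  haveI := W7Hull.isIso_evDual hL
  have h1 := c1R_tensor hX hL h
  rw [c1R_iso hX _ TMul.isInvertible_structureModule (asIso (W7Hull.evDual L)), c1R_structure] at h1
  exact eq_neg_of_add_eq_zero_right h1.symm

/-- The roots of the dual are the negatives of the roots. -/
theorem HasRoots.dual : ∀ {r : ℕ} {E : X.Modules} {L : Fin r → X.Modules} (hL : ∀ i, PicF.IsInvertible (L i))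
    (_ : Filt E r L), HasRoots hX (dualM E) r (Finset.univ.val.map fun i => - c1R hX (hL i))
  | 0, E, L, hL, F => by
    have hz : IsZero E := IsZero.of_iso F.zero F.top.symm
    have hD : IsZero (dualM E) := by
      rw [IsZero.iff_id_eq_zero]
      refine ((DCoh.sheafHomAdj E).homEquiv (dualM E) (Coh.structureModule X)).symm.injective ?_
      exact (IsZero.of_iso (isZero_tensorMod hz (dualM E))
        (((ExtShX.commNat E).app (dualM E)).symm ≪≫ TMul.commIso (dualM E) E)).eq_of_src _ _
    have h0 : FlatMod.IsFinLocFreeOfRank 0 (dualM E) := fun x => by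
      obtain ⟨U, -, hxU, -⟩ := exists_isAffineOpen_mem_and_subset (U := (⊤ : X.Opens)) (x := x) trivial
      refine ⟨U, hxU, ⟨((Scheme.Modules.restrictFunctor U.ι).map_isZero hD).iso ?_⟩⟩
      rw [IsZero.iff_id_eq_zero]
      exact Sigma.hom_ext _ _ fun i => i.elim0
    convert HasRoots.zero (hX := hX) h0 using 1
    rfl
  | r + 1, E, L, hL, F => by
    obtain ⟨G, f, g, w, hS, hG, ⟨F'⟩⟩ := exists_refilt hL F
    have hE : FlatMod.IsFinLocFreeOfRank (r + 1) E :=
      Nagata.isFinLocFreeOfRank_of_iso F.top (by simpa using F.rank hL (Fin.last (r + 1)))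
    have hlf : ∀ {n : ℕ} {M : X.Modules}, FlatMod.IsFinLocFreeOfRank n M → FlatMod.IsFinLocFree M :=
      fun {n M} h x => let ⟨U, h1, h2⟩ := h x; ⟨U, n, h1, h2⟩
    obtain ⟨f', g', w', hS'⟩ := exists_dual_shortExact hS (hlf hE) (hlf hG)
    have hd : PicF.IsInvertible (RefHull.dual (L 0)) := W7Hull.isInvertible_dual (hL 0)
    have h0 : HasRoots hX (dualM (L 0)) 1 {- c1R hX (hL 0)} := by
      rw [← c1R_dual (hL 0) hd]
      exact (HasRoots.line hd).of_iso (dualIso (L 0)).symm
    have h := (HasRoots.dual (fun i => hL (Fin.succ i)) F').of_shortExact h0 f' g' w' hS'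
    convert h using 1
    rw [Fin.univ_succ]
    simp only [Finset.cons_val, Multiset.map_cons, Finset.map_val, Multiset.map_map]
    rw [Multiset.add_comm, Multiset.singleton_add]
    rfl

end Groth.Agent.CycPB
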