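import Groth.Agent.CycPB.Chern
import Groth.Agent.CurveRR.Multi
import Groth.Agent.CycK0.GysFunct

/-!
Chern classes, push forward, flat pull back and Gysin maps.
-/

set_option autoImplicit false
set_option linter.unusedSectionVars false
set_option linter.style.haveILetI false
set_option backward.isDefEq.respectTransparency false
set_option backward.isDefEq.respectTransparency.types false

universe u

open CategoryTheory CategoryTheory.Limits AlgebraicGeometry TopologicalSpace Opposite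
open Groth.Agent.EquidimPt (IsFibMax)
open Groth.Agent.WeakAssLib (mgerm)
open Groth.Agent.CycK0 (resTr resTr_comp)
open Groth.Agent.CycSec (secPull secPull_ne_zero pe)

noncomputable section

namespace Groth.Agent.CycPB

variable {X Y P Q : Scheme.{u}}

/-- Dimension functions in a commutative square. -/
theorem deltaCompat_square {f : X ⟶ Y} {π : P ⟶ Y} {π' : Q ⟶ X} {f' : Q ⟶ P} (w : f' ≫ π = π' ≫ f) {δX : X → ℤ}
    {δY : Y → ℤ} {δP : P → ℤ} {δQ : Q → ℤ} (hf : Cyc.DeltaCompat f δX δY) (hπ : Cyc.DeltaCompat π δP δY)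
    (hπ' : Cyc.DeltaCompat π' δQ δX) : Cyc.DeltaCompat f' δQ δP := fun x => by
  obtain ⟨a, ha, hax⟩ := hπ' x
  obtain ⟨b, hb, hbx⟩ := hf (π' x)
  obtain ⟨c, hc, hcx⟩ := hπ (f' x)
  have h1 := resTr_comp f' π x
  rw [w, resTr_comp π' f x, show resTr f (π' x) = (b : Cardinal.{u}) from hb,
    show resTr π' x = (a : Cardinal.{u}) from ha, show resTr π (f' x) = (c : Cardinal.{u}) from hc] at h1
  obtain ⟨d, hd⟩ : ∃ d : ℕ, resTr f' x = (d : Cardinal.{u}) := Cardinal.lt_aleph0.1 (lt_of_le_of_lt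
    (show resTr f' x ≤ ((b + a : ℕ) : Cardinal.{u}) by push_cast; rw [h1]; exact le_add_self)
    Cardinal.natCast_lt_aleph0)
  refine ⟨d, hd, ?_⟩
  rw [hd] at h1
  have e : b + a = c + d := by exact_mod_cast h1
  have hp : π (f' x) = f (π' x) := by
    show (f' ≫ π) x = (π' ≫ f) x
    rw [w]
  rw [hp] at hcx
  omega

variable {δX : X → ℤ} {δY : Y → ℤ} {δP : P → ℤ} {δQ : Q → ℤ} {k : ℤ}

/-- Flat pull back of cycle functions. -/
lemma Cy.pullR (hQ : Cyc.IsSetup Q δQ) (f : Q ⟶ P) [LocallyOfFiniteType f] [IsLocallyNoetherian P] {c : ℕ}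
    (hδ : Cyc.DeltaCompat f δQ δP) (hr : Cyc.HasRelDim f c) {a : P → ℤ} (ha : Cy δP k a) :
    Cy δQ (k + c) (Cyc.pullFun f δQ δP c a) := by
  haveI := hQ.1
  obtain ⟨A, rfl, hA⟩ := ha
  obtain ⟨C, hC⟩ := CycK0.exists_cycle_affine (Cyc.pullFun f δQ δP c ⇑A) fun {U} hU =>
    CycSec.finite_pullFun_cycle f hQ.2.2 (fun x hx => ((CycDim.delta_le f hδ hr x).2).2 hx) A hU
  refine ⟨C, hC, fun x hx => ?_⟩
  rw [hC]
  unfold Cyc.pullFun
  split
  · next h => rw [hA (f x) (fun e => hx (by omega)), zero_mul]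
  · rfl

lemma RZ.pullR (hP : Cyc.IsSetup P δP) (hQ : Cyc.IsSetup Q δQ) (f : Q ⟶ P) [Flat f] [LocallyOfFiniteType f] {c : ℕ}
    (hδ : Cyc.DeltaCompat f δQ δP) (hr : Cyc.HasRelDim f c) {a : P → ℤ} (ha : RZ δP k a) :
    RZ δQ (k + c) (Cyc.pullFun f δQ δP c a) := by
  haveI := hP.1
  haveI := hQ.1
  obtain ⟨A, rfl, hA, hA'⟩ := ha
  obtain ⟨C, hC, hC'⟩ := (Cy.mk hA).pullR hQ f hδ hr
  exact ⟨C, hC, hC', CycPull.ratEquivZero_pull f hQ.2.2 hP.2.2
    (fun x hx => ((CycDim.delta_le f hδ hr x).2).2 hx) hA' hC⟩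

/-- Flat pull back commutes with powers. -/
theorem pullFun_c1Pow (hP : Cyc.IsSetup P δP) (hQ : Cyc.IsSetup Q δQ) (f : Q ⟶ P) [Flat f] [LocallyOfFiniteType f]
    {c : ℕ} (hδ : Cyc.DeltaCompat f δQ δP) (hr : Cyc.HasRelDim f c) {O : P.Modules} (hO : PicF.IsInvertible O)
    (t : ℕ → (ξ : P) → Cyc.secFibre O ξ) (ht : ∀ i ξ, t i ξ ≠ 0) {b : P → ℤ} (hb : Cy δP k b) : ∀ i : ℕ,
    Cyc.pullFun f δQ δP c (Cyc.c1PowFun δP O t i b) =
      Cyc.c1PowFun δQ ((Scheme.Modules.pullback f).obj O) (fun l ξ => secPull f ξ (t l (f ξ))) i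
        (Cyc.pullFun f δQ δP c b)
  | 0 => rfl
  | i + 1 => by
    haveI := hP.1
    haveI := hQ.1
    obtain ⟨B, hB, -⟩ := hb.pow hP hO ht i
    show Cyc.pullFun f δQ δP c (Cyc.c1CapFun δP O (Cyc.c1PowFun δP O t i b) (t i)) = _
    rw [← hB, CycSec.pullFun_c1CapFun f hQ.2.2 hP.2.2 (fun x hx => ((CycDim.delta_le f hδ hr x).2).2 hx) hO B (t i)
      (ht i), hB, pullFun_c1Pow hP hQ f hδ hr hO t ht hb i]
    rfl

/-- Proper push forward commutes with powers. -/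
theorem pushF_c1Pow (hP : Cyc.IsSetup P δP) (hQ : Cyc.IsSetup Q δQ) (f : Q ⟶ P) [IsProper f]
    (hδ : Cyc.DeltaCompat f δQ δP) {O : P.Modules} (hO : PicF.IsInvertible O)
    (t : ℕ → (ξ : P) → Cyc.secFibre O ξ) (ht : ∀ i ξ, t i ξ ≠ 0) {b : Q → ℤ} (hb : Cy δQ k b) : ∀ i : ℕ,
    pushF f δQ δP (Cyc.c1PowFun δQ ((Scheme.Modules.pullback f).obj O) (fun l ξ => secPull f ξ (t l (f ξ))) i b) =
      Cyc.c1PowFun δP O t i (pushF f δQ δP b)
  | 0 => rfl
  | i + 1 => by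
    haveI := hP.1
    haveI := hQ.1
    obtain ⟨B, hB, -⟩ := hb.pow hQ (PicLoc.isInvertible_pullback f hO)
      (t := fun l ξ => secPull f ξ (t l (f ξ))) (fun l ξ => secPull_ne_zero f hO ξ (ht _ _)) i
    funext y
    show pushF f δQ δP (Cyc.c1CapFun δQ _ (Cyc.c1PowFun δQ _ _ i b) (fun ξ => secPull f ξ (t i (f ξ)))) y = _
    rw [← hB]
    refine (CycK0.push_c1CapFun f hQ.2.2 hP.2.2 hδ hO B (t i) (ht i) y).trans ?_
    show Cyc.c1CapFun δP O ⇑(AlgebraicCycle.map f δQ δP B) (t i) y = Cyc.c1CapFun δP O _ (t i) y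
    rw [← pushF_c1Pow hP hQ f hδ hO t ht hb i, ← hB]
    rfl

/-- The pulled back section cuts out the inverse image. -/
theorem isZeroSchemeOf_pullback [IsLocallyNoetherian Q] (g : Q ⟶ X) {D T : Scheme.{u}} {i : D ⟶ X} [IsClosedImmersion i]
    {j : T ⟶ Q} {gD : T ⟶ D} (hsq : IsPullback j gD g i) {L : X.Modules} (hL : PicF.IsInvertible L)
    {s : Γ(L, (⊤ : X.Opens))} (hD : Cyc.IsZeroSchemeOf i L s) :
    ∃ σ : Γ((Scheme.Modules.pullback g).obj L, (⊤ : Q.Opens)),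
      Cyc.IsZeroSchemeOf j ((Scheme.Modules.pullback g).obj L) σ ∧
      ∀ (w : (ξ : X) → Cyc.secFibre L ξ) (ξ : Q),
        Cyc.gysinChoice ((Scheme.Modules.pullback g).obj L) σ (fun ξ => secPull g ξ (Cyc.gysinChoice L s w (g ξ))) ξ =
          secPull g ξ (Cyc.gysinChoice L s w (g ξ)) := by
  let L' := (Scheme.Modules.pullback g).obj L
  let σ : Γ(L', (⊤ : Q.Opens)) := pe g (A := ⊤) s
  have key : ∀ (x : Q) {A : X.Opens} {e : Γ(L, A)} (hx : g x ∈ A) {c : X.presheaf.stalk (g x)},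
      mgerm L (show g x ∈ (⊤ : X.Opens) from trivial) s = c • mgerm L hx e →
      mgerm L' (show x ∈ (⊤ : Q.Opens) from trivial) σ =
        (g.stalkMap x).hom c • mgerm L' (show x ∈ g ⁻¹ᵁ A from hx) (pe g e) := fun x A e hx c hc => by
    refine (KFlat.kap_germ g x L ⊤ (show g x ∈ (⊤ : X.Opens) from trivial) s).symm.trans ?_
    refine (congrArg (KFlat.kap g x L) hc).trans ((KFlat.kap_smul g x L c _).trans ?_)
    exact congrArg (_ • ·) (KFlat.kap_germ g x L A hx e)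
  have hrange : ∀ x, x ∈ Set.range (pullback.fst g i) ↔ g x ∈ Set.range i := fun x => by
    rw [Scheme.Pullback.range_fst]
    rfl
  have hz : Cyc.IsZeroSchemeOf (pullback.fst g i) L' σ := by
    refine ⟨?_, fun z => ?_⟩
    · ext x
      rw [hrange]
      obtain ⟨A, e, hx, he, c, hc⟩ := CycK0.exists_coefficient hL s (g x)
      have he' := CycSec.isGen_pe g he
      show _ ↔ (Submodule.Quotient.mk (mgerm L' (show x ∈ (⊤ : Q.Opens) from trivial) σ) : Cyc.secFibre L' x) = 0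
      rw [key x hx hc]
      constructor
      · intro h
        refine (Submodule.Quotient.mk_eq_zero _).2 (Submodule.smul_mem_smul ((IsLocalRing.mem_maximalIdeal _).2
          fun hu => ?_) Submodule.mem_top)
        rw [hD.1] at h
        refine C1Cap.mk_gen_ne_zero he hx ((isUnit_map_iff (g.stalkMap x).hom c).1 hu) ?_
        rw [← hc]
        exact h
      · intro h
        by_contra hx'
        exact C1Cap.mk_gen_ne_zero he' (show x ∈ g ⁻¹ᵁ A from hx)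
          ((CycK0.isUnit_of_notMem hD hx' hx hc).map (g.stalkMap x).hom) h
    · let x := pullback.fst g i z
      have hw : i ((pullback.snd g i) z) = g x := by
        show (pullback.snd g i ≫ i) z = (pullback.fst g i ≫ g) z
        rw [pullback.condition]
      obtain ⟨A, e, hx, he, c, hc⟩ := CycK0.exists_coefficient hL s (g x)
      refine ⟨mgerm L' (show x ∈ g ⁻¹ᵁ A from hx) (pe g e), (g.stalkMap x).hom c, ?_, key x hx hc, ?_⟩
      · refine Submodule.eq_top_iff'.2 fun v => Submodule.mem_span_singleton.2 ?_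
        exact (RefDiv.bijective_germ_of_isGen (CycSec.isGen_pe g he) (show x ∈ g ⁻¹ᵁ A from hx)).2 v
      · rw [CycK0.ker_pullback_fst g i z hw, CycK0.ker_stkHom_eq_span hD _ hw he hx hc, Ideal.map_span,
          Set.image_singleton]
  refine ⟨σ, ?_, fun w ξ => ?_⟩
  · have h := CycK0.isZeroSchemeOf_iso hsq.isoPullback hz
    rwa [hsq.isoPullback_hom_fst] at h
  · unfold Cyc.gysinChoice
    split
    swap
    · rfl
    next h =>
      have hξ : g ξ ∉ Set.range i := fun h' => by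
        have h1 : ξ ∈ Set.range (pullback.fst g i) := (hrange ξ).2 h'
        rw [hz.1] at h1
        exact h h1
      rw [hD.1] at hξ
      refine Eq.trans ?_ (congrArg (secPull g ξ) (if_pos hξ).symm)
      obtain ⟨A, e, hx, he, c, hc⟩ := CycK0.exists_coefficient hL s (g ξ)
      show (Submodule.Quotient.mk (mgerm L' (show ξ ∈ (⊤ : Q.Opens) from trivial) σ) : Cyc.secFibre L' ξ) = _
      rw [key ξ hx hc, Submodule.Quotient.mk_smul, CycSec.secPull_eq g e ξ hx (φ := c) (by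
        rw [← Submodule.Quotient.mk_smul, ← hc])]

/-- Pull back and restriction to closed subschemes. -/
theorem pullFun_restrict (g : Q ⟶ X) {D T : Scheme.{u}} {i : D ⟶ X} [IsClosedImmersion i]
    {j : T ⟶ Q} [IsClosedImmersion j] {gD : T ⟶ D} (hsq : IsPullback j gD g i) (δX : X → ℤ) (δQ : Q → ℤ) (c : ℤ)
    (b : X → ℤ) (z : T) :
    Cyc.pullFun gD (fun z => δQ (j z)) (fun d => δX (i d)) c (fun d => b (i d)) z =
      Cyc.pullFun g δQ δX c b (j z) := by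
  have hp : g (j z) = i (gD z) := by
    show (j ≫ g) z = (gD ≫ i) z
    rw [hsq.w]
  have hd : i.residueDegree (gD z) = 1 :=
    CycDeg.residueDegree_eq_one i (CycPush.residueFieldMap_surjective_pre i _)
  have hfin : (i.residueFieldMap (gD z)).hom.Finite :=
    RingHom.Finite.of_surjective _ (CycPush.residueFieldMap_surjective_pre i _)
  obtain ⟨-, hk⟩ := CycFin.fibre_key hsq.flip (gD z) hfin (j z) hp
  rw [show {y' : T | gD y' = gD z ∧ j y' = j z} = {z} from Set.ext fun y =>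
      ⟨fun h => j.isClosedEmbedding.injective h.2, fun h => by rw [Set.mem_singleton_iff.1 h]; exact ⟨rfl, rfl⟩⟩,
    finsum_mem_singleton, CycDeg.residueDegree_eq_one j (CycPush.residueFieldMap_surjective_pre j _), hd,
    mul_one, mul_one] at hk
  show (if δQ (j z) = δX (i (gD z)) + c then b (i (gD z)) * ((CycFin.fibLen gD z).toNat : ℤ) else 0) =
    (if δQ (j z) = δX (g (j z)) + c then b (g (j z)) * ((CycFin.fibLen g (j z)).toNat : ℤ) else 0)
  rw [hk, hp]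

variable {E : Y.Modules} {O : P.Modules} {r : ℕ}

set_option maxHeartbeats 1000000 in
/-- Chern classes and flat pull back. -/
theorem chern_pull (hX : Cyc.IsSetup X δX) (hY : Cyc.IsSetup Y δY) (f : X ⟶ Y) [Flat f] [LocallyOfFiniteType f]
    {c : ℕ} (hc : Cyc.HasRelDim f c) (hf : Cyc.DeltaCompat f δX δY) (π : P ⟶ Y) [IsProper π]
    {q : (Scheme.Modules.pullback π).obj E ⟶ O} (hPB : KRR.IsProjBundle π E O q)
    (hE : FlatMod.IsFinLocFreeOfRank r E) (hP : Cyc.IsSetup P δP) (hπ : Cyc.DeltaCompat π δP δY) (π' : Q ⟶ X)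
    (f' : Q ⟶ P) (hsq : IsPullback f' π' π f) (hQ : Cyc.IsSetup Q δQ) (hπ' : Cyc.DeltaCompat π' δQ δX)
    {α : AlgebraicCycle Y ℤ} (αX : AlgebraicCycle X ℤ) (hαX : ⇑αX = Cyc.pullFun f δX δY c ⇑α)
    (γ : Fin (r + 1) → AlgebraicCycle Y ℤ) (hγ : Cyc.IsChernCap π δY δP O r k α γ)
    (γ' : Fin (r + 1) → AlgebraicCycle X ℤ)
    (hγ' : Cyc.IsChernCap π' δX δQ ((Scheme.Modules.pullback f').obj O) r (k + c) αX γ')
    (β : Fin (r + 1) → AlgebraicCycle X ℤ) (hβ : ∀ j, ⇑(β j) = Cyc.pullFun f δX δY c ⇑(γ j))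
    (j : Fin (r + 1)) : Cyc.RatEquiv δX (k + c - ((j : ℕ) : ℤ)) (β j) (γ' j) := by
  haveI := hX.1
  haveI := hY.1
  haveI := hP.1
  haveI := hQ.1
  haveI : IsProper π' := MorphismProperty.of_isPullback hsq ‹_›
  haveI : Flat f' := MorphismProperty.of_isPullback hsq.flip ‹_›
  haveI : LocallyOfFiniteType f' := MorphismProperty.of_isPullback hsq.flip ‹_›
  have hf' : Cyc.DeltaCompat f' δQ δP := deltaCompat_square hsq.w hf hπ hπ'
  have hc' : Cyc.HasRelDim f' c := (S9358.result f π π' f' hsq.flip c).2.2 hc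
  have hPB' := PBundle.of_isPullback hPB hsq
  have hE' := CurveRR.Multi.isFinLocFreeOfRank_pullback f hE
  have hO := PBundle.isInvertible hPB
  have hO' := PBundle.isInvertible hPB'
  have hβk : ∀ j : Fin (r + 1), β j ∈ Cyc.Zk X δX (k + c - ((j : ℕ) : ℤ)) := fun j => by
    obtain ⟨C, hC, hC'⟩ := (Cy.mk (hγ.2.1 j)).pullR hX f hf hc
    intro x hx
    rw [hβ j, ← hC]
    exact hC' x (fun e => hx (by omega))
  obtain ⟨t, ht⟩ := exists_sections hO
  refine chern_eq hX hQ hπ' hPB' hE' hγ' β hβk ?_ (fun _ ξ => secPull f' ξ (t (f' ξ)))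
    (fun _ ξ => secPull_ne_zero f' hO ξ (ht _)) (fun hr => ?_) j
  · rw [hβ, hαX, hγ.1]
    simpa using RZ.zero
  obtain ⟨n, rfl⟩ : ∃ n, r = n + 1 := ⟨r - 1, by omega⟩
  have hn := hasRelDim_of_hasPnFibres (hasPnFibres_of_isProjBundle hPB hE)
  have hn' := hasRelDim_of_hasPnFibres (hasPnFibres_of_isProjBundle hPB' hE')
  haveI := flat_of_isProjBundle hPB hE
  haveI := flat_of_isProjBundle hPB' hE'
  have h := (chern_rel hY hP hπ hO (fibres_of_isProjBundle hPB hE).2 hγ (fun _ => t) (fun _ => ht) hr).pullR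
    hP hQ f' hf' hc'
  rw [show k - 1 + (c : ℤ) = k + c - 1 by ring] at h
  refine (Eq.mp (congrArg (RZ δQ (k + c - 1)) (funext fun y => ?_)) h)
  rw [show Cyc.pullFun f' δQ δP c (fun y => ∑ i : Fin (n + 1 + 1),
      term π δP δY O (fun _ => t) (n + 1) i (⇑(γ (Fin.rev i))) y) y = ∑ i : Fin (n + 1 + 1),
      Cyc.pullFun f' δQ δP c (term π δP δY O (fun _ => t) (n + 1) i (⇑(γ (Fin.rev i)))) y by
    unfold Cyc.pullFun
    split
    · exact Finset.sum_mul _ _ _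
    · exact Finset.sum_const_zero.symm]
  refine Finset.sum_congr rfl fun i _ => ?_
  unfold term
  have e1 : Cyc.pullFun f' δQ δP c (fun z => (-1 : ℤ) ^ (i : ℕ) *
      Cyc.c1PowFun δP O (fun _ => t) i (Cyc.pullFun π δP δY (((n + 1 : ℕ) : ℤ) - 1) ⇑(γ (Fin.rev i))) z) y =
      (-1 : ℤ) ^ (i : ℕ) * Cyc.pullFun f' δQ δP c
        (Cyc.c1PowFun δP O (fun _ => t) i (Cyc.pullFun π δP δY (((n + 1 : ℕ) : ℤ) - 1) ⇑(γ (Fin.rev i)))) y := by
    unfold Cyc.pullFun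
    split
    · exact mul_assoc _ _ _
    · rw [mul_zero]
  rw [e1, show ((n + 1 : ℕ) : ℤ) - 1 = n by push_cast; ring,
    pullFun_c1Pow hP hQ f' hf' hc' hO (fun _ => t) (fun _ => ht) ((Cy.mk (hγ.2.1 (Fin.rev i))).pull hP hπ hn) i, hβ]
  have hcf : ∀ x, IsFibMax f x → δX x = δY (f x) + c := fun x hx => ((CycDim.delta_le f hf hc x).2).2 hx
  have hcf' : ∀ x, IsFibMax f' x → δQ x = δP (f' x) + c := fun x hx => ((CycDim.delta_le f' hf' hc' x).2).2 hx
  have hcp : ∀ x, IsFibMax π x → δP x = δY (π x) + n := fun x hx => ((CycDim.delta_le π hπ hn x).2).2 hx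
  have hcp' : ∀ x, IsFibMax π' x → δQ x = δX (π' x) + n := fun x hx => ((CycDim.delta_le π' hπ' hn' x).2).2 hx
  rw [← CycPull.pullFun_comp π f' hQ.2.2 hcp hcf', ← CycPull.pullFun_comp f π' hQ.2.2 hcf hcp', add_comm (n : ℤ),
    hsq.w]

set_option maxHeartbeats 1000000 in
/-- Chern classes and proper push forward. -/
theorem chern_push (hX : Cyc.IsSetup X δX) (hY : Cyc.IsSetup Y δY) (f : X ⟶ Y) [IsProper f]
    (hf : Cyc.DeltaCompat f δX δY) (π : P ⟶ Y) [IsProper π]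
    {q : (Scheme.Modules.pullback π).obj E ⟶ O} (hPB : KRR.IsProjBundle π E O q)
    (hE : FlatMod.IsFinLocFreeOfRank r E) (hP : Cyc.IsSetup P δP) (hπ : Cyc.DeltaCompat π δP δY) (π' : Q ⟶ X)
    (f' : Q ⟶ P) (hsq : IsPullback f' π' π f) (hQ : Cyc.IsSetup Q δQ) (hπ' : Cyc.DeltaCompat π' δQ δX)
    {α : AlgebraicCycle X ℤ} (γ : Fin (r + 1) → AlgebraicCycle X ℤ)
    (hγ : Cyc.IsChernCap π' δX δQ ((Scheme.Modules.pullback f').obj O) r k α γ)
    (γ' : Fin (r + 1) → AlgebraicCycle Y ℤ)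
    (hγ' : Cyc.IsChernCap π δY δP O r k (AlgebraicCycle.map f δX δY α) γ')
    (j : Fin (r + 1)) : Cyc.RatEquiv δY (k - ((j : ℕ) : ℤ)) (AlgebraicCycle.map f δX δY (γ j)) (γ' j) := by
  haveI := hX.1
  haveI := hY.1
  haveI := hP.1
  haveI := hQ.1
  haveI : IsProper π' := MorphismProperty.of_isPullback hsq ‹_›
  haveI : IsProper f' := MorphismProperty.of_isPullback hsq.flip ‹_›
  have hf' : Cyc.DeltaCompat f' δQ δP := deltaCompat_square hsq.w hf hπ hπ'
  have hPB' := PBundle.of_isPullback hPB hsq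
  have hE' := CurveRR.Multi.isFinLocFreeOfRank_pullback f hE
  have hO := PBundle.isInvertible hPB
  have hO' := PBundle.isInvertible hPB'
  have hk : ∀ j : Fin (r + 1), AlgebraicCycle.map f δX δY (γ j) ∈ Cyc.Zk Y δY (k - ((j : ℕ) : ℤ)) := fun j y hy =>
    finsum_mem_eq_zero_of_forall_eq_zero fun x hx => by_contra fun h => by
      have h1 := by_contra fun h0 => left_ne_zero_of_mul h (hγ.2.1 j x h0)
      have h2 := right_ne_zero_of_mul h
      by_cases h3 : δX x = δY (f x)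
      · exact hy (by rw [← show f x = y from hx, ← h3, h1])
      · exact h2 (by simp only [AlgebraicCycle.mapCoeff, if_neg h3, Nat.cast_zero])
  obtain ⟨t, ht⟩ := exists_sections hO
  refine chern_eq hY hP hπ hPB hE hγ' (fun j => AlgebraicCycle.map f δX δY (γ j)) hk ?_ (fun _ => t)
    (fun _ => ht) (fun hr => ?_) j
  · rw [hγ.1]
    simpa using RZ.zero
  obtain ⟨n, rfl⟩ : ∃ n, r = n + 1 := ⟨r - 1, by omega⟩
  have hn := hasRelDim_of_hasPnFibres (hasPnFibres_of_isProjBundle hPB hE)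
  have hn' := hasRelDim_of_hasPnFibres (hasPnFibres_of_isProjBundle hPB' hE')
  haveI := flat_of_isProjBundle hPB hE
  haveI := flat_of_isProjBundle hPB' hE'
  let t' : ℕ → (ξ : Q) → Cyc.secFibre ((Scheme.Modules.pullback f').obj O) ξ := fun _ ξ => secPull f' ξ (t (f' ξ))
  have ht' : ∀ l ξ, t' l ξ ≠ 0 := fun _ ξ => secPull_ne_zero f' hO ξ (ht _)
  have hT : ∀ i : Fin (n + 1 + 1), Cy δQ (k - 1)
      (term π' δQ δX ((Scheme.Modules.pullback f').obj O) t' (n + 1) i ⇑(γ (Fin.rev i))) := fun i => by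
    refine Cy.term hX hQ hπ' hn' hO' ht' i ⟨_, rfl, ?_⟩
    have h := hγ.2.1 (Fin.rev i)
    have hlt := i.2
    rwa [show k - ((Fin.rev i : Fin (n + 1 + 1)) : ℕ) = k - ((n + 1 : ℕ) : ℤ) + (i : ℕ) by
      simp only [Fin.val_rev]; omega] at h
  have h := (chern_rel hX hQ hπ' hO' (fibres_of_isProjBundle hPB' hE').2 hγ t' ht' hr).push f' hP hQ hf'
  refine (Eq.mp (congrArg (RZ δP (k - 1)) (funext fun y => ?_)) h)
  rw [pushF_sum f' Finset.univ (fun i _ => hT i) y]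
  refine Finset.sum_congr rfl fun i _ => ?_
  unfold term
  rw [show ((n + 1 : ℕ) : ℤ) - 1 = n by push_cast; ring]
  have hcp : ∀ x, IsFibMax π x → δP x = δY (π x) + n := fun x hx => ((CycDim.delta_le π hπ hn x).2).2 hx
  have hcp' : ∀ x, IsFibMax π' x → δQ x = δX (π' x) + n := fun x hx => ((CycDim.delta_le π' hπ' hn' x).2).2 hx
  have e2 : Cyc.pullFun π δP δY n ⇑(AlgebraicCycle.map f δX δY (γ (Fin.rev i))) =
      pushF f' δQ δP (Cyc.pullFun π' δQ δX n ⇑(γ (Fin.rev i))) := funext fun z =>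
    CycFin.push_pull hsq.flip hP.2.2 hQ.2.2 hf hf' hcp hcp' _ z
  rw [e2, ← pushF_c1Pow hP hQ f' hf' hO (fun _ => t) (fun _ => ht) ((Cy.mk (hγ.2.1 (Fin.rev i))).pull hQ hπ' hn') i]
  unfold pushF
  rw [mul_finsum_mem]
  exact finsum_mem_congr rfl fun x _ => mul_assoc _ _ _

set_option maxHeartbeats 1000000 in
/-- Chern classes and Gysin maps. -/
theorem chern_gysin (hY : Cyc.IsSetup Y δY) (π : P ⟶ Y) [IsProper π]
    {q : (Scheme.Modules.pullback π).obj E ⟶ O} (hPB : KRR.IsProjBundle π E O q)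
    (hE : FlatMod.IsFinLocFreeOfRank r E) (hP : Cyc.IsSetup P δP) (hπ : Cyc.DeltaCompat π δP δY)
    {L : Y.Modules} (hL : PicF.IsInvertible L) {s : Γ(L, (⊤ : Y.Opens))} {D T : Scheme.{u}} {i : D ⟶ Y}
    [IsClosedImmersion i] (hD : Cyc.IsZeroSchemeOf i L s) (pD : T ⟶ D) (i' : T ⟶ P) (hsq : IsPullback i' pD π i)
    (w : (ξ : Y) → Cyc.secFibre L ξ) (hw : ∀ ξ, w ξ ≠ 0) {α : AlgebraicCycle Y ℤ}
    (γ : Fin (r + 1) → AlgebraicCycle Y ℤ) (hγ : Cyc.IsChernCap π δY δP O r k α γ) (αD : AlgebraicCycle D ℤ)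
    (hαD : ∀ d, αD d = Cyc.c1CapFun δY L ⇑α (Cyc.gysinChoice L s w) (i d))
    (γ' : Fin (r + 1) → AlgebraicCycle D ℤ)
    (hγ' : Cyc.IsChernCap pD (fun d => δY (i d)) (fun y => δP (i' y)) ((Scheme.Modules.pullback i').obj O) r
      (k - 1) αD γ')
    (ζ : Fin (r + 1) → AlgebraicCycle D ℤ)
    (hζ : ∀ j d, ζ j d = Cyc.c1CapFun δY L ⇑(γ j) (Cyc.gysinChoice L s w) (i d)) (j : Fin (r + 1)) :
    Cyc.RatEquiv (fun d => δY (i d)) (k - 1 - ((j : ℕ) : ℤ)) (ζ j) (γ' j) := by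
  haveI := hY.1
  haveI := hP.1
  haveI : IsClosedImmersion i' := MorphismProperty.of_isPullback hsq.flip ‹_›
  haveI : IsLocallyNoetherian D := LocallyOfFiniteType.isLocallyNoetherian i
  haveI : IsLocallyNoetherian T := LocallyOfFiniteType.isLocallyNoetherian i'
  haveI : IsProper pD := MorphismProperty.of_isPullback hsq ‹_›
  let δD : D → ℤ := fun d => δY (i d)
  let δT : T → ℤ := fun z => δP (i' z)
  have hDs := CycK0.isSetup_closed i hY
  have hTs := CycK0.isSetup_closed i' hP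
  have hpD : Cyc.DeltaCompat pD δT δD := deltaCompat_square hsq.w.symm hπ
    (CycPush.deltaCompat_preimmersion i δY) (CycPush.deltaCompat_preimmersion i' δP)
  have hPB' := PBundle.of_isPullback hPB hsq
  have hE' := CurveRR.Multi.isFinLocFreeOfRank_pullback i hE
  have hO := PBundle.isInvertible hPB
  have hO' := PBundle.isInvertible hPB'
  obtain ⟨t, ht⟩ := exists_sections hO
  let t' : ℕ → (ξ : T) → Cyc.secFibre ((Scheme.Modules.pullback i').obj O) ξ := fun _ ξ => secPull i' ξ (t (i' ξ))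
  have ht' : ∀ l ξ, t' l ξ ≠ 0 := fun _ ξ => secPull_ne_zero i' hO ξ (ht _)
  let v := Cyc.gysinChoice L s w
  have hv : ∀ ξ, v ξ ≠ 0 := CycK0.gysinChoice_ne_zero hw
  have hζk : ∀ j : Fin (r + 1), ζ j ∈ Cyc.Zk D δD (k - 1 - ((j : ℕ) : ℤ)) := fun j d hd => by
    by_contra h
    rw [hζ] at h
    refine hd (CycK0.cap_level (δ := δY) (m := k - 1 - ((j : ℕ) : ℤ)) Set.univ isClosed_univ (fun x hx => ?_)
      (fun _ _ => trivial) (i d) h).1
    have := by_contra fun h => hx (hγ.2.1 j x h)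
    omega
  refine chern_eq hDs hTs hpD hPB' hE' hγ' ζ hζk ?_ t' ht' (fun hr => ?_) j
  · simp only [hζ, hγ.1, hαD, sub_self]
    exact RZ.zero
  obtain ⟨n, rfl⟩ : ∃ n, r = n + 1 := ⟨r - 1, by omega⟩
  have hn := hasRelDim_of_hasPnFibres (hasPnFibres_of_isProjBundle hPB hE)
  have hn' := hasRelDim_of_hasPnFibres (hasPnFibres_of_isProjBundle hPB' hE')
  haveI := flat_of_isProjBundle hPB hE
  let L' := (Scheme.Modules.pullback π).obj L
  have hL' : PicF.IsInvertible L' := PicLoc.isInvertible_pullback π hL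
  obtain ⟨σ, hσ, hgc⟩ := isZeroSchemeOf_pullback π hsq hL hD
  let v' : (ξ : P) → Cyc.secFibre L' ξ := fun ξ => secPull π ξ (v (π ξ))
  have hv' : ∀ ξ, v' ξ ≠ 0 := fun ξ => secPull_ne_zero π hL ξ (hv _)
  have hgv : Cyc.gysinChoice L' σ v' = v' := funext fun ξ => hgc w ξ
  -- the map to the divisor
  let Ψ : (P → ℤ) → T → ℤ := fun b z => Cyc.c1CapFun δP L' b v' (i' z)
  have ΨRZ : ∀ {l : ℤ} {b : P → ℤ}, RZ δP (l + 1) b → RZ δT l (Ψ b) := fun {l b} hb => by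
    obtain ⟨B, rfl, hB, hB'⟩ := hb
    obtain ⟨C, hC, hC'⟩ := (Cy.mk hB).cap hP hL' hv'
    obtain ⟨G, hG⟩ := CycK0.exists_comap (i := i') C
    exact ⟨G, funext fun z => by rw [hG, hC], fun z hz => by rw [hG]; exact hC' _ hz,
      CycK0.gysin_ratEquivZero hP hL' hσ hB' v' hv' G fun z => by rw [hG, hC, hgv]⟩
  -- the map commutes with powers
  have comm : ∀ (l : ℤ) (b : P → ℤ), Cy δP l b → ∀ m : ℕ, ∃ A B : T → ℤ, A = Ψ (Cyc.c1PowFun δP O (fun _ => t) m b) ∧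
      B = Cyc.c1PowFun δT _ t' m (Ψ b) ∧ Cy δT (l - 1 - m) A ∧ Cy δT (l - 1 - m) B ∧
      RZ δT (l - 1 - m) fun z => A z - B z := by
    intro l b hb m
    have cyΨ : ∀ {l : ℤ} {b : P → ℤ}, Cy δP (l + 1) b → Cy δT l (Ψ b) := fun {l b} hb => by
      obtain ⟨C, hC, hC'⟩ := hb.cap hP hL' hv'
      obtain ⟨G, hG⟩ := CycK0.exists_comap (i := i') C
      exact ⟨G, funext fun z => by rw [hG, hC], fun z hz => by rw [hG]; exact hC' _ hz⟩
    refine ⟨_, _, rfl, rfl, ?_⟩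
    have hA : ∀ m : ℕ, Cy δT (l - 1 - m) (Ψ (Cyc.c1PowFun δP O (fun _ => t) m b)) := fun m => by
      refine cyΨ ?_
      have := hb.pow hP hO (t := fun _ => t) (fun _ => ht) m
      rwa [show l - (m : ℤ) = l - 1 - m + 1 by ring] at this
    have hB : ∀ m : ℕ, Cy δT (l - 1 - m) (Cyc.c1PowFun δT _ t' m (Ψ b)) := fun m =>
      (cyΨ (l := l - 1) (by rwa [sub_add_cancel])).pow hTs hO' ht' m
    refine ⟨hA m, hB m, ?_⟩
    induction m with
    | zero =>
      simp only [Cyc.c1PowFun, sub_self]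
      exact RZ.zero
    | succ m ih =>
      obtain ⟨Bm, hBm, hBmk⟩ := hb.pow hP hO (t := fun _ => t) (fun _ => ht) m
      obtain ⟨G₁, hG₁, -⟩ := hA (m + 1)
      have hl : l - 1 - ((m + 1 : ℕ) : ℤ) + 1 = l - 1 - m := by push_cast; ring
      have hAm := hA m
      rw [← hl] at hAm
      obtain ⟨G₂, hG₂, hG₂k⟩ := hAm.cap hTs hO' (v := t' m) (ht' m)
      obtain ⟨G₁', hG₁', hG₁k⟩ := hA (m + 1)
      have hBmk' : Bm ∈ Cyc.Zk P δP (l - 1 - ((m + 1 : ℕ) : ℤ) + 2) := fun x hx => hBmk x fun e => hx (by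
        rw [e]; push_cast; ring)
      have r1 : Cyc.RatEquiv δT (l - 1 - ((m + 1 : ℕ) : ℤ)) G₁' G₂ :=
        CycK0.gysin_cap_comm hP hL' hσ hO Bm hBmk' v' hv' t ht (t' m) (ht' m) G₁' G₂
          (fun z => by rw [hgv, hG₁', hBm]; rfl) (by rw [hG₂, hgv, hBm])
      have hd := (RZ.of_ratEquiv hG₁k hG₂k r1)
      have ih' := ih
      rw [← hl] at ih'
      have hBm' := hB m
      rw [← hl] at hBm'
      have hcap := ih'.cap hTs hO' (v := t' m) (ht' m)
      have e := hd.add hcap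
      refine Eq.mp (congrArg (RZ δT _) (funext fun z => ?_)) e
      rw [hG₁', hG₂]
      have h2 : Cyc.c1CapFun δT _ (fun z => Ψ (Cyc.c1PowFun δP O (fun _ => t) m b) z -
          Cyc.c1PowFun δT _ t' m (Ψ b) z) (t' m) z =
          Cyc.c1CapFun δT _ (Ψ (Cyc.c1PowFun δP O (fun _ => t) m b)) (t' m) z -
            Cyc.c1CapFun δT _ (Cyc.c1PowFun δT _ t' m (Ψ b)) (t' m) z := by
        obtain ⟨U, hU, -⟩ := hAm
        obtain ⟨V, hV, -⟩ := hBm'
        rw [← hU, ← hV]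
        exact CycK0.c1CapFun_sub_apply (fun _ => rfl) (C1Cap.finite_gen U z) (C1Cap.finite_gen V z)
      rw [h2]
      show Ψ (Cyc.c1PowFun δP O (fun _ => t) (m + 1) b) z - _ + _ = _
      exact sub_add_sub_cancel _ _ _
  -- the pull backs
  have hcp : ∀ x, IsFibMax π x → δP x = δY (π x) + n := fun x hx => ((CycDim.delta_le π hπ hn x).2).2 hx
  have hpull : ∀ i₀ : Fin (n + 1 + 1), Ψ (Cyc.pullFun π δP δY n ⇑(γ i₀)) = Cyc.pullFun pD δT δD n ⇑(ζ i₀) :=
    fun i₀ => funext fun z => by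
      rw [show ⇑(ζ i₀) = fun d => Cyc.c1CapFun δY L ⇑(γ i₀) v (i d) from funext (hζ i₀)]
      refine Eq.trans ?_ (pullFun_restrict π hsq δY δP n (Cyc.c1CapFun δY L ⇑(γ i₀) v) z).symm
      exact (congrFun (CycSec.pullFun_c1CapFun π hP.2.2 hY.2.2 hcp hL (γ i₀) v hv) (i' z)).symm
  have hΨ : ∀ i₀ : Fin (n + 1 + 1), RZ δT (k - 1 - 1) fun z =>
      Ψ (term π δP δY O (fun _ => t) (n + 1) i₀ ⇑(γ (Fin.rev i₀))) z -
        term pD δT δD ((Scheme.Modules.pullback i').obj O) t' (n + 1) i₀ ⇑(ζ (Fin.rev i₀)) z := fun i₀ => by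
    obtain ⟨A, B, hA, hB, -, -, hAB⟩ := comm _ _ ((Cy.mk (hγ.2.1 (Fin.rev i₀))).pull hP hπ hn) (i₀ : ℕ)
    have h1 := hAB.smul ((-1 : ℤ) ^ (i₀ : ℕ))
    have hlt := i₀.2
    rw [show k - ((Fin.rev i₀ : Fin (n + 1 + 1)) : ℕ) + n - 1 - ((i₀ : ℕ) : ℤ) = k - 1 - 1 by
      simp only [Fin.val_rev]; omega, hA, hB, hpull] at h1
    refine Eq.mp (congrArg (RZ δT _) (funext fun z => ?_)) h1
    unfold term
    rw [show ((n + 1 : ℕ) : ℤ) - 1 = n by push_cast; ring, mul_sub]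
    refine congrArg (· - _) ?_
    show _ = Cyc.c1CapFun δP L' (fun y => _ * _) v' (i' z)
    unfold Cyc.c1CapFun
    show _ * ∑ᶠ ξ, _ = _
    rw [mul_finsum]
    exact finsum_congr fun ξ => (mul_assoc _ _ _).symm
  have hT : ∀ i₀ : Fin (n + 1 + 1), Cy δP (k - 1) (term π δP δY O (fun _ => t) (n + 1) i₀ ⇑(γ (Fin.rev i₀))) :=
    fun i₀ => by
      refine Cy.term hY hP hπ hn hO (fun _ => ht) i₀ ⟨_, rfl, ?_⟩
      have h := hγ.2.1 (Fin.rev i₀)
      have hlt := i₀.2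
      rwa [show k - ((Fin.rev i₀ : Fin (n + 1 + 1)) : ℕ) = k - ((n + 1 : ℕ) : ℤ) + (i₀ : ℕ) by
        simp only [Fin.val_rev]; omega] at h
  have h0 := chern_rel hY hP hπ hO (fibres_of_isProjBundle hPB hE).2 hγ (fun _ => t) (fun _ => ht) hr
  rw [show k - 1 = k - 1 - 1 + 1 by ring] at h0
  have h1 := (ΨRZ h0).sub (RZ.sum Finset.univ fun i₀ _ => hΨ i₀)
  refine Eq.mp (congrArg (RZ δT _) (funext fun z => ?_)) h1
  rw [Finset.sum_sub_distrib]
  have hlin : Ψ (fun y => ∑ i₀ : Fin (n + 1 + 1), term π δP δY O (fun _ => t) (n + 1) i₀ ⇑(γ (Fin.rev i₀)) y) z =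
      ∑ i₀ : Fin (n + 1 + 1), Ψ (term π δP δY O (fun _ => t) (n + 1) i₀ ⇑(γ (Fin.rev i₀))) z :=
    congrFun (pow_sum hP hL' (t := fun _ => v') (fun _ => hv') Finset.univ (fun i₀ _ => hT i₀) 1) (i' z)
  rw [hlin, sub_sub_cancel]

end Groth.Agent.CycPB
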