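import Groth.Agent.CycPB.LinCls
import Groth.Agent.HypIso.Main
import Groth.Agent.HypIso.Sections

/-!
Zero schemes of a section are unique, and nonzero hyperplanes of projective spaces are projective spaces.
-/

set_option autoImplicit false
set_option linter.unusedSectionVars false
set_option linter.style.haveILetI false
set_option backward.isDefEq.respectTransparency false
set_option backward.isDefEq.respectTransparency.types false

universe u

open CategoryTheory CategoryTheory.Limits AlgebraicGeometry TopologicalSpace Opposite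
open Groth.Agent.QC (res resO)
open Groth.Agent.WeakAssLib (mgerm mgerm_res)

noncomputable section

namespace Groth.Agent.CycPB

variable {X D : Scheme.{u}}

/-- Membership in an ideal of an affine open can be tested on germs. -/
theorem mem_of_germ_mem {U : X.Opens} (hU : IsAffineOpen U) {I : Ideal Γ(X, U)} {f : Γ(X, U)}
    (h : ∀ (x : X) (hx : x ∈ U), (X.presheaf.germ U x hx).hom f ∈ I.map (X.presheaf.germ U x hx).hom) : f ∈ I := by
  by_contra hf
  let A : Ideal Γ(X, U) := I.colon (Ideal.span {f} : Set Γ(X, U))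
  have hA : A ≠ ⊤ := fun hA => hf (by
    have h1 : (1 : Γ(X, U)) ∈ A := hA ▸ trivial
    simpa using (Submodule.mem_colon.1 h1) f (Ideal.mem_span_singleton_self f))
  obtain ⟨P, hP, hAP⟩ := Ideal.exists_le_maximal A hA
  let y : PrimeSpectrum Γ(X, U) := ⟨P, hP.isPrime⟩
  have hy : hU.fromSpec y ∈ U := hU.range_fromSpec.subset ⟨y, rfl⟩
  letI := TopCat.Presheaf.algebra_section_stalk X.presheaf (⟨hU.fromSpec y, hy⟩ : U)
  haveI : IsLocalization.AtPrime (X.presheaf.stalk (hU.fromSpec y)) P := hU.isLocalization_stalk' y hy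
  obtain ⟨m, hm, hmf⟩ := (IsLocalization.algebraMap_mem_map_algebraMap_iff P.primeCompl
    (X.presheaf.stalk (hU.fromSpec y)) I f).1 (h _ hy)
  refine hm (hAP (Submodule.mem_colon.2 fun z hz => ?_))
  obtain ⟨c, rfl⟩ := Ideal.mem_span_singleton'.1 hz
  show m * (c * f) ∈ I
  rw [show m * (c * f) = c * (m * f) by ring]
  exact I.mul_mem_left c hmf

/-- The kernel of a zero scheme. -/
theorem ker_zeroScheme {L : X.Modules} (hL : PicF.IsInvertible L) {s : Γ(L, (⊤ : X.Opens))} (i : D ⟶ X)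
    [IsClosedImmersion i] (hD : Cyc.IsZeroSchemeOf i L s) : i.ker = PicF2.zeroScheme L (TMul.homOf s) := by
  have loc : ∀ x : X, ∃ (U : X.affineOpens) (_ : x ∈ U.1) (e : Γ(L, U.1)) (_ : TMul.IsGen e) (c : Γ(X, U.1)),
      res L (le_top : U.1 ≤ ⊤) s = c • e := fun x => by
    obtain ⟨A, e₀, hxA, he₀⟩ := TMul.exists_isGen hL x
    obtain ⟨U, hU, hxU, hUA⟩ := exists_isAffineOpen_mem_and_subset hxA
    obtain ⟨c, hc⟩ := (show Function.Bijective fun r : Γ(X, U) => r • res L (show U ≤ A from hUA) e₀ by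
      simpa only [QC.res_self] using (he₀.res hUA) U le_rfl).2 (res L (le_top : U ≤ ⊤) s)
    exact ⟨⟨U, hU⟩, hxU, _, he₀.res hUA, c, hc.symm⟩
  choose U hxU e he c hc using loc
  refine Scheme.IdealSheafData.ext_of_iSup_eq_top U
    (top_le_iff.1 fun x _ => Opens.mem_iSup.2 ⟨x, hxU x⟩) fun x => ?_
  rw [Scheme.Hom.ker_apply, ZeroSch.ideal_zeroScheme_eq_span _ hL (U x) (he x) ((TMul.val_homOf s _).trans (hc x))]
  let V := (U x).1
  have hcoef : ∀ (y : X) (hy : y ∈ V), mgerm L (show y ∈ (⊤ : X.Opens) from trivial) s =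
      (X.presheaf.germ V y hy).hom (c x) • mgerm L hy (e x) := fun y hy => by
    rw [← mgerm_res L (le_top : V ≤ ⊤) hy s, hc x]
    exact WeakAssLib.mgerm_smul L hy (c x) (e x)
  refine le_antisymm (fun f hf => mem_of_germ_mem (U x).2 fun y hy => ?_) ?_
  · rw [Ideal.map_span, Set.image_singleton]
    by_cases hyi : y ∈ Set.range i
    · obtain ⟨d, rfl⟩ := hyi
      rw [← CycK0.ker_eq_span hD d (he x) hy (hcoef _ hy), CMFlat.ker_stalkMap_eq i d (U x) hy]
      exact Ideal.mem_map_of_mem _ hf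
    · rw [Ideal.span_singleton_eq_top.2 (CycK0.isUnit_of_notMem hD hyi hy (hcoef _ hy))]
      trivial
  · rw [Ideal.span_singleton_le_iff_mem, RingHom.mem_ker]
    refine TopCat.Presheaf.section_ext D.sheaf _ _ _ fun d hd => ?_
    refine Eq.trans ?_ (map_zero _).symm
    refine (Scheme.Hom.germ_stalkMap_apply i V d hd (c x)).symm.trans ?_
    refine RingHom.mem_ker.1 ?_
    rw [CycK0.ker_eq_span hD d (he x) hd (hcoef _ hd)]
    exact Ideal.mem_span_singleton_self _

/-- Zero schemes of the same section are isomorphic. -/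
theorem exists_iso_zeroScheme {L : X.Modules} (hL : PicF.IsInvertible L) {s : Γ(L, (⊤ : X.Opens))} (i : D ⟶ X)
    [IsClosedImmersion i] (hD : Cyc.IsZeroSchemeOf i L s) {D' : Scheme.{u}} (i' : D' ⟶ X) [IsClosedImmersion i']
    (hD' : Cyc.IsZeroSchemeOf i' L s) : ∃ θ : D' ≅ D, θ.hom ≫ i = i' := by
  have hk : i.ker = i'.ker := (ker_zeroScheme hL i hD).trans (ker_zeroScheme hL i' hD').symm
  haveI := IsClosedImmersion.isIso_lift i i' hk
  exact ⟨asIso (IsClosedImmersion.lift i i' hk.le), IsClosedImmersion.lift_fac _ _ _⟩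

variable {K : Type u} [Field K] {n : ℕ}

/-- A nonzero hyperplane of a projective space. -/
theorem exists_hyperplane_iso {O : (CohB1.ProjSpace (n + 1) K).Modules}
    (e : O ≅ Twist.twistProjSpace (n + 1) K 1) {σ : Γ(O, (⊤ : (CohB1.ProjSpace (n + 1) K).Opens))}
    (i : D ⟶ CohB1.ProjSpace (n + 1) K) [IsClosedImmersion i] (hD : Cyc.IsZeroSchemeOf i O σ)
    (hσ : ∃ x, x ∉ Set.range i) :
    ∃ φ : CohB1.ProjSpace n K ≅ D,
      φ.hom ≫ i ≫ CohB1.ProjSpace.toSpec (n + 1) K = CohB1.ProjSpace.toSpec n K ∧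
      Nonempty ((Scheme.Modules.pullback (φ.hom ≫ i)).obj O ≅ Twist.twistProjSpace n K 1) := by
  let L := Twist.twistProjSpace (n + 1) K 1
  have hL : PicF.IsInvertible L :=
    GrT.isInvertible_twist (ProjMor.exists_notMem (ProjMor.genDegOne_projSpace (n + 1) K)) 1
  have hD' := isZeroSchemeOf_moduleIso e hD
  obtain ⟨a, ha⟩ := HypIso.exists_eq_sec1 (e.hom.app ⊤ σ)
  rw [ha] at hD'
  have hform : ProjMor.linForms (n + 1) K a = ∑ l, a l • MvPolynomial.X l :=
    Fintype.linearCombination_apply _ _ _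
  obtain ⟨j, hj⟩ : ∃ j, a j ≠ 0 := by
    by_contra h
    push Not at h
    obtain ⟨x, hx⟩ := hσ
    refine hx ?_
    rw [hD'.1]
    show (Submodule.Quotient.mk (mgerm L (show x ∈ (⊤ : Scheme.Opens _) from trivial)
      (ProjMor.sec1 (ProjMor.linForms_mem (n + 1) K a))) : Cyc.secFibre L x) = 0
    obtain ⟨l, hl⟩ : ∃ l, x ∈ Proj.basicOpen (CohB1.polyGrading (n + 1) K) (MvPolynomial.X l) :=
      Opens.mem_iSup.1 ((Groth.Agent.S9576.result (n + 1) K).1.ge trivial)
    have h0 := ProjMor.res_sec1 (HypIso.X_mem₁ l) (ProjMor.linForms_mem (n + 1) K a)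
    have h2 : GrT.deh (CohB1.polyGrading (n + 1) K) (HypIso.X_mem₁ l) (ProjMor.linForms (n + 1) K a) = 0 := by
      rw [hform, Finset.sum_eq_zero (fun i _ => by rw [h i, zero_smul]), map_zero]
    have h0 := h0.trans ((congrArg (· • _) h2).trans (zero_smul _ _))
    have h1 : mgerm L hl (res L (le_top : _ ≤ (⊤ : Scheme.Opens _))
        (ProjMor.sec1 (ProjMor.linForms_mem (n + 1) K a))) = 0 := (congrArg (mgerm L hl) h0).trans (map_zero _)
    rw [mgerm_res] at h1
    rw [h1]
    rfl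
  obtain ⟨r, hr, τ, hτ⟩ := ProjMor.exists_projSpace (CohB1.ProjSpace.toSpec n K)
    (GrT.isInvertible_twist (ProjMor.exists_notMem (ProjMor.genDegOne_projSpace n K)) 1) (HypIso.emb a j)
    (HypIso.generatedBy a j)
  haveI := HypIso.isClosedImmersion a j r hr τ hτ
  let s₀ := ProjMor.sec1 (ProjMor.linForms_mem (n + 1) K a)
  have hker : r.ker = PicF2.zeroScheme L (TMul.homOf s₀) := by
    refine HypIso.ker_eq a j hj r hr τ hτ _ fun i => ?_
    have he : TMul.IsGen (res L le_top (ProjMor.sec1 (HypIso.X_mem₁ (k := K) i)) :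
        Γ(L, Proj.basicOpen (CohB1.polyGrading (n + 1) K) (MvPolynomial.X i))) := by
      have := (TMul.isGen_genLocus (TMul.homOf (ProjMor.sec1 (HypIso.X_mem₁ (k := K) i)))).res
        (ProjMor.genLocus_sec1 (ProjMor.genDegOne_projSpace (n + 1) K) (HypIso.X_mem₁ i)).ge
      rwa [TMul.val_homOf, QC.res_res] at this
    rw [← hform]
    refine ZeroSch.ideal_zeroScheme_eq_span (TMul.homOf s₀) hL _ he ?_
    rw [TMul.val_homOf]
    exact ProjMor.res_sec1 (HypIso.X_mem₁ i) (ProjMor.linForms_mem (n + 1) K a)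
  have hk : i.ker = r.ker := (ker_zeroScheme hL i hD').trans hker.symm
  haveI := IsClosedImmersion.isIso_lift i r hk
  have hfac := IsClosedImmersion.lift_fac i r hk.le
  refine ⟨asIso (IsClosedImmersion.lift i r hk.le), ?_, ⟨?_⟩⟩
  · rw [asIso_hom, ← Category.assoc, hfac]
    exact hr
  · rw [asIso_hom, hfac]
    exact (Scheme.Modules.pullback r).mapIso e ≪≫ τ

end Groth.Agent.CycPB
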