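import Groth.Agent.CycK0.GysRelDiv

/-!
The Gysin map of a divisor meeting integral fibres properly and flat pull backs.
-/

set_option autoImplicit false
set_option linter.unusedSectionVars false
set_option linter.style.haveILetI false
set_option backward.isDefEq.respectTransparency false
set_option backward.isDefEq.respectTransparency.types false

universe u

open CategoryTheory CategoryTheory.Limits AlgebraicGeometry TopologicalSpace Opposite
open Groth.Agent.CDivNormal (genPrime)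
open Groth.Agent.EquidimPt (IsFibMax)
open Groth.Agent.WeakAssLib (mgerm)
open Groth.Agent.RefStalk (msp msp_smul msp_germ)
open Groth.Agent.CycDim (spz)
open Groth.Agent.C1Cap (rdu)
open scoped TensorProduct

noncomputable section

namespace Groth.Agent.CycPB

variable {X Y D : Scheme.{u}}

/-- The Gysin image of the pull back is the pull back to the divisor. -/
theorem gysin_pullFun_fibre {δX : X → ℤ} {δY : Y → ℤ} (hX : Cyc.IsSetup X δX) (hY : Cyc.IsSetup Y δY) (p : X ⟶ Y)
    [Flat p] [LocallyOfFiniteType p] (r : ℕ) (hr : Cyc.HasRelDim p (r + 1)) (hδ : Cyc.DeltaCompat p δX δY)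
    {L : X.Modules} (hL : PicF.IsInvertible L) (s : L.presheaf.obj (op ⊤))
    (i : D ⟶ X) [IsClosedImmersion i] (hD : Cyc.IsZeroSchemeOf i L s)
    (hint : ∀ d : D, (Ideal.map (p.stalkMap (i d)).hom
      (IsLocalRing.maximalIdeal (Y.presheaf.stalk (p (i d))))).IsPrime ∧
        ∃ z : X, z ⤳ i d ∧ p z = p (i d) ∧ z ∉ Set.range i)
    (hrD : Cyc.HasRelDim (i ≫ p) r) (k : ℤ) (α : AlgebraicCycle Y ℤ) (hα : α ∈ Cyc.Zk Y δY (k + 1))
    (w : (ξ : X) → Cyc.secFibre L ξ) (d : D) :
    Cyc.c1CapFun δX L (Cyc.pullFun p δX δY (r + 1) ⇑α) (Cyc.gysinChoice L s w) (i d) =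
      Cyc.pullFun (i ≫ p) (fun d => δX (i d)) δY r ⇑α d := by
  classical
  haveI := hX.1
  haveI := hY.1
  have hc : ∀ x : X, IsFibMax p x → δX x = δY (p x) + ((r + 1 : ℕ) : ℤ) := fun x hx =>
    ((CycDim.delta_le p hδ hr x).2).2 hx
  have hle : ∀ z : X, δX z ≤ δY (p z) + (r : ℤ) + 1 := fun z => by
    have := (CycDim.delta_le p hδ hr z).1
    push_cast at this
    omega
  have hleD : ∀ d : D, δX (i d) ≤ δY (p (i d)) + (r : ℤ) := fun d =>
    (CycDim.delta_le (i ≫ p) (CycK0.deltaCompat_closed_comp i p hδ) hrD d).1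
  let x := i d
  let y := p x
  have hyd := hleD d
  -- where the summands live
  have hα' : ∀ z, α z ≠ 0 → δY z = k + 1 := fun z hz => by_contra fun h => hz (hα z h)
  have hterm : ∀ ξ, Cyc.pullFun p δX δY (r + 1) ⇑α ξ * Cyc.secDivFun δX L ξ (Cyc.gysinChoice L s w ξ) x ≠ 0 →
      ξ ⤳ x ∧ δX x + 1 = δX ξ ∧ δX ξ = δY (p ξ) + (r + 1) ∧ δY (p ξ) = k + 1 ∧ p ξ = y := fun ξ h => by
    obtain ⟨h1, h2⟩ := CycSec.secDivFun_support (right_ne_zero_of_mul h)
    have h3 : δX ξ = δY (p ξ) + ((r : ℤ) + 1) := by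
      by_contra hne
      exact left_ne_zero_of_mul h (if_neg hne)
    have h4 : δY (p ξ) = k + 1 := by
      refine hα' _ fun h0 => left_ne_zero_of_mul h ?_
      unfold Cyc.pullFun
      rw [if_pos h3, h0, zero_mul]
    refine ⟨h1, h2, h3, h4, ?_⟩
    by_contra hne
    have := (hY.2.2 _ _ (h1.map p.continuous) hne).1
    change δX x ≤ δY y + (r : ℤ) at hyd
    change δY y < δY (p ξ) at this
    omega
  by_cases hmain : δX x = δY y + (r : ℤ) ∧ δY y = k + 1
  swap
  · rw [Cyc.c1CapFun, finsum_eq_zero_of_forall_eq_zero fun ξ => by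
      by_contra h
      obtain ⟨-, h2, h3, h4, h5⟩ := hterm ξ h
      rw [h5] at h4 h3
      exact hmain ⟨by omega, h4⟩]
    refine Eq.symm ?_
    show (if δX x = δY y + (r : ℤ) then α y * _ else 0) = 0
    split
    · next h => rw [hα y fun hy => hmain ⟨h, hy⟩, zero_mul]
    · rfl
  obtain ⟨hdx, hdy⟩ := hmain
  obtain ⟨A, e, hxA, he, a, ha⟩ := CycK0.exists_coefficient hL s x
  have hker := CycK0.ker_eq_span hD d he hxA ha
  let φ := (p.stalkMap x).hom
  let J : Ideal (X.presheaf.stalk x) := (IsLocalRing.maximalIdeal (Y.presheaf.stalk y)).map φ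
  have hJiff : ∀ (z : X) (hz : z ⤳ x), J ≤ genPrime hz ↔ p z = y := by
    intro z hz
    rw [Ideal.map_le_iff_le_comap]
    have hcomap : (genPrime hz).comap φ = genPrime (hz.map p.continuous) := by
      ext b
      rw [Ideal.mem_comap, CDivNormal.mem_genPrime, CDivNormal.mem_genPrime,
        ← Scheme.Hom.stalkSpecializes_stalkMap_apply p z x hz b]
      exact not_congr (isUnit_map_iff (p.stalkMap z).hom _)
    rw [hcomap]
    constructor
    · intro h
      by_contra hne
      refine hne (Specializes.antisymm (hz.map p.continuous) ?_).eq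
      exact CDivNormal.specializes_of_le (specializes_refl y) (hz.map p.continuous) (by rwa [CycDim.genPrime_rfl])
    · intro h
      have := CDivNormal.genPrime_mono (show y ⤳ p z from specializes_of_eq h.symm) (hz.map p.continuous)
      rwa [CycDim.genPrime_rfl] at this
  have hJ : ∀ (z : X) (hz : z ⤳ x), J ≤ genPrime hz → δX z ≤ δX x + 1 := fun z hz h => by
    have h1 := hle z
    rw [(hJiff z hz).1 h] at h1
    omega
  obtain ⟨m, hmy, hmx, hm⟩ := CycDim.exists_fibMax p x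
  have hex : ∃ (z : X) (hz : z ⤳ x), J ≤ genPrime hz ∧ z ≠ x := ⟨m, hmx, (hJiff m hmx).2 hmy, fun e => by
    have := hc m hm
    rw [hmy, e] at this
    push_cast at this
    change δX x = δY y + _ at this
    omega⟩
  have hout : ∀ (z : X), p z = y → δX z = δX x + 1 → z ∉ Set.range i := fun z hz hd ⟨d', hd'⟩ => by
    have := hleD d'
    rw [hd', hz] at this
    omega
  have haX : ∀ (z : X) (hz : z ⤳ x), J ≤ genPrime hz → δX z = δX x + 1 → a ∉ genPrime hz := fun z hz h hd hmem =>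
    hout z ((hJiff z hz).1 h) hd ((CycK0.mem_genPrime_iff_mem_range hD hz he hxA ha).1 hmem)
  have hregJ : ∀ b, a * b ∈ J → b ∈ J := fun b hb => by
    obtain ⟨hp, z, hz, hzy, hzi⟩ := hint d
    refine (hp.mem_or_mem hb).resolve_left fun haJ => hzi ?_
    exact (CycK0.mem_genPrime_iff_mem_range hD hz he hxA ha).1 ((hJiff z hz).2 hzy haJ)
  have key := CycPull.length_quot_components hX.2.2 J hJ hex haX hregJ
  -- the length on the divisor
  have hlen : Module.length (D.presheaf.stalk d) (D.presheaf.stalk d ⧸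
      Ideal.map ((i ≫ p).stalkMap d).hom (IsLocalRing.maximalIdeal (Y.presheaf.stalk y))) =
      Module.length (X.presheaf.stalk x) (X.presheaf.stalk x ⧸ (J ⊔ Ideal.span {a})) := by
    let π := (i.stalkMap d).hom
    have hπ : Function.Surjective π := i.stalkMap_surjective d
    have hI : Ideal.map ((i ≫ p).stalkMap d).hom (IsLocalRing.maximalIdeal (Y.presheaf.stalk y)) = J.map π := by
      rw [Ideal.map_map, show π.comp φ = ((i ≫ p).stalkMap d).hom by rw [Scheme.Hom.stalkMap_comp]; rfl]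
    rw [hI]
    let q := (Ideal.Quotient.mk (J.map π)).comp π
    have hq : Function.Surjective q := Ideal.Quotient.mk_surjective.comp hπ
    have hk : RingHom.ker q = J ⊔ Ideal.span {a} := by
      rw [← RingHom.comap_ker, Ideal.mk_ker, Ideal.comap_map_of_surjective π hπ, ← RingHom.ker_eq_comap_bot, hker]
    let E := (Ideal.quotEquivOfEq hk.symm).trans (RingHom.quotientKerEquivOfSurjective hq)
    rw [Module.length_eq_of_surjective (R := ↥(D.presheaf.stalk d) ⧸ J.map π)
        (M := ↥(D.presheaf.stalk d) ⧸ J.map π) (S := D.presheaf.stalk d)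
        (Ideal.Quotient.mk_surjective (I := J.map π)),
      Module.length_eq_of_surjective (R := ↥(X.presheaf.stalk x) ⧸ (J ⊔ Ideal.span {a}))
        (M := ↥(X.presheaf.stalk x) ⧸ (J ⊔ Ideal.span {a}))
        (S := X.presheaf.stalk x) (Ideal.Quotient.mk_surjective (I := J ⊔ Ideal.span {a})), CycDim.length_congr E]
  refine Eq.trans ?_ (show α y * ((Module.length (X.presheaf.stalk x)
      (X.presheaf.stalk x ⧸ (J ⊔ Ideal.span {a}))).toNat : ℤ) = _ by
    show _ = if δX x = δY y + (r : ℤ) then _ else 0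
    rw [if_pos hdx, ← hlen]
    rfl)
  rw [key]
  let P := {ξ : X // ∃ h : ξ ⤳ x, J ≤ genPrime h ∧ δX ξ = δX x + 1}
  rw [mul_finsum]
  have hP : ∀ ξ, Cyc.pullFun p δX δY (r + 1) ⇑α ξ * Cyc.secDivFun δX L ξ (Cyc.gysinChoice L s w ξ) x ≠ 0 →
      ∃ h : ξ ⤳ x, J ≤ genPrime h ∧ δX ξ = δX x + 1 := fun ξ h => by
    obtain ⟨h1, h2, -, -, h5⟩ := hterm ξ h
    exact ⟨h1, (hJiff ξ h1).2 h5, h2.symm⟩
  rw [Cyc.c1CapFun, ← finsum_mem_univ fun ξ => Cyc.pullFun p δX δY (r + 1) ⇑α ξ * Cyc.secDivFun δX L ξ (Cyc.gysinChoice L s w ξ) x,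
    ← finsum_mem_inter_support _ Set.univ,
    show Set.univ ∩ Function.support (fun ξ => Cyc.pullFun p δX δY (r + 1) ⇑α ξ * Cyc.secDivFun δX L ξ (Cyc.gysinChoice L s w ξ) x) =
      {ξ | ∃ h : ξ ⤳ x, J ≤ genPrime h ∧ δX ξ = δX x + 1} ∩
        Function.support (fun ξ => Cyc.pullFun p δX δY (r + 1) ⇑α ξ * Cyc.secDivFun δX L ξ (Cyc.gysinChoice L s w ξ) x) from
      Set.ext fun ξ => ⟨fun h => ⟨hP ξ h.2, h.2⟩, fun h => ⟨trivial, h.2⟩⟩,
    finsum_mem_inter_support, ← finsum_set_coe_eq_finsum_mem]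
  refine finsum_congr fun (ξ : P) => ?_
  obtain ⟨hξ, hJξ, hdξ⟩ := ξ.2
  have hpξ : p ξ.1 = y := (hJiff ξ.1 hξ).1 hJξ
  have hξd : δX ξ.1 = δY (p ξ.1) + ((r : ℤ) + 1) := by rw [hpξ]; omega
  have hξA : ξ.1 ∈ A := hξ.mem_open A.2 hxA
  have hsξ : mgerm L (show ξ.1 ∈ (⊤ : X.Opens) from trivial) s = spz hξ a • mgerm L hξA e := by
    have h1 := congrArg (msp L hξ) ha
    rw [msp_smul, msp_germ L hξ hxA e] at h1
    exact (msp_germ L hξ (show x ∈ (⊤ : X.Opens) from trivial) s).symm.trans h1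
  have hgc : Cyc.gysinChoice L s w ξ.1 = spz hξ a •
      (Submodule.Quotient.mk (mgerm L hξA e) : Cyc.secFibre L ξ.1) := by
    rw [← Submodule.Quotient.mk_smul, ← hsξ]
    unfold Cyc.gysinChoice
    exact if_pos fun h => hout ξ.1 hpξ hdξ (by rw [hD.1]; exact h)
  have hmapJ : J.map (spz hξ) =
      Ideal.map (p.stalkMap ξ.1).hom (IsLocalRing.maximalIdeal (Y.presheaf.stalk (p ξ.1))) := by
    have hs' : p ξ.1 ⤳ y := hξ.map p.continuous
    rw [Ideal.map_map, show (spz hξ).comp φ = (p.stalkMap ξ.1).hom.comp (spz hs') from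
      RingHom.ext fun b => (Scheme.Hom.stalkSpecializes_stalkMap_apply p ξ.1 x hξ b).symm, ← Ideal.map_map]
    congr 1
    have hgen : genPrime hs' = IsLocalRing.maximalIdeal (Y.presheaf.stalk y) := by
      rw [← CycDim.genPrime_rfl y]
      exact le_antisymm (CDivNormal.genPrime_mono (specializes_of_eq hpξ) (specializes_refl y))
        (CDivNormal.genPrime_mono (specializes_of_eq hpξ.symm) hs')
    rw [← hgen]
    letI := (spz hs').toAlgebra
    haveI := CycDim.isLocalization_genPrime hs'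
    exact IsLocalization.AtPrime.map_eq_maximalIdeal (genPrime hs') (Y.presheaf.stalk (p ξ.1))
  rw [show Cyc.secDivFun δX L ξ.1 (Cyc.gysinChoice L s w ξ.1) x =
      Cyc.ordAt x ξ.1 hξ (rdu ξ.1 (spz hξ a)) from by
    rw [Cyc.secDivFun, dif_pos ⟨hξ, hdξ.symm⟩, C1Cap.secOrdAt_eq he hξ hxA hgc]]
  unfold Cyc.pullFun
  rw [if_pos hξd, show α (p ξ.1) = α y from congrArg α hpξ, mul_assoc, hmapJ]

end Groth.Agent.CycPB
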