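import Groth.Agent.CycPB.Degree
import Groth.Agent.CycDim.PushPull
import Groth.Agent.CycDim.CapPull
import Groth.Agent.PBundle.Local
import Groth.Agent.PnSpec.Twist
import Groth.Agent.MonoSmooth.Basic

/-!
Powers of the first Chern class of the twisting sheaf of a projective bundle, pushed down.
-/

set_option autoImplicit false
set_option linter.unusedSectionVars false
set_option linter.style.haveILetI false
set_option backward.isDefEq.respectTransparency false
set_option backward.isDefEq.respectTransparency.types false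

universe u

open CategoryTheory CategoryTheory.Limits AlgebraicGeometry TopologicalSpace Opposite
open Groth.Agent.EquidimPt (IsFibMax)

noncomputable section

namespace Groth.Agent.CycPB

variable {X P : Scheme.{u}}

/-- All fibres are projective spaces with the twisting sheaf. -/
def HasPnFibres (p : P ⟶ X) (O : P.Modules) (n : ℕ) : Prop :=
  ∀ y : X, ∃ φ : CohB1.ProjSpace n (X.residueField y) ≅ p.fiber y,
    φ.hom ≫ p.fiberToSpecResidueField y = CohB1.ProjSpace.toSpec n (X.residueField y) ∧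
    Nonempty ((Scheme.Modules.pullback (φ.hom ≫ p.fiberι y)).obj O ≅ Twist.twistProjSpace n (X.residueField y) 1)

/-- Projective bundles have projective spaces as fibres. -/
theorem hasPnFibres_of_isProjBundle {E : X.Modules} {O : P.Modules} {p : P ⟶ X}
    {q : (Scheme.Modules.pullback p).obj E ⟶ O} (hP : KRR.IsProjBundle p E O q) {n : ℕ}
    (hE : FlatMod.IsFinLocFreeOfRank (n + 1) E) : HasPnFibres p O n := by
  intro y
  let b := X.fromSpecResidueField y
  have sq : IsPullback (p.fiberι y) (p.fiberToSpecResidueField y) p b := .of_hasPullback _ _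
  obtain ⟨U, hyU, ⟨e⟩⟩ := hE y
  have hrange : Set.range b ⊆ Set.range U.ι := by
    rw [Scheme.Opens.range_ι]
    rintro _ ⟨z, rfl⟩
    show b z ∈ U
    rwa [Scheme.fromSpecResidueField_apply]
  let b₀ := IsOpenImmersion.lift U.ι b hrange
  obtain ⟨θ₀⟩ := PBundle.nonempty_free_of_le le_rfl e
  let θ : (Scheme.Modules.pullback b).obj E ≅ FlatMod.freeMod (Spec (CommRingCat.of (X.residueField y))) (n + 1) :=
    (Scheme.Modules.pullbackCongr (IsOpenImmersion.lift_fac U.ι b hrange).symm).app E ≪≫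
      ((Scheme.Modules.pullbackComp b₀ U.ι).app E).symm ≪≫ (Scheme.Modules.pullback b₀).mapIso θ₀ ≪≫
      DerPerf.pullFreeIso b₀ (n + 1)
  obtain ⟨h, hg, e₁, -⟩ := PBundle.exists_iso (PBundle.of_moduleIso (PBundle.of_isPullback hP sq) θ.symm)
    (PBundle.isProjBundle_free n (Spec (CommRingCat.of (X.residueField y))))
  obtain ⟨e₂, he₂, hτ⟩ := PnSpec.exists_iso_twist n (X.residueField y)
  obtain ⟨τ⟩ := hτ 1
  refine ⟨e₂ ≪≫ h, by rw [Iso.trans_hom, Category.assoc, hg, he₂], ⟨?_⟩⟩
  exact ((Scheme.Modules.pullbackComp (e₂.hom ≫ h.hom) (p.fiberι y)).app O).symm ≪≫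
    ((Scheme.Modules.pullbackComp e₂.hom h.hom).app _).symm ≪≫ (Scheme.Modules.pullback e₂.hom).mapIso e₁ ≪≫ τ

/-- The relative dimension. -/
theorem hasRelDim_of_hasPnFibres {p : P ⟶ X} {O : P.Modules} {n : ℕ} (h : HasPnFibres p O n) :
    Cyc.HasRelDim p n := by
  intro y T hT
  obtain ⟨φ, -, -⟩ := h y
  haveI := Horrocks.isIntegral_projSpace (k := X.residueField y) (n := n)
  haveI : IrreducibleSpace ↥(p.fiber y) := φ.hom.homeomorph.surjective.irreducibleSpace φ.hom.homeomorph.continuous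
  rw [irreducibleComponents_eq_singleton, Set.mem_singleton_iff] at hT
  subst hT
  rw [← S10829.result (X.residueField y) n, IsHomeomorph.topologicalKrullDim_eq _
    ((Homeomorph.Set.univ _).trans φ.hom.homeomorph.symm).isHomeomorph]

lemma resTr_pre (j : P ⟶ X) [IsPreimmersion j] (x : P) : CycK0.resTr j x = 0 := by
  letI := (j.residueFieldMap x).hom.toAlgebra
  haveI : Module.Finite (X.residueField (j x)) (P.residueField x) :=
    Module.Finite.of_surjective (Algebra.linearMap (X.residueField (j x)) (P.residueField x))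
      (CycPush.residueFieldMap_surjective_pre j x)
  exact trdeg_eq_zero_iff.2 inferInstance

/-- Multiples. -/
theorem c1PowFun_smul (δ : X → ℤ) (L : X.Modules) (t : ℕ → (ξ : X) → Cyc.secFibre L ξ) (c : ℤ) (a : X → ℤ) :
    ∀ m : ℕ, Cyc.c1PowFun δ L t m (fun x => c * a x) = fun x => c * Cyc.c1PowFun δ L t m a x
  | 0 => rfl
  | m + 1 => funext fun x => by
    show Cyc.c1CapFun δ L (Cyc.c1PowFun δ L t m fun x => c * a x) (t m) x = _
    rw [c1PowFun_smul δ L t c a m]
    show ∑ᶠ ξ, c * Cyc.c1PowFun δ L t m a ξ * Cyc.secDivFun δ L ξ (t m ξ) x = c * ∑ᶠ ξ, _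
    rw [mul_finsum]
    exact finsum_congr fun ξ => mul_assoc _ _ _

variable {δP : P → ℤ} {δ : X → ℤ} {p : P ⟶ X} {O : P.Modules} {n : ℕ}

/-- Where the push forward of an iterated cap can be nonzero. -/
theorem support_push (hX : Cyc.IsSetup X δ) (t : ℕ → (ξ : P) → Cyc.secFibre O ξ) {k : ℤ} (α : X → ℤ)
    (hα : ∀ x, α x ≠ 0 → δ x = k) (m : ℕ) (x : P)
    (h : Cyc.c1PowFun δP O t m (Cyc.pullFun p δP δ n α) x * (AlgebraicCycle.mapCoeff p δP δ x : ℤ) ≠ 0) :
    n ≤ m ∧ (m = n → ∃ η, η ⤳ x ∧ p η = p x ∧ α (p x) ≠ 0) := by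
  have hlev : ∀ x, Cyc.pullFun p δP δ n α x ≠ 0 → δP x = k + n := fun x hx => by
    unfold Cyc.pullFun at hx
    split at hx
    · next h => rw [h, hα _ (left_ne_zero_of_mul hx)]
    · exact absurd rfl hx
  obtain ⟨h1, η, hη, hη0⟩ := c1PowFun_level t hlev m x (left_ne_zero_of_mul h)
  have h2 : δP x = δ (p x) := by
    have h3 := right_ne_zero_of_mul h
    unfold AlgebraicCycle.mapCoeff at h3
    by_contra hne
    rw [if_neg hne] at h3
    exact h3 rfl
  have h4 : α (p η) ≠ 0 := fun h0 => hη0 (by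
    unfold Cyc.pullFun
    rw [h0]
    simp)
  have h5 := hα _ h4
  by_cases he : p η = p x
  · rw [← he, h5] at h2
    exact ⟨by omega, fun _ => ⟨η, hη, he, he ▸ h4⟩⟩
  · have h6 := (hX.2.2 _ _ (hη.map p.continuous) he).1
    exact ⟨by omega, fun hm => absurd h6 (by omega)⟩

set_option maxHeartbeats 1000000 in
/-- The push forward of the powers of the twisting sheaf. -/
theorem push_c1Pow (hX : Cyc.IsSetup X δ) (hP : Cyc.IsSetup P δP) [IsProper p] (hδ : Cyc.DeltaCompat p δP δ)
    (hF : HasPnFibres p O n) (hO : PicF.IsInvertible O) {k : ℤ} (α : AlgebraicCycle X ℤ) (hα : α ∈ Cyc.Zk X δ k)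
    (t : ℕ → (ξ : P) → Cyc.secFibre O ξ) (ht : ∀ i ξ, t i ξ ≠ 0) (m : ℕ) (hm : m ≤ n) (y : X) :
    (∑ᶠ x ∈ (p ⁻¹' {y} : Set P), Cyc.c1PowFun δP O t m (Cyc.pullFun p δP δ n ⇑α) x *
      (AlgebraicCycle.mapCoeff p δP δ x : ℤ)) = if m = n then α y else 0 := by
  classical
  have hα' : ∀ x, α x ≠ 0 → δ x = k := fun x hx => by_contra fun h => hx (hα x h)
  by_cases hmn : m = n
  swap
  · rw [if_neg hmn]
    exact finsum_mem_eq_zero_of_forall_eq_zero fun x _ => by_contra fun h =>
      hmn (le_antisymm hm (support_push hX t _ hα' m x h).1)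
  subst hmn
  rw [if_pos rfl]
  by_cases hy : α y = 0
  · rw [hy]
    refine finsum_mem_eq_zero_of_forall_eq_zero fun x hx => by_contra fun h => ?_
    obtain ⟨η, -, -, hη⟩ := (support_push hX t _ hα' m x h).2 rfl
    exact hη ((congrArg α (show p x = y from hx)).trans hy)
  have hyk := hα' y hy
  obtain ⟨φ, hφ, eO⟩ := hF y
  let K := X.residueField y
  let j : CohB1.ProjSpace m K ⟶ P := φ.hom ≫ p.fiberι y
  haveI : IsPreimmersion (p.fiberι y) := inferInstance
  haveI : IsPreimmersion j := inferInstance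
  let c := CohB1.ProjSpace.toSpec m K
  haveI : IsProper c := inferInstance
  have hjp : j ≫ p = c ≫ X.fromSpecResidueField y := by
    show (φ.hom ≫ p.fiberι y) ≫ p = CohB1.ProjSpace.toSpec m K ≫ X.fromSpecResidueField y
    rw [← hφ, Category.assoc, Category.assoc]
    exact congrArg (φ.hom ≫ ·) (IsPullback.of_hasPullback p (X.fromSpecResidueField y)).w
  have hjy : ∀ z, p (j z) = y := fun z => by
    rw [← Scheme.Hom.comp_apply, hjp, Scheme.Hom.comp_apply]
    exact Scheme.fromSpecResidueField_apply y _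
  have hrange : Set.range j = p ⁻¹' {y} := by
    rw [← p.range_fiberι y]
    refine subset_antisymm (by rintro _ ⟨z, rfl⟩; exact ⟨φ.hom z, rfl⟩) ?_
    rintro _ ⟨z, rfl⟩
    refine ⟨φ.inv z, ?_⟩
    show (φ.inv ≫ j) z = _
    rw [Iso.inv_hom_id_assoc]
  let δF : CohB1.ProjSpace m K → ℤ := fun z => δP (j z)
  have hδF : Cyc.DeltaCompat c δF (fun _ => k) := fun z => by
    obtain ⟨a, ha, hz⟩ := hδ (j z)
    refine ⟨a, ?_, by rw [show δF z = δP (j z) from rfl, hz, hjy, hyk]⟩
    show CycK0.resTr c z = _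
    have h1 := CycK0.resTr_comp j p z
    have h2 := CycK0.resTr_comp c (X.fromSpecResidueField y) z
    rw [resTr_pre j, add_zero] at h1
    rw [resTr_pre (X.fromSpecResidueField y), zero_add, ← hjp] at h2
    rw [← h2, h1]
    exact ha
  have hres : ∀ z, p.residueDegree (j z) = c.residueDegree z := fun z => by
    have h : (j ≫ p).residueDegree z = (c ≫ X.fromSpecResidueField y).residueDegree z := by rw [hjp]
    rw [CycDeg.residueDegree_comp j p, CycDeg.residueDegree_comp c (X.fromSpecResidueField y),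
      CycDeg.residueDegree_eq_one j (CycPush.residueFieldMap_surjective_pre j z),
      CycDeg.residueDegree_eq_one (X.fromSpecResidueField y) (CycPush.residueFieldMap_surjective_pre _ _),
      mul_one, one_mul] at h
    exact h
  have hpull : (fun z => Cyc.pullFun p δP δ m ⇑α (j z)) =
      fun z => α y * Cyc.pullFun c δF (fun _ => k) m (fun _ => 1) z := funext fun z => by
    unfold Cyc.pullFun
    rw [show δ (p (j z)) = k by rw [hjy, hyk], show α (p (j z)) = α y by rw [hjy]]
    by_cases hd : δP (j z) = k + m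
    · rw [if_pos hd, if_pos (show δF z = k + m from hd), one_mul]
      refine congrArg (fun l : ℕ∞ => α y * ((l.toNat : ℕ) : ℤ)) ?_
      refine (CycFin.length_fibre_stalk p (φ.hom z)).symm.trans ?_
      rw [CycDim.length_congr (asIso (φ.hom.stalkMap z)).commRingCatIsoToRingEquiv]
      have hm0 : Ideal.map (c.stalkMap z).hom
          (IsLocalRing.maximalIdeal ((Spec (CommRingCat.of K)).presheaf.stalk (c z))) = ⊥ := by
        rw [IsLocalRing.isField_iff_maximalIdeal_eq.1 ?_, Ideal.map_bot]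
        exact MonoSmooth.isField_stalk_Spec K (c z)
      exact (Submodule.quotEquivOfEqBot _ hm0).length_eq.symm
    · rw [if_neg hd, if_neg (show ¬ δF z = k + m from hd), mul_zero]
  have hlev : ∀ x, Cyc.pullFun p δP δ m ⇑α x ≠ 0 → δP x = k + m := fun x hx => by
    unfold Cyc.pullFun at hx
    split at hx
    · next h => rw [h, hα' _ (left_ne_zero_of_mul hx)]
    · exact absurd rfl hx
  have hr : ∀ ξ x, ξ ⤳ x → x ∈ Set.range j → ∀ η, η ⤳ ξ → Cyc.pullFun p δP δ m ⇑α η ≠ 0 →
      ξ ∈ Set.range j := fun ξ x hξ hx η hη hη0 => by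
    rw [hrange] at hx ⊢
    have hxy : p x = y := hx
    have h4 : α (p η) ≠ 0 := fun h0 => hη0 (by unfold Cyc.pullFun; rw [h0]; simp)
    have hs1 : p η ⤳ p ξ := hη.map p.continuous
    have hs2 : p ξ ⤳ y := hxy ▸ hξ.map p.continuous
    have he : p η = y := by
      by_contra hne
      have := (hX.2.2 _ _ (hs1.trans hs2) hne).1
      rw [hα' _ h4, hyk] at this
      omega
    exact (hs2.antisymm (he ▸ hs1)).eq
  let tF : ℕ → (z : CohB1.ProjSpace m K) → Cyc.secFibre ((Scheme.Modules.pullback j).obj O) z :=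
    fun i z => CycSec.secPull j z (t i (j z))
  have hval : ∀ z, Cyc.c1PowFun δP O t m (Cyc.pullFun p δP δ m ⇑α) (j z) =
      α y * Cyc.c1PowFun δF _ tF m (Cyc.pullFun c δF (fun _ => k) m fun _ => 1) z := fun z => by
    rw [c1PowFun_pre j hO t hlev hr m z, hpull, c1PowFun_smul]
  rw [← hrange, finsum_mem_range j.isEmbedding.injective]
  refine Eq.trans ?_ ((congrArg (α y * ·) (degree m _ eO δF k hδF tF fun i z =>
    CycSec.secPull_ne_zero j hO z (ht i _))).trans (mul_one _))
  unfold deg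
  rw [mul_finsum]
  refine finsum_congr fun z => ?_
  rw [hval, mul_assoc]
  refine congrArg (α y * ·) (congrArg (_ * ·) ?_)
  unfold AlgebraicCycle.mapCoeff
  rw [show p.base (j z) = p (j z) from rfl, hjy, hyk, hres]

end Groth.Agent.CycPB
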