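import Groth.Agent.CycPB.LinCls
import Groth.Agent.CycPB.Top
import Groth.Agent.CycDim.AffineSurj

/-!
The classes on a projective bundle generate.
-/

set_option autoImplicit false
set_option linter.unusedSectionVars false
set_option linter.style.haveILetI false
set_option backward.isDefEq.respectTransparency false
set_option backward.isDefEq.respectTransparency.types false

universe u

open CategoryTheory CategoryTheory.Limits AlgebraicGeometry TopologicalSpace Opposite

noncomputable section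

namespace Groth.Agent.CycPB

variable {X P : Scheme.{u}} {p : P ⟶ X} {O : P.Modules} {n : ℕ} {δ : X → ℤ} {δP : P → ℤ}

set_option maxHeartbeats 1000000 in
/-- The fibre over a point, seen as projective space. -/
theorem fibre_lin (hX : Cyc.IsSetup X δ) (hP : Cyc.IsSetup P δP) [IsProper p] (hδ : Cyc.DeltaCompat p δP δ)
    (hF : HasPnFibres p O n) (hO : PicF.IsInvertible O) {N : ℤ} (y : X) (hy : δ y = N) (i : ℕ)
    (t : ℕ → (ξ : P) → Cyc.secFibre O ξ) (ht : ∀ i ξ, t i ξ ≠ 0) :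
    (∀ (α : X → ℤ), (∀ z, α z ≠ 0 → δ z = N) → ∀ q, p q = y →
      Cyc.c1PowFun δP O t i (Cyc.pullFun p δP δ n α) q =
        α y * Cyc.c1PowFun δP O t i (Cyc.pullFun p δP δ n (ptF y)) q) ∧
    ∀ x, p x = y → δP x = N + n - i →
      ∃ (a : ℤ) (J : Type u) (_ : Fintype J) (ξ : J → P) (g : (l : J) → P.residueField (ξ l)),
        (∀ l, p (ξ l) = y ∧ δP (ξ l) = δP x + 1 ∧ g l ≠ 0) ∧
        ∀ q, p q = y → ∑ l, Cyc.divFun δP (ξ l) (g l) q =
          ptF x q - a * Cyc.c1PowFun δP O t i (Cyc.pullFun p δP δ n (ptF y)) q := by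
  classical
  obtain ⟨φ, hφ, eO⟩ := hF y
  let K := X.residueField y
  let j : CohB1.ProjSpace n K ⟶ P := φ.hom ≫ p.fiberι y
  haveI : IsPreimmersion (p.fiberι y) := inferInstance
  haveI : IsPreimmersion j := inferInstance
  let c := CohB1.ProjSpace.toSpec n K
  haveI : IsProper c := inferInstance
  have hjp : j ≫ p = c ≫ X.fromSpecResidueField y := by
    show (φ.hom ≫ p.fiberι y) ≫ p = CohB1.ProjSpace.toSpec n K ≫ X.fromSpecResidueField y
    rw [← hφ, Category.assoc, Category.assoc]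
    exact congrArg (φ.hom ≫ ·) (IsPullback.of_hasPullback p (X.fromSpecResidueField y)).w
  have hjy : ∀ z, p (j z) = y := fun z => by
    rw [← Scheme.Hom.comp_apply, hjp, Scheme.Hom.comp_apply]
    exact Scheme.fromSpecResidueField_apply y _
  have hrange : Set.range j = p ⁻¹' {y} := by
    rw [← p.range_fiberι y]
    refine subset_antisymm (by rintro _ ⟨z, rfl⟩; exact ⟨φ.hom z, rfl⟩) ?_
    rintro _ ⟨z, rfl⟩
    refine ⟨φ.inv z, ?_⟩
    show (φ.inv ≫ j) z = _
    rw [Iso.inv_hom_id_assoc]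
  let δF : CohB1.ProjSpace n K → ℤ := fun z => δP (j z)
  have hδF : Cyc.DeltaCompat c δF (fun _ => N) := fun z => by
    obtain ⟨a, ha, hz⟩ := hδ (j z)
    refine ⟨a, ?_, by rw [show δF z = δP (j z) from rfl, hz, hjy, hy]⟩
    show CycK0.resTr c z = _
    have h1 := CycK0.resTr_comp j p z
    have h2 := CycK0.resTr_comp c (X.fromSpecResidueField y) z
    rw [resTr_pre j, add_zero] at h1
    rw [resTr_pre (X.fromSpecResidueField y), zero_add, ← hjp] at h2
    rw [← h2, h1]
    exact ha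
  let G : CohB1.ProjSpace n K → ℤ := Cyc.pullFun c δF (fun _ => N) n fun _ => 1
  let tF : ℕ → (z : CohB1.ProjSpace n K) → Cyc.secFibre ((Scheme.Modules.pullback j).obj O) z :=
    fun l z => CycSec.secPull j z (t l (j z))
  have hval : ∀ (α : X → ℤ), (∀ z, α z ≠ 0 → δ z = N) → ∀ z,
      Cyc.c1PowFun δP O t i (Cyc.pullFun p δP δ n α) (j z) =
        α y * Cyc.c1PowFun δF _ tF i G z := fun α hα z => by
    have hpull : (fun z => Cyc.pullFun p δP δ n α (j z)) = fun z => α y * G z := funext fun z => by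
      show _ = α y * Cyc.pullFun c δF (fun _ => N) n (fun _ => 1) z
      unfold Cyc.pullFun
      rw [show δ (p (j z)) = N by rw [hjy, hy], show α (p (j z)) = α y by rw [hjy]]
      by_cases hd : δP (j z) = N + n
      · rw [if_pos hd, if_pos (show δF z = N + n from hd), one_mul]
        refine congrArg (fun l : ℕ∞ => α y * ((l.toNat : ℕ) : ℤ)) ?_
        refine (CycFin.length_fibre_stalk p (φ.hom z)).symm.trans ?_
        rw [CycDim.length_congr (asIso (φ.hom.stalkMap z)).commRingCatIsoToRingEquiv]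
        have hm0 : Ideal.map (c.stalkMap z).hom
            (IsLocalRing.maximalIdeal ((Spec (CommRingCat.of K)).presheaf.stalk (c z))) = ⊥ := by
          rw [IsLocalRing.isField_iff_maximalIdeal_eq.1 ?_, Ideal.map_bot]
          exact MonoSmooth.isField_stalk_Spec K (c z)
        exact (Submodule.quotEquivOfEqBot _ hm0).length_eq.symm
      · rw [if_neg hd, if_neg (show ¬ δF z = N + n from hd), mul_zero]
    have hlev : ∀ x, Cyc.pullFun p δP δ n α x ≠ 0 → δP x = N + n := fun x hx => by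
      unfold Cyc.pullFun at hx
      split at hx
      · next h => rw [h, hα _ (left_ne_zero_of_mul hx)]
      · exact absurd rfl hx
    have hr : ∀ ξ x, ξ ⤳ x → x ∈ Set.range j → ∀ η, η ⤳ ξ → Cyc.pullFun p δP δ n α η ≠ 0 →
        ξ ∈ Set.range j := fun ξ x hξ hx η hη hη0 => by
      rw [hrange] at hx ⊢
      have hxy : p x = y := hx
      have h4 : α (p η) ≠ 0 := fun h0 => hη0 (by unfold Cyc.pullFun; rw [h0]; simp)
      have hs1 : p η ⤳ p ξ := hη.map p.continuous
      have hs2 : p ξ ⤳ y := hxy ▸ hξ.map p.continuous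
      have he : p η = y := by
        by_contra hne
        have := (hX.2.2 _ _ (hs1.trans hs2) hne).1
        rw [hα _ h4, hy] at this
        omega
      exact (hs2.antisymm (he ▸ hs1)).eq
    rw [c1PowFun_pre j hO t hlev hr i z, hpull, c1PowFun_smul]
  have hpt : ∀ z, ptF y z ≠ 0 → δ z = N := fun z hz => by
    rw [ptF_apply] at hz
    rw [show z = y from by_contra fun h => hz (if_neg h), hy]
  refine ⟨fun α hα q hq => ?_, fun x hx hdx => ?_⟩
  · obtain ⟨z, rfl⟩ : q ∈ Set.range j := hrange ▸ hq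
    rw [hval α hα z, hval (ptF y) hpt z, ptF_apply, if_pos rfl, one_mul]
  obtain ⟨w, rfl⟩ : x ∈ Set.range j := hrange ▸ hx
  obtain ⟨a, m, -, hm, C, hC, -, J, ξ, f, hξ, hf, hloc, hsum⟩ :=
    exists_linear n _ eO δF N hδF tF (fun l z => CycSec.secPull_ne_zero j hO z (ht l _)) w
  obtain rfl : m = i := by
    change δP (j w) = _ at hm
    omega
  haveI : CompactSpace (CohB1.ProjSpace n K) := QuasiCompact.compactSpace_of_compactSpace c
  choose U hU hxU hfin using hloc
  obtain ⟨s, hs⟩ := isCompact_univ.elim_finite_subcover U hU fun v _ => Set.mem_iUnion.2 ⟨v, hxU v⟩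
  haveI : Finite J := Set.finite_univ_iff.1 ((s.finite_toSet.biUnion fun v _ => hfin v).subset fun l _ => by
    obtain ⟨v, hv, hlv⟩ := Set.mem_iUnion₂.1 (hs (Set.mem_univ (ξ l)))
    exact Set.mem_biUnion hv ⟨ξ l, subset_closure rfl, hlv⟩)
  letI := Fintype.ofFinite J
  choose g hg using fun l => CycPush.residueFieldMap_surjective_pre j (ξ l) (f l)
  refine ⟨a, J, inferInstance, fun l => j (ξ l), g, fun l =>
    ⟨hjy _, hξ l, fun h' => hf l (by rw [← hg l, h', map_zero])⟩, fun q hq => ?_⟩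
  obtain ⟨z, rfl⟩ : q ∈ Set.range j := hrange ▸ hq
  have h1 : C z = ∑ l, Cyc.divFun δF (ξ l) (f l) z := (hsum z).trans (finsum_eq_sum_of_fintype _)
  have h2 : C z = ptF w z - a * Cyc.c1PowFun δF _ tF m G z := congrFun hC z
  have h3 : ptF (j w) (j z) = ptF w z := by
    rw [ptF_apply, ptF_apply]
    by_cases hz : z = w
    · rw [hz, if_pos rfl, if_pos rfl]
    · rw [if_neg hz, if_neg fun h => hz (j.isEmbedding.injective h)]
  rw [hval (ptF y) hpt z, ptF_apply y y, if_pos rfl, one_mul, h3, ← h2, h1]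
  refine Finset.sum_congr rfl fun l _ => ?_
  rw [CycLine.divFun_pre j δF δP 0 (fun v => (add_zero _).symm) (ξ l) (g l) z, hg]

set_option maxHeartbeats 1000000 in
/-- Removing the part of a cycle over the points of largest dimension. -/
theorem span_step (hX : Cyc.IsSetup X δ) (hP : Cyc.IsSetup P δP) [IsProper p] (hδ : Cyc.DeltaCompat p δP δ)
    (hF : HasPnFibres p O n) (hO : PicF.IsInvertible O) (k : ℤ) (i : ℕ) (t : ℕ → (ξ : P) → Cyc.secFibre O ξ)
    (ht : ∀ i ξ, t i ξ ≠ 0) (β : AlgebraicCycle P ℤ) (hβ : β ∈ Cyc.Zk P δP (k + n))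
    (hb : ∀ x, β x ≠ 0 → δ (p x) ≤ k + i) :
    ∃ (A : X → ℤ) (β' : AlgebraicCycle P ℤ), Cy δ (k + i) A ∧ β' ∈ Cyc.Zk P δP (k + n) ∧
      (∀ x, β' x ≠ 0 → δ (p x) < k + i) ∧
      RZ δP (k + n) fun x => β x - β' x - Cyc.c1PowFun δP O t i (Cyc.pullFun p δP δ n A) x := by
  classical
  haveI := hX.1
  haveI := hP.1
  let T := {x : P // β x ≠ 0 ∧ δ (p x) = k + i}
  have hlev : ∀ x : T, δP x.1 = k + n := fun x => by_contra fun e => x.2.1 (hβ x.1 e)
  choose a J hJ ξ g hg hsum using fun x : T =>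
    (fibre_lin hX hP hδ hF hO (p x.1) x.2.2 i t ht).2 x.1 rfl (by rw [hlev x]; ring)
  let I := Σ x : T, J x
  let Ξ : I → P := fun l => ξ l.1 l.2
  let G : (l : I) → P.residueField (Ξ l) := fun l => g l.1 l.2 ^ β l.1.1
  have hG : ∀ l : I, G l ≠ 0 := fun l => zpow_ne_zero _ (hg l.1 l.2).2.2
  have hδΞ : ∀ l : I, δP (Ξ l) = k + n + 1 := fun l => by
    show δP (ξ l.1 l.2) = _
    rw [(hg l.1 l.2).2.1, hlev]
  have hB : ∀ V : X.Opens, IsAffineOpen V → {x : T | p x.1 ∈ V}.Finite := fun V hV =>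
    ((CycAff.finite_on β (QuasiCompact.isCompact_preimage (f := p) _ V.2 hV.isCompact)).preimage
      Subtype.val_injective.injOn).subset fun x hx => ⟨hx, x.2.1⟩
  have hloc : ∀ q : P, ∃ U : Set P, IsOpen U ∧ q ∈ U ∧ {l | (closure {Ξ l} ∩ U).Nonempty}.Finite := by
    intro q
    obtain ⟨V, hV, hqV, -⟩ := exists_isAffineOpen_mem_and_subset (x := p q) (U := (⊤ : X.Opens)) trivial
    refine ⟨p ⁻¹ᵁ V, (p ⁻¹ᵁ V).2, hqV,
      ((hB V hV).toFinset.sigma fun x => (@Finset.univ (J x) (hJ x))).finite_toSet.subset ?_⟩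
    rintro l ⟨z, hz, hzV⟩
    refine Finset.mem_coe.2 (Finset.mem_sigma.2 ⟨(hB V hV).mem_toFinset.2 ?_, @Finset.mem_univ _ (hJ _) _⟩)
    show p l.1.1 ∈ V
    rw [← (hg l.1 l.2).1]
    exact (specializes_iff_mem_closure.2 hz).mem_open (p ⁻¹ᵁ V).2 hzV
  let F : P → ℤ := fun q => ∑ᶠ l : I, Cyc.divFun δP (Ξ l) (G l) q
  have hFfin : ∀ {U : P.Opens}, IsAffineOpen U → {q : P | q ∈ U ∧ F q ≠ 0}.Finite := by
    intro U hU
    choose W hW hqW hfin using hloc
    obtain ⟨s, hs⟩ := hU.isCompact.elim_finite_subcover W hW fun q _ => Set.mem_iUnion.2 ⟨q, hqW q⟩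
    refine ((s.finite_toSet.biUnion fun q _ => hfin q).biUnion fun l _ =>
      CycDiv.finite_divFun hP.2.2 (Ξ l) (hG l) hU).subset ?_
    rintro q ⟨hqU, hq⟩
    obtain ⟨l, hl⟩ : ∃ l, Cyc.divFun δP (Ξ l) (G l) q ≠ 0 := by
      by_contra hall
      exact hq (finsum_eq_zero_of_forall_eq_zero fun l => not_not.1 fun hne => hall ⟨l, hne⟩)
    obtain ⟨r, hr, hqr⟩ := Set.mem_iUnion₂.1 (hs hqU)
    exact Set.mem_biUnion (Set.mem_biUnion hr
      ⟨q, specializes_iff_mem_closure.1 (CycDeg.divFun_delta hl).1, hqr⟩) ⟨hqU, hl⟩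
  let D : AlgebraicCycle P ℤ := CycLim.mkCycle F hFfin
  have hD : ∀ q, D q ≠ 0 → δP q = k + n ∧ δ (p q) ≤ k + i := by
    intro q hq
    obtain ⟨l, hl⟩ : ∃ l, Cyc.divFun δP (Ξ l) (G l) q ≠ 0 := by
      by_contra hall
      exact hq (finsum_eq_zero_of_forall_eq_zero fun l => not_not.1 fun hne => hall ⟨l, hne⟩)
    obtain ⟨h1, h2⟩ := CycDeg.divFun_delta hl
    refine ⟨by have := hδΞ l; omega, ?_⟩
    have hs : p l.1.1 ⤳ p q := (hg l.1 l.2).1 ▸ h1.map p.continuous
    have := l.1.2.2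
    by_cases e : p l.1.1 = p q
    · rw [← e]; omega
    · have := (hX.2.2 _ _ hs e).1; omega
  let A : X → ℤ := fun y => ∑ᶠ x : T, if p x.1 = y then β x.1 * a x else 0
  have hA : ∀ y, A y ≠ 0 → ∃ x : T, p x.1 = y := fun y hy => by
    by_contra h
    exact hy (finsum_eq_zero_of_forall_eq_zero fun x => if_neg fun e => h ⟨x, e⟩)
  have hAlev : ∀ y, A y ≠ 0 → δ y = k + i := fun y hy => by
    obtain ⟨x, rfl⟩ := hA y hy
    exact x.2.2
  obtain ⟨Ac, hAc⟩ := CycK0.exists_cycle_affine A fun {V} hV =>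
    ((hB V hV).image fun x : T => p x.1).subset fun y hy => by
      obtain ⟨x, rfl⟩ := hA y hy.2
      exact ⟨x, hy.1, rfl⟩
  have hAcy : Cy δ (k + i) A := ⟨Ac, hAc, fun y hy => by_contra fun h => hy (hAlev y (hAc ▸ h))⟩
  have hE := (hAcy.pull hP hδ (hasRelDim_of_hasPnFibres hF)).pow hP hO (t := t) ht i
  rw [show k + (i : ℤ) + n - (i : ℤ) = k + n by ring] at hE
  obtain ⟨E, hE, hEk⟩ := hE
  have hEb : ∀ q, E q ≠ 0 → δ (p q) ≤ k + i := fun q hq => by
    rw [hE] at hq
    obtain ⟨-, η, hη, hη0⟩ := c1PowFun_level t (l := k + i + n) (fun x hx => by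
      unfold Cyc.pullFun at hx
      split at hx
      · next h => rw [h, hAlev _ (left_ne_zero_of_mul hx)]
      · exact absurd rfl hx) i q hq
    have h4 : A (p η) ≠ 0 := fun h0 => hη0 (by unfold Cyc.pullFun; rw [h0]; simp)
    have := hAlev _ h4
    by_cases e : p η = p q
    · rw [← e]; omega
    · have := (hX.2.2 _ _ (hη.map p.continuous) e).1; omega
  have htop : ∀ q, δ (p q) = k + i → D q + E q = β q := by
    intro q hq
    obtain ⟨V, hV, hqV, -⟩ := exists_isAffineOpen_mem_and_subset (x := p q) (U := (⊤ : X.Opens)) trivial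
    let e : P → ℤ := Cyc.c1PowFun δP O t i (Cyc.pullFun p δP δ n (ptF (p q)))
    let S : Finset T := (hB V hV).toFinset.filter fun x => p x.1 = p q
    have hS : ∀ x : T, x ∈ S ↔ p x.1 = p q := fun x => by
      simp only [S, Finset.mem_filter, Set.Finite.mem_toFinset, Set.mem_setOf_eq, and_iff_right_iff_imp]
      intro h
      rw [h]; exact hqV
    have hEq : E q = (∑ x ∈ S, β x.1 * a x) * e q := by
      rw [hE, (fibre_lin hX hP hδ hF hO (p q) hq i t ht).1 A hAlev q rfl]
      refine congrArg (· * _) ((finsum_eq_sum_of_support_subset _ (s := S) fun x hx => ?_).trans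
        (Finset.sum_congr rfl fun x hx => if_pos ((hS x).1 hx)))
      exact Finset.mem_coe.2 ((hS x).2 (by_contra fun h => hx (if_neg h)))
    have hDq : D q = ∑ x ∈ S, β x.1 * (ptF x.1 q - a x * e q) := by
      show F q = _
      refine (finsum_eq_sum_of_support_subset _ (s := S.sigma fun x => (@Finset.univ (J x) (hJ x))) ?_).trans ?_
      · rintro ⟨x, l⟩ hl
        refine Finset.mem_coe.2 (Finset.mem_sigma.2 ⟨(hS x).2 (by_contra fun e' => ?_), @Finset.mem_univ _ (hJ _) _⟩)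
        have hne : Cyc.divFun δP (ξ x l) (g x l ^ β x.1) q ≠ 0 := hl
        have hsp : p x.1 ⤳ p q := (hg x l).1 ▸ (CycDeg.divFun_delta hne).1.map p.continuous
        have := (hX.2.2 _ _ hsp e').1
        have := x.2.2
        omega
      rw [Finset.sum_sigma]
      refine Finset.sum_congr rfl fun x hx => ?_
      have hxq := (hS x).1 hx
      rw [show e q = Cyc.c1PowFun δP O t i (Cyc.pullFun p δP δ n (ptF (p x.1))) q by rw [hxq],
        ← hsum x q hxq.symm, Finset.mul_sum]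
      refine Finset.sum_congr rfl fun l _ => ?_
      show Cyc.divFun δP (ξ x l) (g x l ^ β x.1) q = _
      unfold Cyc.divFun
      split
      · next hh => rw [C1Cap.ordAt_zpow _ (hg x l).2.2]
      · rw [mul_zero]
    rw [hDq, hEq, Finset.sum_mul, ← Finset.sum_add_distrib]
    simp only [mul_sub, ← mul_assoc, sub_add_cancel, ptF_apply, mul_ite, mul_one, mul_zero]
    by_cases hq0 : β q = 0
    · rw [hq0]
      exact Finset.sum_eq_zero fun x _ => if_neg fun h : q = x.1 => x.2.1 ((congrArg β h).symm.trans hq0)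
    · rw [Finset.sum_eq_single (⟨q, hq0, hq⟩ : T) (fun x _ hx => if_neg fun h => hx (Subtype.ext h.symm))
        (fun hnot => absurd ((hS _).2 rfl) hnot), if_pos rfl]
  refine ⟨A, β - D - E, hAcy, fun q hq => ?_, fun q hq => ?_, ⟨D, funext fun q => ?_,
    fun q hq => not_not.1 fun h => hq (hD q h).1, I, Ξ, G, hδΞ, hG, hloc, fun q => rfl⟩⟩
  · show β q - D q - E q = 0
    rw [hβ q hq, hEk q hq, show D q = 0 from not_not.1 fun h => hq (hD q h).1]
    rfl
  · change β q - D q - E q ≠ 0 at hq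
    by_contra hlt
    rcases lt_or_eq_of_le (not_lt.1 hlt) with hgt | heq
    · exact hq (by
        rw [not_not.1 fun hne => not_le.2 hgt (hb q hne), not_not.1 fun hne => not_le.2 hgt (hD q hne).2,
          not_not.1 fun hne => not_le.2 hgt (hEb q hne)]
        rfl)
    · exact hq (by rw [← htop q heq.symm]; ring)
  · show D q = β q - (β q - D q - E q) - _
    rw [← hE]
    ring

/-- The classes generate. -/
theorem span (hX : Cyc.IsSetup X δ) (hP : Cyc.IsSetup P δP) [IsProper p] (hδ : Cyc.DeltaCompat p δP δ)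
    (hF : HasPnFibres p O n) (hO : PicF.IsInvertible O) {k : ℤ}
    (t : Fin (n + 1) → ℕ → (ξ : P) → Cyc.secFibre O ξ) (ht : ∀ i m ξ, t i m ξ ≠ 0)
    (β : AlgebraicCycle P ℤ) (hβ : β ∈ Cyc.Zk P δP (k + n)) :
    ∃ α : Fin (n + 1) → X → ℤ, (∀ i : Fin (n + 1), Cy δ (k + ((i : ℕ) : ℤ)) (α i)) ∧
      RZ δP (k + n) fun x => β x - ∑ i : Fin (n + 1),
        Cyc.c1PowFun δP O (t i) (i : ℕ) (Cyc.pullFun p δP δ n (α i)) x := by
  classical
  haveI := hX.1
  haveI := hP.1
  have hbd : ∀ x, β x ≠ 0 → δ (p x) ≤ k + n := fun x hx => by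
    obtain ⟨m, -, hm⟩ := hδ x
    have := not_not.1 fun e => hx (hβ x e)
    omega
  have hlow : ∀ x, δP x = k + n → k ≤ δ (p x) := fun x hx => by
    have := (CycDim.delta_le p hδ (hasRelDim_of_hasPnFibres hF) x).1
    omega
  have zero : ∀ (i : Fin (n + 1)) (x : P),
      Cyc.c1PowFun δP O (t i) (i : ℕ) (Cyc.pullFun p δP δ n fun _ => 0) x = 0 := fun i x => by
    have e : Cyc.pullFun p δP δ n (fun _ => 0) = fun x => (0 : ℤ) * (0 : ℤ) := funext fun x => by
      simp [Cyc.pullFun]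
    rw [e, c1PowFun_smul]
    exact zero_mul _
  suffices H : ∀ j : ℕ, j ≤ n + 1 → ∀ β : AlgebraicCycle P ℤ, β ∈ Cyc.Zk P δP (k + n) →
      (∀ x, β x ≠ 0 → δ (p x) < k + j) →
      ∃ α : Fin (n + 1) → X → ℤ, (∀ i : Fin (n + 1), Cy δ (k + ((i : ℕ) : ℤ)) (α i)) ∧
        (∀ i : Fin (n + 1), j ≤ (i : ℕ) → α i = fun _ => 0) ∧
        RZ δP (k + n) fun x => β x - ∑ i : Fin (n + 1),
          Cyc.c1PowFun δP O (t i) (i : ℕ) (Cyc.pullFun p δP δ n (α i)) x by
    obtain ⟨α, h1, -, h2⟩ := H (n + 1) le_rfl β hβ fun x hx => by have := hbd x hx; push_cast; omega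
    exact ⟨α, h1, h2⟩
  intro j
  induction j with
  | zero =>
    intro _ β hβ hb
    refine ⟨fun _ _ => 0, fun _ => Cy.zero, fun _ _ => rfl, ?_⟩
    refine Eq.mp (congrArg (RZ δP (k + n)) (funext fun x => ?_)) RZ.zero
    rw [Finset.sum_eq_zero fun i _ => zero i x, sub_zero]
    by_contra hne
    have hx : β x ≠ 0 := fun h => hne h.symm
    have := hlow x (not_not.1 fun e => hx (hβ x e))
    have := hb x hx
    push_cast at this
    omega
  | succ j ih =>
    intro hj β hβ hb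
    let i₀ : Fin (n + 1) := ⟨j, hj⟩
    obtain ⟨A, β', hA, hβ', hb', hr⟩ := span_step hX hP hδ hF hO k j (t i₀) (ht i₀) β hβ
      fun x hx => by have := hb x hx; push_cast at this; omega
    obtain ⟨α, hα, hα0, hr'⟩ := ih (by omega) β' hβ' hb'
    refine ⟨Function.update α i₀ A, fun i => ?_, fun i hi => ?_, ?_⟩
    · by_cases h : i = i₀
      · subst h
        rw [Function.update_self]
        exact hA
      · rw [Function.update_of_ne h]
        exact hα i
    · rw [Function.update_of_ne (fun h : i = i₀ => by rw [h] at hi; exact absurd hi (by simp [i₀]))]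
      exact hα0 i (by omega)
    refine Eq.mp (congrArg (RZ δP (k + n)) (funext fun x => ?_)) (hr.add hr')
    have hrest : ∀ i ∈ Finset.univ.erase i₀,
        Cyc.c1PowFun δP O (t i) (i : ℕ) (Cyc.pullFun p δP δ n (Function.update α i₀ A i)) x =
          Cyc.c1PowFun δP O (t i) (i : ℕ) (Cyc.pullFun p δP δ n (α i)) x := fun i hi => by
      rw [Function.update_of_ne (Finset.ne_of_mem_erase hi)]
    rw [← Finset.add_sum_erase _ _ (Finset.mem_univ i₀), ← Finset.add_sum_erase (a := i₀) _ (fun i =>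
      Cyc.c1PowFun δP O (t i) (i : ℕ) (Cyc.pullFun p δP δ n (Function.update α i₀ A i)) x) (Finset.mem_univ i₀)]
    rw [show Function.update α i₀ A i₀ = A from Function.update_self _ _ _, hα0 i₀ le_rfl, zero,
      Finset.sum_congr rfl hrest]
    show _ - _ - Cyc.c1PowFun δP O (t i₀) j _ x + _ = _
    ring

end Groth.Agent.CycPB
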