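import Groth.Agent.CycPB.Hyperplane
import Groth.Agent.CycPB.GysFibre
import Groth.Agent.CycPB.Span
import Groth.Agent.S1863

/-!
A class on the base dies if its pull back dies off a hyperplane bundle.
-/

set_option autoImplicit false
set_option linter.unusedSectionVars false
set_option linter.style.haveILetI false
set_option backward.isDefEq.respectTransparency false
set_option backward.isDefEq.respectTransparency.types false

universe u

open CategoryTheory CategoryTheory.Limits AlgebraicGeometry TopologicalSpace Opposite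
open Groth.Agent.WeakAssLib (mgerm)

noncomputable section

namespace Groth.Agent.CycPB

variable {X P H : Scheme.{u}} {δ : X → ℤ} {δP : P → ℤ} {p : P ⟶ X} {O : P.Modules}

/-- The fibres of the zero scheme of a section meeting every fibre properly. -/
theorem hasPnFibres_zero [IsProper p] [IsLocallyNoetherian X] [IsLocallyNoetherian P] {m : ℕ}
    (hF : HasPnFibres p O (m + 1)) (hO : PicF.IsInvertible O) {s : Γ(O, (⊤ : P.Opens))} (ι : H ⟶ P)
    [IsClosedImmersion ι] (hZ : Cyc.IsZeroSchemeOf ι O s) (hs : ∀ y, ∃ x, p x = y ∧ x ∉ Set.range ι) :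
    HasPnFibres (ι ≫ p) ((Scheme.Modules.pullback ι).obj O) m := by
  intro y
  obtain ⟨φ, hφ, ⟨eO⟩⟩ := hF y
  let K := X.residueField y
  let j : CohB1.ProjSpace (m + 1) K ⟶ P := φ.hom ≫ p.fiberι y
  let T := (ι ≫ p).fiber y
  let ιT : T ⟶ H := (ι ≫ p).fiberι y
  let cT : T ⟶ Spec (CommRingCat.of K) := (ι ≫ p).fiberToSpecResidueField y
  have hP' : IsPullback (p.fiberι y) (p.fiberToSpecResidueField y) p (X.fromSpecResidueField y) := .of_hasPullback _ _
  have hT : IsPullback ιT cT (ι ≫ p) (X.fromSpecResidueField y) := .of_hasPullback _ _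
  let k : T ⟶ p.fiber y := hP'.lift (ιT ≫ ι) cT (by rw [Category.assoc]; exact hT.w)
  have hk1 : k ≫ p.fiberι y = ιT ≫ ι := hP'.lift_fst _ _ _
  have hk2 : k ≫ p.fiberToSpecResidueField y = cT := hP'.lift_snd _ _ _
  have sq0 : IsPullback k ιT (p.fiberι y) ι :=
    (IsPullback.of_bot (v₂₁ := p.fiberToSpecResidueField y) (v₂₂ := p) (h₃₁ := X.fromSpecResidueField y)
      (by rw [hk2]; exact hT) hk1.symm hP').flip
  let k' : T ⟶ CohB1.ProjSpace (m + 1) K := k ≫ φ.inv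
  have sq : IsPullback k' ιT j ι := by
    refine IsPullback.of_iso sq0 (Iso.refl _) φ.symm (Iso.refl _) (Iso.refl _) ?_ ?_ ?_ ?_ <;> simp [k', j]
  haveI : IsClosedImmersion k' := MorphismProperty.of_isPullback sq.flip inferInstance
  haveI : IsLocallyNoetherian (CohB1.ProjSpace (m + 1) K) :=
    LocallyOfFiniteType.isLocallyNoetherian (CohB1.ProjSpace.toSpec (m + 1) K)
  obtain ⟨σ, hσ, -⟩ := isZeroSchemeOf_pullback j sq hO hZ
  have hne : ∃ z, z ∉ Set.range k' := by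
    obtain ⟨x, hxy, hx⟩ := hs y
    obtain ⟨v, rfl⟩ : x ∈ Set.range (p.fiberι y) := by rw [p.range_fiberι]; exact hxy
    refine ⟨φ.inv v, fun ⟨w, hw⟩ => hx ⟨ιT w, ?_⟩⟩
    show (ιT ≫ ι) w = _
    rw [← sq.w]
    show p.fiberι y (φ.hom (k' w)) = _
    rw [hw]
    show p.fiberι y ((φ.inv ≫ φ.hom) v) = _
    rw [φ.inv_hom_id]
    rfl
  obtain ⟨ψ, hψ, ⟨eH⟩⟩ := exists_hyperplane_iso eO k' hσ hne
  refine ⟨ψ, ?_, ⟨?_⟩⟩
  · rw [← hψ, ← hφ]
    show ψ.hom ≫ cT = _
    rw [← hk2]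
    simp [k']
  · refine (Scheme.Modules.pullbackComp (ψ.hom ≫ ιT) ι).app O ≪≫
      (Scheme.Modules.pullbackCongr ?_).app O ≪≫ ((Scheme.Modules.pullbackComp (ψ.hom ≫ k') j).app O).symm ≪≫ eH
    rw [Category.assoc, Category.assoc, ← sq.w]

/-- The hyperplane class. -/
theorem pushF_pull_zero [IsProper p] [Flat p] (hX : Cyc.IsSetup X δ) (hP : Cyc.IsSetup P δP)
    (hδ : Cyc.DeltaCompat p δP δ) {m : ℕ} (hF : HasPnFibres p O (m + 1)) (hO : PicF.IsInvertible O)
    {s : Γ(O, (⊤ : P.Opens))} (ι : H ⟶ P) [IsClosedImmersion ι] (hZ : Cyc.IsZeroSchemeOf ι O s)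
    (hs : ∀ y, ∃ x, p x = y ∧ x ∉ Set.range ι) (w : (ξ : P) → Cyc.secFibre O ξ) {l : ℤ} {a : X → ℤ}
    (ha : Cy δ (l + 1) a) :
    pushF ι (fun d => δP (ι d)) δP (Cyc.pullFun (ι ≫ p) (fun d => δP (ι d)) δ m a) =
      Cyc.c1CapFun δP O (Cyc.pullFun p δP δ (m + 1 : ℕ) a) (Cyc.gysinChoice O s w) := by
  haveI := hX.1
  haveI := hP.1
  obtain ⟨A, rfl, hA⟩ := ha
  funext x
  by_cases hx : x ∈ Set.range ι
  · obtain ⟨d, rfl⟩ := hx
    have hint : ∀ d : H, (Ideal.map (p.stalkMap (ι d)).hom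
        (IsLocalRing.maximalIdeal (X.presheaf.stalk (p (ι d))))).IsPrime ∧
          ∃ z : P, z ⤳ ι d ∧ p z = p (ι d) ∧ z ∉ Set.range ι := by
      intro d
      obtain ⟨φ, -, -⟩ := hF (p (ι d))
      haveI := Horrocks.isIntegral_projSpace (k := X.residueField (p (ι d))) (n := m + 1)
      haveI : Nonempty ↥(p.fiber (p (ι d))) := ⟨φ.hom (genericPoint _)⟩
      haveI : IsIntegral (p.fiber (p (ι d))) := isIntegral_of_isOpenImmersion φ.inv
      refine ⟨?_, ?_⟩
      · obtain ⟨e1⟩ := CMFlat.nonempty_stalk_equiv_asFiber p (ι d) (p.asFiber (ι d)) (p.fiberι_asFiber _)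
        obtain ⟨e2⟩ := CMFlat.nonempty_fiberStalk_equiv p (ι d)
        refine (Ideal.Quotient.isDomain_iff_prime _).1 ?_
        exact MulEquiv.isDomain ((p.fiber (p (ι d))).presheaf.stalk (p.asFiber (ι d)))
          (e2.trans e1.symm).toMulEquiv
      · obtain ⟨z, hz, hzi⟩ := hs (p (ι d))
        obtain ⟨v, rfl⟩ : z ∈ Set.range (p.fiberι (p (ι d))) := by rw [p.range_fiberι]; exact hz
        let η := genericPoint (p.fiber (p (ι d)))
        have h1 : p (p.fiberι _ η) = p (ι d) := by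
          have : p.fiberι (p (ι d)) η ∈ Set.range (p.fiberι (p (ι d))) := ⟨η, rfl⟩
          rw [p.range_fiberι] at this
          exact this
        refine ⟨p.fiberι _ η, ?_, h1, fun h => hzi ?_⟩
        · have h2 := (genericPoint_specializes (p.asFiber (ι d))).map (p.fiberι (p (ι d))).continuous
          rwa [p.fiberι_asFiber] at h2
        · exact ((genericPoint_specializes v).map (p.fiberι (p (ι d))).continuous).mem_closed
            ι.isClosedEmbedding.isClosed_range h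
    have h := gysin_pullFun_fibre hP hX p m (hasRelDim_of_hasPnFibres hF) hδ hO s ι hZ hint
      (hasRelDim_of_hasPnFibres (hasPnFibres_zero hF hO ι hZ hs)) l A hA w d
    rw [show Cyc.c1CapFun δP O (Cyc.pullFun p δP δ ((m + 1 : ℕ) : ℤ) ⇑A) (Cyc.gysinChoice O s w) (ι d) =
        Cyc.pullFun (ι ≫ p) (fun d => δP (ι d)) δ m ⇑A d by push_cast at h ⊢; exact h]
    unfold pushF
    rw [show (ι ⁻¹' {ι d} : Set H) = {d} from Set.ext fun z =>
      ⟨fun h => ι.isClosedEmbedding.injective h, fun h => by rw [Set.mem_singleton_iff.1 h]; rfl⟩,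
      finsum_mem_singleton, show (AlgebraicCycle.mapCoeff ι (fun d => δP (ι d)) δP d : ℤ) = 1 by
        exact_mod_cast S1918.mapCoeff_closed ι δP d, mul_one]
  · refine Eq.trans (finsum_mem_eq_zero_of_forall_eq_zero fun z hz => absurd ⟨z, hz⟩ hx) ?_
    symm
    refine finsum_eq_zero_of_forall_eq_zero fun ξ => ?_
    by_contra hne
    obtain ⟨hsp, hdx⟩ := CycSec.secDivFun_support (right_ne_zero_of_mul hne)
    have hξ : ξ ∉ Set.range ι := fun h => hx (hsp.mem_closed ι.isClosedEmbedding.isClosed_range h)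
    obtain ⟨V, g, hxV, hg, f, hf⟩ := CycK0.exists_coefficient hO s x
    refine right_ne_zero_of_mul hne ?_
    have hξV : ξ ∈ V := hsp.mem_open V.2 hxV
    have hgc : Cyc.gysinChoice O s w ξ =
        CycDim.spz hsp f • (Submodule.Quotient.mk (mgerm O hξV g) : Cyc.secFibre O ξ) := by
      have h1 := congrArg (RefStalk.msp O hsp) hf
      rw [RefStalk.msp_smul, RefStalk.msp_germ O hsp hxV g] at h1
      rw [← Submodule.Quotient.mk_smul, ← h1,
        RefStalk.msp_germ O hsp (show x ∈ (⊤ : P.Opens) from trivial) s]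
      unfold Cyc.gysinChoice
      exact if_pos fun h => hξ (by rw [hZ.1]; exact h)
    rw [Cyc.secDivFun, dif_pos ⟨hsp, hdx⟩, C1Cap.secOrdAt_eq hg hsp hxV hgc]
    exact C1Cap.ordAt_unit hsp (CycK0.isUnit_of_notMem hZ hx hxV hf)

set_option maxHeartbeats 1000000 in
/-- The pull back to the complement of a hyperplane bundle is injective. -/
theorem ratEquivZero_of_compl [IsProper p] [Flat p] (hX : Cyc.IsSetup X δ) (hP : Cyc.IsSetup P δP)
    (hδ : Cyc.DeltaCompat p δP δ) {n : ℕ} (hF : HasPnFibres p O n) (hO : PicF.IsInvertible O)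
    (s : Γ(O, (⊤ : P.Opens))) (U : P.Opens)
    (hU : ∀ x, x ∈ U ↔ (Submodule.Quotient.mk (mgerm O (show x ∈ (⊤ : P.Opens) from trivial) s) :
      Cyc.secFibre O x) ≠ 0)
    (hs : ∀ y, ∃ x ∈ U, p x = y) {k : ℤ} (α : AlgebraicCycle X ℤ) (hα : α ∈ Cyc.Zk X δ k)
    (γU : AlgebraicCycle (↑U : Scheme.{u}) ℤ) (hγU : ∀ u : ↥U, γU u = Cyc.pullFun p δP δ n ⇑α (U.ι u))
    (h0 : Cyc.RatEquivZero (fun u : ↥U => δP (U.ι u)) (k + n) γU) : Cyc.RatEquivZero δ k α := by
  classical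
  haveI := hX.1
  haveI := hP.1
  have hr := hasRelDim_of_hasPnFibres hF
  have hαc : Cy δ k ⇑α := ⟨α, rfl, hα⟩
  obtain ⟨G, hG, hGk⟩ := hαc.pull hP hδ hr
  obtain ⟨γ, hγk, hγU0, hγ⟩ := S1863.result P δP hP U (k + n) G 0 hGk (fun _ _ => rfl) γU 0
    (fun u => by rw [hγU, hG]) (fun _ => rfl) (by unfold Cyc.RatEquiv; rwa [sub_zero])
  rw [zero_add] at hγ
  have hGγ : RZ δP (k + n) fun x => G x - γ x := RZ.of_ratEquiv hGk hγk hγ
  obtain ⟨t₀, ht₀⟩ := exists_sections hO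
  let tt : ℕ → (ξ : P) → Cyc.secFibre O ξ := fun _ => t₀
  -- reduce to an expansion in positive powers
  suffices key : ∃ (αf : Fin (n + 1) → X → ℤ) (t : ℕ → (ξ : P) → Cyc.secFibre O ξ),
      (∀ l ξ, t l ξ ≠ 0) ∧ αf 0 = ⇑α ∧ (∀ i : Fin (n + 1), Cy δ (k + ((i : ℕ) : ℤ)) (αf i)) ∧
        RZ δP (k + n) fun x => ∑ i : Fin (n + 1), Cyc.c1PowFun δP O t (i : ℕ) (Cyc.pullFun p δP δ n (αf i)) x by
    obtain ⟨αf, t, ht, h1, h2, h3⟩ := key
    have h4 := independent hX hP hδ hO hF αf h2 (fun _ => t) (fun _ => ht) h3 0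
    rw [h1, Fin.val_zero, Nat.cast_zero, add_zero] at h4
    exact h4.ratEquivZero
  cases n with
  | zero =>
    refine ⟨fun _ => ⇑α, tt, fun _ => ht₀, rfl, fun i => by
      obtain rfl : i = 0 := Fin.ext (by omega)
      simpa using hαc, ?_⟩
    refine Eq.mp (congrArg (RZ δP _) (funext fun x => ?_)) hGγ
    have hxU : x ∈ U := by
      obtain ⟨z, hz, hzy⟩ := hs (p x)
      obtain ⟨φ, -, -⟩ := hF (p x)
      obtain ⟨a, rfl⟩ : z ∈ Set.range (p.fiberι (p x)) := by rw [p.range_fiberι]; exact hzy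
      obtain ⟨b, hb⟩ : x ∈ Set.range (p.fiberι (p x)) := by rw [p.range_fiberι]; rfl
      haveI : IsIso (CohB1.ProjSpace.toSpec 0 (X.residueField (p x))) := ProjMor.isIso_toSpec_zero _
      have hab : φ.inv a = φ.inv b :=
        (CohB1.ProjSpace.toSpec 0 (X.residueField (p x))).homeomorph.injective (Subsingleton.elim _ _)
      rw [← hb, ← φ.inv.homeomorph.injective hab]
      exact hz
    rw [Fin.sum_univ_one, hγU0 x hxU, sub_zero, hG]
    rfl
  | succ m =>
    let Z := PicF2.zeroScheme O (TMul.homOf s)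
    let ι := Z.subschemeι
    have hZ : Cyc.IsZeroSchemeOf ι O s := isZeroSchemeOf_zeroScheme hO s
    have hUι : ∀ x, x ∈ U ↔ x ∉ Set.range ι := fun x => by rw [hU, hZ.1]; rfl
    have hs' : ∀ y, ∃ x, p x = y ∧ x ∉ Set.range ι := fun y => by
      obtain ⟨x, h1, h2⟩ := hs y
      exact ⟨x, h2, (hUι x).1 h1⟩
    have hFH := hasPnFibres_zero hF hO ι hZ hs'
    let δH : Z.subscheme → ℤ := fun d => δP (ι d)
    have hH : Cyc.IsSetup Z.subscheme δH := CycK0.isSetup_closed ι hP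
    haveI := hH.1
    have hδH : Cyc.DeltaCompat (ι ≫ p) δH δ := CycK0.deltaCompat_closed_comp ι p hδ
    have hδι : Cyc.DeltaCompat ι δH δP := CycPush.deltaCompat_preimmersion ι δP
    have hOH := PicLoc.isInvertible_pullback ι hO
    obtain ⟨β, hβ⟩ := CycK0.exists_cycle_affine (fun d => γ (ι d)) fun {V} hV =>
      ((CycAff.finite_on γ (hV.isCompact.image ι.continuous)).preimage ι.isClosedEmbedding.injective.injOn).subset
        fun d hd => ⟨⟨d, hd.1, rfl⟩, hd.2⟩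
    have hk1 : k + 1 + (m : ℤ) = k + ((m + 1 : ℕ) : ℤ) := by push_cast; ring
    have hβk : β ∈ Cyc.Zk _ δH (k + 1 + m) := fun d hd => by
      rw [hβ]
      exact hγk _ fun e => hd (by rw [hk1, ← e])
    let tH : Fin (m + 1) → ℕ → (ξ : Z.subscheme) → Cyc.secFibre ((Scheme.Modules.pullback ι).obj O) ξ :=
      fun _ _ ξ => CycSec.secPull ι ξ (t₀ (ι ξ))
    have htH : ∀ i l ξ, tH i l ξ ≠ 0 := fun _ _ ξ => CycSec.secPull_ne_zero ι hO ξ (ht₀ _)
    obtain ⟨a, ha, hsp⟩ := span hX hH hδH hFH hOH tH htH β hβk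
    have hpull : ∀ i : Fin (m + 1), Cy δH (k + 1 + ((i : ℕ) : ℤ) + m) (Cyc.pullFun (ι ≫ p) δH δ m (a i)) :=
      fun i => (ha i).pull hH hδH (hasRelDim_of_hasPnFibres hFH)
    have hT : ∀ i : Fin (m + 1), Cy δH (k + 1 + m)
        (Cyc.c1PowFun δH _ (tH i) (i : ℕ) (Cyc.pullFun (ι ≫ p) δH δ m (a i))) := fun i => by
      have := (hpull i).pow hH hOH (htH i) (i : ℕ)
      rwa [show k + 1 + ((i : ℕ) : ℤ) + m - ((i : ℕ) : ℤ) = k + 1 + m by ring] at this
    have h1 := hsp.push ι hP hH hδι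
    rw [pushF_sub' ι δP ⟨β, rfl, hβk⟩ (Cy.sum Finset.univ fun i _ => hT i)] at h1
    let gs := Cyc.gysinChoice O s t₀
    let t : ℕ → (ξ : P) → Cyc.secFibre O ξ := fun l => Nat.casesOn l gs fun _ => t₀
    have ht : ∀ l ξ, t l ξ ≠ 0 := fun l ξ => by
      cases l with
      | zero => exact CycK0.gysinChoice_ne_zero ht₀ ξ
      | succ l => exact ht₀ ξ
    have hterm : ∀ i : Fin (m + 1),
        pushF ι δH δP (Cyc.c1PowFun δH _ (tH i) (i : ℕ) (Cyc.pullFun (ι ≫ p) δH δ m (a i))) =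
          Cyc.c1PowFun δP O t ((i : ℕ) + 1) (Cyc.pullFun p δP δ (m + 1 : ℕ) (a i)) := fun i => by
      refine (pushF_c1Pow hP hH ι hδι hO tt (fun _ => ht₀) (hpull i) (i : ℕ)).trans ?_
      rw [c1PowFun_succ', pushF_pull_zero hX hP hδ hF hO ι hZ hs' t₀ (l := k + ((i : ℕ) : ℤ))
        (by rw [show k + ((i : ℕ) : ℤ) + 1 = k + 1 + ((i : ℕ) : ℤ) by ring]; exact ha i)]
      rfl
    have hβp : pushF ι δH δP ⇑β = ⇑γ := funext fun x => by
      by_cases hx : x ∈ Set.range ι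
      · obtain ⟨d, rfl⟩ := hx
        unfold pushF
        rw [show (ι ⁻¹' {ι d} : Set Z.subscheme) = {d} from Set.ext fun z =>
          ⟨fun h => ι.isClosedEmbedding.injective h, fun h => by rw [Set.mem_singleton_iff.1 h]; rfl⟩,
          finsum_mem_singleton, show (AlgebraicCycle.mapCoeff ι δH δP d : ℤ) = 1 by
            exact_mod_cast S1918.mapCoeff_closed ι δP d, mul_one, hβ]
      · exact (finsum_mem_eq_zero_of_forall_eq_zero fun z hz => absurd ⟨z, hz⟩ hx).trans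
          (hγU0 x ((hUι x).2 hx)).symm
    rw [hk1] at h1
    let αf : Fin (m + 2) → X → ℤ := Fin.cases ⇑α fun i y => -1 * a i y
    refine ⟨αf, t, ht, rfl, fun i => ?_, ?_⟩
    · refine Fin.cases ?_ (fun i => ?_) i
      · simpa [αf] using hαc
      · have := (ha i).smul (-1)
        rw [show k + 1 + ((i : ℕ) : ℤ) = k + (((i.succ : Fin (m + 2)) : ℕ) : ℤ) by simp; ring] at this
        exact this
    · have hsum : ∀ x, pushF ι δH δP (fun d => ∑ i : Fin (m + 1),
          Cyc.c1PowFun δH _ (tH i) (i : ℕ) (Cyc.pullFun (ι ≫ p) δH δ m (a i)) d) x =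
            ∑ i : Fin (m + 1), Cyc.c1PowFun δP O t ((i : ℕ) + 1) (Cyc.pullFun p δP δ (m + 1 : ℕ) (a i)) x :=
        fun x => (pushF_sum ι Finset.univ (fun i _ => hT i) x).trans
          (Finset.sum_congr rfl fun i _ => congrFun (hterm i) x)
      refine Eq.mp (congrArg (RZ δP _) (funext fun x => ?_)) (hGγ.add h1)
      show G x - γ x + (pushF ι δH δP ⇑β x - _) = _
      rw [hsum, hβp]
      conv_rhs => rw [Fin.sum_univ_succ]
      have hneg : ∀ i : Fin (m + 1),
          Cyc.c1PowFun δP O t (((i.succ : Fin (m + 2)) : ℕ)) (Cyc.pullFun p δP δ (m + 1 : ℕ) (αf i.succ)) x =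
            -Cyc.c1PowFun δP O t ((i : ℕ) + 1) (Cyc.pullFun p δP δ (m + 1 : ℕ) (a i)) x := fun i => by
        have e : Cyc.pullFun p δP δ (m + 1 : ℕ) (αf i.succ) =
            fun z => (-1 : ℤ) * Cyc.pullFun p δP δ (m + 1 : ℕ) (a i) z := funext fun z => by
          show Cyc.pullFun p δP δ (m + 1 : ℕ) (fun y => -1 * a i y) z = _
          unfold Cyc.pullFun
          split <;> ring
        rw [e, c1PowFun_smul, Fin.val_succ]
        ring
      rw [Finset.sum_congr rfl fun i _ => hneg i, Finset.sum_neg_distrib]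
      show G x - γ x + (γ x - _) = Cyc.pullFun p δP δ (m + 1 : ℕ) (αf 0) x + _
      rw [hG]
      simp only [αf, Fin.cases_zero]
      ring

end Groth.Agent.CycPB
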