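import Groth.Agent.CycK0.GysGys
import Groth.Agent.CycDim.AffineCH
import Groth.Agent.CMFlat.RegImm
import Groth.Agent.ZeroSch.Basic
import Groth.Prelude.Def_ChowOps2

/-!
Zero schemes, and iterated first Chern classes seen on a preimmersed scheme.
-/

set_option autoImplicit false
set_option linter.unusedSectionVars false
set_option linter.style.haveILetI false
set_option backward.isDefEq.respectTransparency false
set_option backward.isDefEq.respectTransparency.types false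

universe u

open CategoryTheory CategoryTheory.Limits AlgebraicGeometry TopologicalSpace Opposite
open Groth.Agent.WeakAssLib (mgerm mgerm_res)
open Groth.Agent.QC (res resO)
open Groth.Agent.C1Cap (rdu)

noncomputable section

namespace Groth.Agent.CycPB

variable {X Z : Scheme.{u}}

/-- The zero scheme of a section. -/
theorem isZeroSchemeOf_zeroScheme {L : X.Modules} (hL : PicF.IsInvertible L) (s : Γ(L, (⊤ : X.Opens))) :
    Cyc.IsZeroSchemeOf (PicF2.zeroScheme L (TMul.homOf s)).subschemeι L s := by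
  let I := PicF2.zeroScheme L (TMul.homOf s)
  have loc : ∀ x : X, ∃ (U : X.affineOpens) (hx : x ∈ U.1) (e : Γ(L, U.1)) (_ : TMul.IsGen e) (c : Γ(X, U.1)),
      I.ideal U = Ideal.span {c} ∧ mgerm L (show x ∈ (⊤ : X.Opens) from trivial) s =
        (X.presheaf.germ U.1 x hx).hom c • mgerm L hx e := fun x => by
    obtain ⟨A, e₀, hxA, he₀⟩ := TMul.exists_isGen hL x
    obtain ⟨U, hU, hxU, hUA⟩ := exists_isAffineOpen_mem_and_subset hxA
    let e := res L (show U ≤ A from hUA) e₀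
    have he : TMul.IsGen e := he₀.res hUA
    obtain ⟨c, hc⟩ := (show Function.Bijective fun r : Γ(X, U) => r • e by
      simpa only [QC.res_self] using he U le_rfl).2 (res L (le_top : U ≤ ⊤) s)
    refine ⟨⟨U, hU⟩, hxU, e, he, c, ?_, ?_⟩
    · exact ZeroSch.ideal_zeroScheme_eq_span _ hL ⟨U, hU⟩ he ((TMul.val_homOf s U).trans hc.symm)
    · rw [← mgerm_res L (le_top : U ≤ ⊤) hxU s]
      show mgerm L hxU (res L le_top s) = _
      rw [← hc]
      exact WeakAssLib.mgerm_smul L hxU c e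
  refine ⟨?_, fun d => ?_⟩
  · ext x
    obtain ⟨U, hx, e, he, c, hI, hc⟩ := loc x
    show x ∈ Set.range I.subschemeι ↔ Submodule.Quotient.mk (mgerm L (show x ∈ (⊤ : X.Opens) from trivial) s) =
      (0 : Cyc.secFibre L x)
    rw [Scheme.IdealSheafData.range_subschemeι, SetLike.mem_coe,
      I.mem_support_iff_of_mem (U := U) hx, hI, Scheme.zeroLocus_span, Scheme.zeroLocus_singleton, hc]
    show x ∉ X.basicOpen c ↔ _
    rw [Scheme.mem_basicOpen _ _ _ hx]
    refine ⟨fun hu => (Submodule.Quotient.mk_eq_zero _).2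
      (Submodule.smul_mem_smul ((IsLocalRing.mem_maximalIdeal _).2 hu) Submodule.mem_top), fun h0 hu => ?_⟩
    refine C1Cap.mk_gen_ne_zero he hx hu ?_
    exact h0
  · obtain ⟨U, hx, e, he, c, hI, hc⟩ := loc (I.subschemeι d)
    refine ⟨mgerm L hx e, (X.presheaf.germ U.1 _ hx).hom c, ?_, hc, ?_⟩
    · refine Submodule.eq_top_iff'.2 fun z => Submodule.mem_span_singleton.2 ?_
      exact (RefDiv.bijective_germ_of_isGen he hx).2 z
    · rw [CMFlat.ker_stalkMap_eq I.subschemeι d U hx]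
      have hk : RingHom.ker (I.subschemeι.app U.1).hom = I.ideal U := by
        rw [← Scheme.Hom.ker_apply, Scheme.IdealSheafData.ker_subschemeι]
      rw [hk, hI, Ideal.map_span, Set.image_singleton]

/-- Divisors of restricted sections on a preimmersed scheme. -/
theorem secDivFun_pre (j : Z ⟶ X) [IsPreimmersion j] {δ : X → ℤ} {L : X.Modules} (hL : PicF.IsInvertible L) (ξ : Z)
    (s : Cyc.secFibre L (j ξ)) (z : Z) :
    Cyc.secDivFun (fun z => δ (j z)) ((Scheme.Modules.pullback j).obj L) ξ (CycSec.secPull j ξ s) z =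
      Cyc.secDivFun δ L (j ξ) s (j z) := by
  by_cases h : ξ ⤳ z
  · obtain ⟨A, e, hA, he⟩ := TMul.exists_isGen hL (j z)
    have hξA : j ξ ∈ A := (h.map j.continuous).mem_open A.2 hA
    obtain ⟨φ, hφ⟩ := C1Cap.exists_coeff he hξA s
    rw [CycSec.secDivFun_eq he hA (fun _ => ⟨φ, hφ, rfl⟩),
      CycSec.secDivFun_eq (CycSec.isGen_pe j he) (show z ∈ j ⁻¹ᵁ A from hA)
        (fun _ => ⟨_, CycSec.secPull_eq j e ξ hξA hφ, rfl⟩),
      CycLine.divFun_pre j (fun z => δ (j z)) δ 0 (fun _ => (add_zero _).symm) ξ _ z, CycSec.rdu_stalkMap]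
  · rw [Cyc.secDivFun, Cyc.secDivFun, dif_neg fun h' => h h'.1,
      dif_neg fun h' => h (j.isEmbedding.isInducing.specializes_iff.1 h'.1)]

/-- Caps seen on a preimmersed scheme. -/
theorem c1CapFun_pre (j : Z ⟶ X) [IsPreimmersion j] {δ : X → ℤ} {L : X.Modules} (hL : PicF.IsInvertible L)
    (a : X → ℤ) (v : (ξ : X) → Cyc.secFibre L ξ) (z : Z) (hz : ∀ ξ, ξ ⤳ j z → a ξ ≠ 0 → ξ ∈ Set.range j) :
    Cyc.c1CapFun δ L a v (j z) =
      Cyc.c1CapFun (fun z => δ (j z)) ((Scheme.Modules.pullback j).obj L) (fun z => a (j z))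
        (fun ξ => CycSec.secPull j ξ (v (j ξ))) z := by
  simp only [Cyc.c1CapFun, secDivFun_pre j hL]
  refine Eq.trans ?_ (finsum_mem_range (g := j) j.isEmbedding.injective
    (f := fun x => a x * Cyc.secDivFun δ L x (v x) (j z)))
  rw [← finsum_mem_univ fun x => a x * Cyc.secDivFun δ L x (v x) (j z),
    ← finsum_mem_inter_support _ Set.univ, ← finsum_mem_inter_support _ (Set.range j)]
  refine finsum_mem_congr (Set.ext fun x => ?_) fun x _ => rfl
  exact ⟨fun h => ⟨hz x (CycSec.secDivFun_support (right_ne_zero_of_mul h.2)).1 (left_ne_zero_of_mul h.2), h.2⟩,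
    fun h => ⟨trivial, h.2⟩⟩

/-- The first cap may be split off. -/
theorem c1PowFun_succ' (δ : X → ℤ) (L : X.Modules) (t : ℕ → (ξ : X) → Cyc.secFibre L ξ) : ∀ (m : ℕ) (a : X → ℤ),
    Cyc.c1PowFun δ L t (m + 1) a = Cyc.c1PowFun δ L (fun i => t (i + 1)) m (Cyc.c1CapFun δ L a (t 0))
  | 0, _ => rfl
  | m + 1, a => by
    show Cyc.c1CapFun δ L (Cyc.c1PowFun δ L t (m + 1) a) (t (m + 1)) = _
    rw [c1PowFun_succ' δ L t m a]
    rfl

/-- Iterated caps live where they should. -/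
theorem c1PowFun_level {δ : X → ℤ} {L : X.Modules} (t : ℕ → (ξ : X) → Cyc.secFibre L ξ) {a : X → ℤ} {l : ℤ}
    (ha : ∀ x, a x ≠ 0 → δ x = l) : ∀ (m : ℕ) (x : X), Cyc.c1PowFun δ L t m a x ≠ 0 →
      δ x = l - m ∧ ∃ ξ, ξ ⤳ x ∧ a ξ ≠ 0
  | 0, x, hx => ⟨by rw [Nat.cast_zero, sub_zero]; exact ha x hx, x, specializes_rfl, hx⟩
  | m + 1, x, hx => by
    obtain ⟨η, hη⟩ : ∃ η, Cyc.c1PowFun δ L t m a η * Cyc.secDivFun δ L η (t m η) x ≠ 0 := by
      by_contra! h
      exact hx (finsum_eq_zero_of_forall_eq_zero h)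
    obtain ⟨h1, ξ, h2, h3⟩ := c1PowFun_level t ha m η (left_ne_zero_of_mul hη)
    obtain ⟨h4, h5⟩ := CycSec.secDivFun_support (right_ne_zero_of_mul hη)
    exact ⟨by push_cast; omega, ξ, h2.trans h4, h3⟩

/-- Iterated caps seen on a preimmersed scheme. -/
theorem c1PowFun_pre (j : Z ⟶ X) [IsPreimmersion j] {δ : X → ℤ} {L : X.Modules} (hL : PicF.IsInvertible L)
    (t : ℕ → (ξ : X) → Cyc.secFibre L ξ) {a : X → ℤ} {l : ℤ} (ha : ∀ x, a x ≠ 0 → δ x = l)
    (hr : ∀ ξ x, ξ ⤳ x → x ∈ Set.range j → ∀ η, η ⤳ ξ → a η ≠ 0 → ξ ∈ Set.range j) :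
    ∀ (m : ℕ) (z : Z), Cyc.c1PowFun δ L t m a (j z) =
      Cyc.c1PowFun (fun z => δ (j z)) ((Scheme.Modules.pullback j).obj L)
        (fun i ξ => CycSec.secPull j ξ (t i (j ξ))) m (fun z => a (j z)) z
  | 0, z => rfl
  | m + 1, z => by
    show Cyc.c1CapFun δ L (Cyc.c1PowFun δ L t m a) (t m) (j z) = _
    rw [c1CapFun_pre j hL _ _ z fun ξ hξ hne => by
      obtain ⟨-, η, hη, haη⟩ := c1PowFun_level t ha m ξ hne
      exact hr ξ (j z) hξ ⟨z, rfl⟩ η hη haη]
    exact congrFun (congrArg (fun b => Cyc.c1CapFun (fun z => δ (j z)) ((Scheme.Modules.pullback j).obj L) b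
      (fun ξ => CycSec.secPull j ξ (t m (j ξ)))) (funext (c1PowFun_pre j hL t ha hr m))) z

end Groth.Agent.CycPB
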