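import Groth.Agent.SymAlg.CanonImm
import Groth.Agent.SymAlg.Exists
import Groth.Agent.CycPB.Pre

/-!
The non-vanishing locus of a split section in a projective bundle is the vector bundle of the complement.
-/

set_option autoImplicit false
set_option linter.unusedSectionVars false
set_option linter.style.haveILetI false
set_option backward.isDefEq.respectTransparency false
set_option backward.isDefEq.respectTransparency.types false

universe u

open CategoryTheory CategoryTheory.Limits AlgebraicGeometry TopologicalSpace Opposite DirectSum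
open Scheme.AffineZariskiSite
open Groth.Agent.QC (res resO)
open Groth.Agent.WeakAssLib (mgerm mgerm_res mgerm_smul)

noncomputable section

namespace Groth.Agent.CycPB

/-- A morphism to a relative spectrum which is bijective on affine opens is an isomorphism. -/
theorem isIso_of_affine {U S : Scheme.{u}} (q : U ⟶ S) (A : RelSpec.QCAlg S)
    (hq : ∀ V : S.Opens, IsAffineOpen V → IsAffineOpen (q ⁻¹ᵁ V))
    (ω : ∀ V : S.Opens, IsAffineOpen V → (A.presheaf.obj (op V) ⟶ Γ(U, q ⁻¹ᵁ V)))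
    (hnat : ∀ (V W : S.AffineZariskiSite) (i : W ⟶ V),
      A.presheaf.map (homOfLE (toOpens_mono (leOfHom i))).op ≫ ω W.1 W.2 =
        ω V.1 V.2 ≫ U.presheaf.map (homOfLE (q.preimage_mono (toOpens_mono (leOfHom i)))).op)
    (hstr : ∀ (V : S.Opens) (hV : IsAffineOpen V), A.str.app (op V) ≫ ω V hV = q.app V)
    (hbij : ∀ (V : S.Opens) (hV : IsAffineOpen V), Function.Bijective (ω V hV)) :
    ∃ g : U ⟶ A.spec, IsIso g ∧ g ≫ A.π = q := by
  let B : TopCat.Sheaf CommRingCat.{u} S.carrier :=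
    ⟨AffAlg.alg q, TopCat.Sheaf.pushforward_sheaf_of_sheaf q.base U.sheaf.property⟩
  let ω₀ : (toOpensFunctor S).op ⋙ A.presheaf ⟶ (toOpensFunctor S).op ⋙ B.obj :=
    { app := fun V => ω V.unop.1 V.unop.2
      naturality := fun V W i => hnat V.unop W.unop i.unop }
  let Ω : A.presheaf ⟶ AffAlg.alg q :=
    Functor.IsCoverDense.restrictHomEquivHom (G := toOpensFunctor S)
      (K := Opens.grothendieckTopology S) (ℱ := A.presheaf) (ℱ' := B) ω₀
  have hΩ : ∀ (V : S.Opens) (hV : IsAffineOpen V), Ω.app (op V) = ω V hV := fun V hV =>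
    NatTrans.congr_app ((Functor.IsCoverDense.restrictHomEquivHom (G := toOpensFunctor S)
      (K := Opens.grothendieckTopology S) (ℱ := A.presheaf) (ℱ' := B)).symm_apply_apply ω₀) (op ⟨V, hV⟩)
  have hc : A.str ≫ Ω = q.c := by
    refine (Functor.IsCoverDense.restrictHomEquivHom (G := toOpensFunctor S)
      (K := Opens.grothendieckTopology S) (ℱ := S.presheaf) (ℱ' := B)).symm.injective ?_
    ext V : 2
    show A.str.app (op V.unop.1) ≫ Ω.app (op V.unop.1) = _
    rw [hΩ _ V.unop.2, hstr]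
    rfl
  obtain ⟨⟨g, hg⟩, hgΩ⟩ := (RelSpecUP.toAlg_bijective A q).2 ⟨Ω, hc⟩
  have hgΩ' : inv A.gammaMap ≫ AffAlg.algHom A.π q g hg = Ω := congrArg Subtype.val hgΩ
  refine ⟨g, RelSpecUP.isIso_of_charts g fun y => ?_, hg⟩
  obtain ⟨V, hV, hyV, -⟩ := exists_isAffineOpen_mem_and_subset (U := (⊤ : S.Opens)) (x := A.π y) trivial
  have hD : IsAffineOpen (q ⁻¹ᵁ V) := hq V hV
  have hA : IsAffineOpen (A.π ⁻¹ᵁ V) := hV.preimage A.π
  have hle : q ⁻¹ᵁ V ≤ g ⁻¹ᵁ (A.π ⁻¹ᵁ V) := by rw [← Scheme.Hom.comp_preimage, hg]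
  have happ : g.appLE (A.π ⁻¹ᵁ V) (q ⁻¹ᵁ V) hle = A.gammaMap.app (op V) ≫ ω V hV := by
    rw [← hΩ V hV, ← hgΩ', NatTrans.comp_app, RelSpecUP.algHom_app, ← Category.assoc, ← NatTrans.comp_app,
      IsIso.hom_inv_id]
    rfl
  haveI : IsIso (ω V hV) := (ConcreteCategory.isIso_iff_bijective _).2 (hbij V hV)
  haveI : IsIso A.gammaMap := inferInstance
  haveI : IsIso (A.gammaMap.app (op V)) := CategoryTheory.NatIso.isIso_app_of_isIso A.gammaMap (op V)
  haveI : IsIso (A.gammaMap.app (op V) ≫ ω V hV) := IsIso.comp_isIso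
  haveI : IsIso (g.appLE (A.π ⁻¹ᵁ V) (q ⁻¹ᵁ V) hle) := by rw [happ]; infer_instance
  have hfac := hA.SpecMap_appLE_fromSpec g hD hle
  haveI : IsOpenImmersion (hD.fromSpec ≫ g) := by rw [← hfac]; infer_instance
  have hrange : (hD.fromSpec ≫ g).opensRange = A.π ⁻¹ᵁ V := by
    refine Opens.ext ?_
    show Set.range (hD.fromSpec ≫ g) = _
    rw [← hfac, Scheme.Hom.comp_base, TopCat.coe_comp, Set.range_comp,
      (show Function.Surjective (Spec.map (g.appLE (A.π ⁻¹ᵁ V) (q ⁻¹ᵁ V) hle)) from (Spec.map (g.appLE (A.π ⁻¹ᵁ V) (q ⁻¹ᵁ V) hle)).homeomorph.surjective).range_eq, Set.image_univ,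
      hA.range_fromSpec]
  refine ⟨_, hD.fromSpec, inferInstance, inferInstance, ?_, ?_⟩
  · rw [hrange]; exact hyV
  · rw [hrange, ← Scheme.Hom.comp_preimage, hg, hD.opensRange_fromSpec]

open SymAlg

variable {X P : Scheme.{u}} {F : X.Modules} {𝒮 : RelProj.QCGrAlg X} {j : F ⟶ 𝒮.toModule}
  (hj : RelProj.IsGrSymAlg F 𝒮 j) {p : P ⟶ X}
  {ch : ∀ (U : X.Opens) (hU : IsAffineOpen U), ((p ⁻¹ᵁ U : P.Opens) : Scheme.{u}) ≅ Proj (𝒮.deg U hU)}
  (hP : RelProj.IsRelProj 𝒮 p ch) {O1 : P.Modules}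
  {lam : ∀ (U : X.Opens) (hU : IsAffineOpen U), O1 ⟶ (RelTilde.Datum.self 𝒮).E p ch 1 U hU}
  (hO1 : (RelTilde.Datum.self 𝒮).IsTilde p ch 1 O1 lam)
  {φ : F ⟶ (Scheme.Modules.pushforward p).obj O1} (hφ : IsFund j lam φ)

/-- A ring map sending the denominator to one factors through dehomogenisation. -/
theorem exists_descend (V : X.Opens) (hV : IsAffineOpen V) (e : Γ(F, V)) {T : Type u} [CommRing T]
    (ψ : 𝒮.presheaf.obj (op V) →+* T) (h1 : ψ (jE j V e) = 1) :
    ∃ Θ : Γ(P, DjE p ch j V hV e) →+* T, ∀ a, Θ (bundleFn (p := p) (ch := ch) hj V hV e a) = ψ a := by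
  classical
  let 𝒜 := 𝒮.deg V hV
  let f : 𝒮.presheaf.obj (op V) := jE j V e
  have hf : f ∈ 𝒜 1 := hj.2 V hV e
  let T₁ := RingEquiv.ofBijective (Proj.awayToSection 𝒜 f).hom (ProjLib.awayToSection_bijective 𝒜 hf one_pos)
  let L : Localization.Away f →+* T := IsLocalization.Away.lift (S := Localization.Away f) f (g := ψ) (by
    show IsUnit (ψ f); rw [show ψ f = 1 from h1]; exact isUnit_one)
  let V₀ : HomogeneousLocalization.Away 𝒜 f →+* Localization.Away f :=
    algebraMap (HomogeneousLocalization.Away 𝒜 f) (Localization.Away f)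
  let I := ((RelProj.emb p ch V hV).appIso (Proj.basicOpen 𝒜 f)).commRingCatIsoToRingEquiv
  let Θ : Γ(P, DjE p ch j V hV e) →+* T := L.comp (V₀.comp (T₁.symm.toRingHom.comp I.toRingHom))
  refine ⟨Θ, fun a => ?_⟩
  suffices H : ∀ (k : ℕ) (b : 𝒜 k), Θ (bundleFn (p := p) (ch := ch) hj V hV e b) = ψ b by
    rw [← DirectSum.sum_support_decompose 𝒜 a, map_sum, map_sum, map_sum]
    exact Finset.sum_congr rfl fun k _ => H k _
  rintro k ⟨b, hb⟩
  show L (V₀ (T₁.symm (I (bundleFn (p := p) (ch := ch) hj V hV e b)))) = ψ b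
  rw [show I (bundleFn (p := p) (ch := ch) hj V hV e b) = RelTilde.dehomRing 𝒜 (f := f) hf b from
      ((RelProj.emb p ch V hV).appIso (Proj.basicOpen 𝒜 f)).inv_hom_id_apply _,
    RelTilde.dehomRing_of_mem 𝒜 hf hb,
    show T₁.symm (RelTilde.away 𝒜 hf k (RelTilde.mem_smul_one 𝒜 hb)) =
      HomogeneousLocalization.Away.mk 𝒜 hf k b (RelTilde.mem_smul_one 𝒜 hb) from T₁.symm_apply_apply _]
  show L (HomogeneousLocalization.val (HomogeneousLocalization.Away.mk 𝒜 hf k b (RelTilde.mem_smul_one 𝒜 hb))) = ψ b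
  rw [HomogeneousLocalization.Away.val_mk, Localization.mk_eq_mk']
  refine (IsLocalization.lift_mk'_spec _ _ _ _).2 ?_
  show ψ b = ψ (f ^ k) * ψ b
  rw [map_pow, show ψ f = 1 from h1, one_pow, one_mul]

include hj in
/-- Dehomogenisation is onto. -/
theorem surjective_bundleFn (V : X.Opens) (hV : IsAffineOpen V) (e : Γ(F, V)) :
    Function.Surjective (bundleFn (p := p) (ch := ch) hj V hV e) := fun c => by
  let I := ((RelProj.emb p ch V hV).appIso (Proj.basicOpen (𝒮.deg V hV) (jE j V e))).commRingCatIsoToRingEquiv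
  obtain ⟨k, a, ha, -, hc⟩ := RelTilde.exists_away (𝒮.deg V hV) (f := jE j V e) (hj.2 V hV e) one_pos (I c)
  have ha' : a ∈ 𝒮.deg V hV k := by simpa using ha
  refine ⟨a, I.injective ?_⟩
  rw [show I (bundleFn (p := p) (ch := ch) hj V hV e a) =
      RelTilde.dehomRing (𝒮.deg V hV) (f := jE j V e) (hj.2 V hV e) a from
      ((RelProj.emb p ch V hV).appIso _).inv_hom_id_apply _, RelTilde.dehomRing_of_mem _ _ ha', hc]

include hj hO1 hφ in
/-- The non-vanishing locus over an affine open. -/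
theorem inf_preimage_eq (hF : Coh.IsQCoh F) (e : Γ(F, (⊤ : X.Opens))) (U : P.Opens)
    (hU : ∀ x, x ∈ U ↔ (Submodule.Quotient.mk (mgerm O1 (show x ∈ p ⁻¹ᵁ ⊤ from trivial)
      (φ.app ⊤ e : Γ(O1, p ⁻¹ᵁ ⊤))) : Cyc.secFibre O1 x) ≠ 0)
    (V : X.Opens) (hV : IsAffineOpen V) :
    U ⊓ p ⁻¹ᵁ V = DjE p ch j V hV (res F le_top e) := by
  haveI : F.IsQuasicoherent := hF
  let eV := res F (le_top : V ≤ ⊤) e
  have hs : res O1 (show p ⁻¹ᵁ V ≤ p ⁻¹ᵁ ⊤ from fun _ _ => trivial) (φ.app ⊤ e : Γ(O1, p ⁻¹ᵁ ⊤)) =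
      (φ.app V eV : Γ(O1, p ⁻¹ᵁ V)) := (QC.app_res φ le_top e)
  have hgerm : ∀ (x : P) (hx : x ∈ p ⁻¹ᵁ V), mgerm O1 (show x ∈ p ⁻¹ᵁ ⊤ from trivial)
      (φ.app ⊤ e : Γ(O1, p ⁻¹ᵁ ⊤)) = mgerm O1 hx (φ.app V eV : Γ(O1, p ⁻¹ᵁ V)) := fun x hx => by
    rw [← hs, mgerm_res]
  have hgen : ∀ e' : Γ(F, V), TMul.IsGen (res O1 (DjE_le (j := j) (ch := ch) V hV e')
      (φ.app V e' : Γ(O1, p ⁻¹ᵁ V))) := fun e' =>
    isGen_fund hj hO1 hφ V hV e' (DjE_le V hV e') ((RelProj.emb p ch V hV).preimage_image_eq _).le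
  refine Opens.ext (Set.ext fun x => ⟨fun ⟨hxU, hxV⟩ => ?_, fun hx => ⟨?_, DjE_le V hV eV hx⟩⟩)
  · obtain ⟨y, hy⟩ := RelTilde.exists_point (q := p) (ch := ch) V hV (x := x) hxV
    obtain ⟨e', he'⟩ := exists_jE_not_mem hj V hV y
    have hx' : x ∈ DjE p ch j V hV e' := ⟨y, (ProjectiveSpectrum.mem_basicOpen _ _ _).mpr he', hy⟩
    have h1 := res_phi_eq hO1 hj hφ V hV e' eV
    let c := bundleFn (p := p) (ch := ch) hj V hV e' (jE j V eV)
    have h2 : mgerm O1 hxV (φ.app V eV : Γ(O1, p ⁻¹ᵁ V)) = (P.presheaf.germ _ x hx').hom c •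
        mgerm O1 hx' (res O1 (DjE_le (j := j) (ch := ch) V hV e') (φ.app V e' : Γ(O1, p ⁻¹ᵁ V))) := by
      rw [← mgerm_res O1 (DjE_le (j := j) (ch := ch) V hV e') hx', h1, mgerm_smul]
    have hc : x ∈ P.basicOpen c := by
      rw [Scheme.mem_basicOpen _ _ _ hx']
      by_contra hu
      refine (hU x).1 hxU ((Submodule.Quotient.mk_eq_zero _).2 ?_)
      rw [hgerm x hxV, h2]
      exact Submodule.smul_mem_smul ((IsLocalRing.mem_maximalIdeal _).2 hu) Submodule.mem_top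
    rw [basicOpen_bundleFn hj V hV e' one_pos (hj.2 V hV eV), Proj.basicOpen_mul] at hc
    exact (RelProj.emb p ch V hV).image_mono inf_le_right hc
  · rw [SetLike.mem_coe, hU, hgerm x (DjE_le V hV eV hx), ← mgerm_res O1 (DjE_le (j := j) (ch := ch) V hV eV) hx]
    have h3 := C1Cap.mk_gen_ne_zero (hgen eV) hx (isUnit_one (M := P.presheaf.stalk x))
    rwa [one_smul] at h3

variable {E : X.Modules}

include hj hP in
/-- The symmetric algebra of the complement is the dehomogenised ring. -/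
theorem bijective_chi (hF : Coh.IsQCoh F) (e : Γ(F, (⊤ : X.Opens)))
    (r : F ⟶ E) (i : E ⟶ F) (c : F ⟶ Coh.structureModule X)
    (hir : ∀ (V : X.Opens) (m : Γ(E, V)), r.app V (i.app V m) = m)
    (hic : ∀ (V : X.Opens) (m : Γ(E, V)), (show Γ(X, V) from c.app V (i.app V m)) = 0)
    (hre : r.app ⊤ e = 0) (hce : (show Γ(X, ⊤) from c.app ⊤ e) = 1)
    (hsplit : ∀ (V : X.Opens) (m : Γ(F, V)),
      m = i.app V (r.app V m) + (show Γ(X, V) from c.app V m) • res F le_top e)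
    (V : X.Opens) (hV : IsAffineOpen V)
    (χ : symObj E V →+* Γ(P, DjE p ch j V hV (res F le_top e)))
    (hχa : ∀ a, χ (algebraMap _ _ a) = resO P (DjE_le (ch := ch) V hV (res F le_top e)) ((p.app V).hom a))
    (hχι : ∀ m, χ (SymmetricAlgebra.ι Γ(X, V) Γ(E, V) m) =
      bundleFn hj V hV (res F le_top e) (jE j V (i.app V m))) : Function.Bijective χ := by
  classical
  obtain ⟨γF, hγF, hjF⟩ := exists_affineIso hF hj.1
  let eV : Γ(F, V) := res F le_top e
  let bF : 𝒮.presheaf.obj (op V) →+* Γ(P, DjE p ch j V hV eV) := bundleFn hj V hV eV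
  have hbst : ∀ a : Γ(X, V), bF ((𝒮.str.app (op V)).hom a) =
      resO P (DjE_le (ch := ch) V hV eV) ((p.app V).hom a) := fun a => bundleFn_str hP hj V hV eV a
  have hje : ∀ (V : X.Opens) (a : Γ(X, V)) (m : Γ(F, V)),
      jE j V (a • m) = (𝒮.str.app (op V)).hom a * jE j V m := fun V a m => Scheme.Modules.Hom.app_smul j a m
  have hself : bF (jE j V eV) = 1 := bundleFn_self hj V hV eV
  let V' : X.AffineZariskiSite := ⟨V, hV⟩
  let μ : symObj F V →+* symObj E V := symLift (algebraMap _ _)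
    (AddMonoidHom.mk' (fun m => SymmetricAlgebra.ι Γ(X, V) Γ(E, V) (r.app V m) +
        algebraMap Γ(X, V) (symObj E V) (show Γ(X, V) from c.app V m)) fun a b => by
      rw [map_add, map_add, show (show Γ(X, V) from c.app V (a + b)) =
        (show Γ(X, V) from c.app V a) + (show Γ(X, V) from c.app V b) from map_add (c.app V).hom a b, map_add]
      ring) fun a m => by
    show SymmetricAlgebra.ι Γ(X, V) Γ(E, V) (r.app V (a • m)) + algebraMap Γ(X, V) (symObj E V)
      (show Γ(X, V) from c.app V (a • m)) = algebraMap Γ(X, V) (symObj E V) a * _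
    rw [Scheme.Modules.Hom.app_smul, map_smul, Algebra.smul_def, show (show Γ(X, V) from c.app V (a • m)) =
      a * (show Γ(X, V) from c.app V m) from Scheme.Modules.Hom.app_smul c a m, map_mul]
    rw [show (AddMonoidHom.mk' (fun m => SymmetricAlgebra.ι Γ(X, V) Γ(E, V) (r.app V m) +
        algebraMap Γ(X, V) (symObj E V) (show Γ(X, V) from c.app V m)) _) m =
      SymmetricAlgebra.ι Γ(X, V) Γ(E, V) (r.app V m) +
        algebraMap Γ(X, V) (symObj E V) (show Γ(X, V) from c.app V m) from rfl, mul_add]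
  let ψ : 𝒮.presheaf.obj (op V) →+* symObj E V := μ.comp (γF.hom.app (op V')).hom
  have hψs : ∀ a, ψ ((𝒮.str.app (op V)).hom a) = algebraMap _ _ a := fun a =>
    (congrArg μ (γ_str γF hγF V' a)).trans (symLift_algebraMap ..)
  have hψj : ∀ m, ψ (jE j V m) = SymmetricAlgebra.ι Γ(X, V) Γ(E, V) (r.app V m) +
      algebraMap Γ(X, V) (symObj E V) (show Γ(X, V) from c.app V m) := fun m => by
    refine (congrArg (fun z => μ ((γF.hom.app (op V')).hom z)) (hjF V' m)).trans ?_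
    refine (congrArg μ ((γF.app (op V')).inv_hom_id_apply _)).trans ?_
    exact symLift_ι ..
  have hce' : (show Γ(X, V) from c.app V (eV)) = 1 := by
    refine (QC.app_res c le_top e).symm.trans ?_
    show resO X (le_top : V ≤ ⊤) (show Γ(X, ⊤) from c.app ⊤ e) = 1
    rw [hce, map_one]
  have hψe : ψ (jE j V (eV)) = 1 := by
    rw [hψj, hce', map_one, show r.app V (eV) = 0 from
      (QC.app_res r le_top e).symm.trans (by rw [hre, map_zero]), map_zero, zero_add]
  obtain ⟨Θ, hΘ⟩ := exists_descend hj V hV (eV) (p := p) (ch := ch) ψ hψe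
  refine ⟨?_, fun y => ?_⟩
  · have hid : Θ.comp (χ) = RingHom.id _ := symHom_ext (fun a => by
      rw [RingHom.comp_apply, hχa, ← hbst, hΘ, hψs]
      rfl) fun m => by
      rw [RingHom.comp_apply, hχι, hΘ, hψj, hir, hic, map_zero, add_zero]
      rfl
    exact Function.LeftInverse.injective (g := Θ) fun z => congr($hid z)
  · suffices h : ∀ a, bF a ∈ (χ).range by
      obtain ⟨a, rfl⟩ := surjective_bundleFn hj V hV (eV) y
      exact h a
    intro a
    have ha : a ∈ Subring.closure (Set.range (SymAlgGen.strS 𝒮.toQCAlg V) ∪ Set.range (SymAlgGen.jsec j V)) :=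
      (SymAlgGen.gen_eq_top hj.1 hV).ge (Subring.mem_top a)
    refine Subring.closure_le (t := (χ).range.comap (bF)) |>.2 ?_ ha
    rintro _ (⟨a, rfl⟩ | ⟨m, rfl⟩)
    · exact ⟨algebraMap _ _ a, (hχa a).trans (hbst a).symm⟩
    · refine ⟨SymmetricAlgebra.ι Γ(X, V) Γ(E, V) (r.app V m) +
        algebraMap Γ(X, V) (symObj E V) (show Γ(X, V) from c.app V m), ?_⟩
      rw [map_add, hχι, hχa, ← hbst]
      show _ = bF (jE j V m)
      conv_rhs => rw [hsplit V m]
      rw [show jE j V (i.app V (r.app V m) + (show Γ(X, V) from c.app V m) • eV) =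
        jE j V (i.app V (r.app V m)) + jE j V ((show Γ(X, V) from c.app V m) • eV) from
        map_add (j.app V).hom _ _, map_add, hje, map_mul, hself, mul_one]

set_option maxHeartbeats 1600000 in
include hj hP hO1 hφ in
/-- The vector bundle as an open of the projective bundle. -/
theorem exists_iso_vectorBundle (hF : Coh.IsQCoh F) (hE : Coh.IsQCoh E) (e : Γ(F, (⊤ : X.Opens)))
    (r : F ⟶ E) (i : E ⟶ F) (c : F ⟶ Coh.structureModule X)
    (hir : ∀ (V : X.Opens) (m : Γ(E, V)), r.app V (i.app V m) = m)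
    (hic : ∀ (V : X.Opens) (m : Γ(E, V)), (show Γ(X, V) from c.app V (i.app V m)) = 0)
    (hre : r.app ⊤ e = 0) (hce : (show Γ(X, ⊤) from c.app ⊤ e) = 1)
    (hsplit : ∀ (V : X.Opens) (m : Γ(F, V)),
      m = i.app V (r.app V m) + (show Γ(X, V) from c.app V m) • res F le_top e)
    (U : P.Opens)
    (hU : ∀ x, x ∈ U ↔ (Submodule.Quotient.mk (mgerm O1 (show x ∈ p ⁻¹ᵁ ⊤ from trivial)
      (φ.app ⊤ e : Γ(O1, p ⁻¹ᵁ ⊤))) : Cyc.secFibre O1 x) ≠ 0)
    (A : RelSpec.QCAlg X) (jA : E ⟶ A.toModule) (hA : RelSpec.IsSymAlg E A jA) :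
    ∃ g : U.toScheme ⟶ A.spec, IsIso g ∧ g ≫ A.π = U.ι ≫ p := by
  classical
  haveI : F.IsQuasicoherent := hF
  obtain ⟨γ, hγ, -⟩ := exists_affineIso hE hA
  have hD : ∀ (V : X.Opens) (hV : IsAffineOpen V), U ⊓ p ⁻¹ᵁ V = DjE p ch j V hV (res F (le_top : V ≤ ⊤) e) :=
    inf_preimage_eq hj hO1 hφ hF e U hU
  -- the map out of the symmetric algebra
  let bF : ∀ (V : X.Opens) (hV : IsAffineOpen V),
      𝒮.presheaf.obj (op V) →+* Γ(P, DjE p ch j V hV (res F (le_top : V ≤ ⊤) e)) := fun V hV => bundleFn hj V hV (res F (le_top : V ≤ ⊤) e)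
  let st : ∀ (V : X.Opens) (hV : IsAffineOpen V), Γ(X, V) →+* Γ(P, DjE p ch j V hV (res F (le_top : V ≤ ⊤) e)) := fun V hV =>
    (resO P (DjE_le (ch := ch) V hV (res F (le_top : V ≤ ⊤) e))).comp (p.app V).hom
  have hbst : ∀ (V : X.Opens) (hV : IsAffineOpen V) (a : Γ(X, V)),
      bF V hV ((𝒮.str.app (op V)).hom a) = st V hV a := fun V hV a => bundleFn_str hP hj V hV (res F (le_top : V ≤ ⊤) e) a
  have hje : ∀ (V : X.Opens) (a : Γ(X, V)) (m : Γ(F, V)),
      jE j V (a • m) = (𝒮.str.app (op V)).hom a * jE j V m := fun V a m => Scheme.Modules.Hom.app_smul j a m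
  obtain ⟨χ, hχa, hχι⟩ : ∃ χ : ∀ (V : X.Opens) (hV : IsAffineOpen V),
      symObj E V →+* Γ(P, DjE p ch j V hV (res F (le_top : V ≤ ⊤) e)),
      (∀ (V : X.Opens) (hV : IsAffineOpen V) a, χ V hV (algebraMap _ _ a) =
        resO P (DjE_le (ch := ch) V hV (res F (le_top : V ≤ ⊤) e)) ((p.app V).hom a)) ∧
      ∀ (V : X.Opens) (hV : IsAffineOpen V) m, χ V hV (SymmetricAlgebra.ι Γ(X, V) Γ(E, V) m) =
        bundleFn hj V hV (res F (le_top : V ≤ ⊤) e) (jE j V (i.app V m)) := by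
    refine ⟨fun V hV => symLift (st V hV) (AddMonoidHom.mk' (fun m => bF V hV (jE j V (i.app V m))) fun a b => by
      rw [map_add, ← map_add (bF V hV)]
      exact congrArg (bF V hV) (map_add (j.app V).hom _ _)) fun a m => by
        show bF V hV (jE j V (i.app V (a • m))) = st V hV a * bF V hV (jE j V (i.app V m))
        rw [Scheme.Modules.Hom.app_smul, hje, map_mul, hbst], fun V hV a => ?_, fun V hV m => ?_⟩
    · exact symLift_algebraMap ..
    · exact symLift_ι ..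
  have hχbij : ∀ (V : X.Opens) (hV : IsAffineOpen V), Function.Bijective (χ V hV) := fun V hV =>
    bijective_chi hj hP hF e r i c hir hic hre hce hsplit V hV (χ V hV) (hχa V hV) (hχι V hV)
  have hDle : ∀ (V : X.Opens) (hV : IsAffineOpen V),
      (U.ι ≫ p) ⁻¹ᵁ V ≤ U.ι ⁻¹ᵁ DjE p ch j V hV (res F (le_top : V ≤ ⊤) e) := fun V hV => by
    refine le_trans ?_ (U.ι.preimage_mono (hD V hV).le)
    intro x hx
    exact ⟨x.2, hx⟩
  have hDeq : ∀ (V : X.Opens) (hV : IsAffineOpen V),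
      (U.ι ≫ p) ⁻¹ᵁ V = U.ι ⁻¹ᵁ DjE p ch j V hV (res F (le_top : V ≤ ⊤) e) := fun V hV => by
    refine le_antisymm (hDle V hV) ?_
    refine le_trans (U.ι.preimage_mono (hD V hV).ge) ?_
    intro x hx
    exact hx.2
  have hDU : ∀ (V : X.Opens) (hV : IsAffineOpen V), DjE p ch j V hV (res F (le_top : V ≤ ⊤) e) ≤ U.ι.opensRange := fun V hV => by
    exact ((hD V hV).ge.trans inf_le_left).trans U.opensRange_ι.ge
  refine isIso_of_affine (U.ι ≫ p) A (fun V hV => ?_)
    (fun V hV => γ.hom.app (op ⟨V, hV⟩) ≫ CommRingCat.ofHom (χ V hV) ≫ U.ι.appLE _ _ (hDle V hV))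
    (fun V₀ W₀ i₀ => ?_) (fun V hV => ?_) fun V hV => ?_
  · rw [hDeq V hV]
    have h1 : IsAffineOpen (DjE p ch j V hV (res F (le_top : V ≤ ⊤) e)) :=
      (Proj.isAffineOpen_basicOpen (𝒮.deg V hV) (jE j V (res F (le_top : V ≤ ⊤) e)) (hj.2 V hV (res F (le_top : V ≤ ⊤) e)) one_pos).image_of_isOpenImmersion _
    exact h1.preimage_of_isOpenImmersion U.ι (hDU V hV)
  · -- naturality
    obtain ⟨V, hV⟩ := V₀
    obtain ⟨W, hW⟩ := W₀
    have h : W ≤ V := toOpens_mono (leOfHom i₀)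
    have hle : DjE p ch j W hW (res F (le_top : W ≤ ⊤) e) ≤ DjE p ch j V hV (res F (le_top : V ≤ ⊤) e) := by
      exact ((hD W hW).ge.trans (inf_le_inf le_rfl (p.preimage_mono h))).trans (hD V hV).le
    have key : ∀ z, χ W hW ((symRes E h).hom z) = resO P hle (χ V hV z) := by
      refine RingHom.congr_fun (f := (χ W hW).comp (symRes E h).hom) (g := (resO P hle).comp (χ V hV))
        (symHom_ext (fun a => ?_) fun m => ?_)
      · rw [RingHom.comp_apply, RingHom.comp_apply, symRes_algebraMap, hχa, hχa]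
        show resO P _ ((p.app W).hom (resO X h a)) = resO P hle (resO P _ ((p.app V).hom a))
        rw [show (p.app W).hom (resO X h a) = resO P (p.preimage_mono h) ((p.app V).hom a) from
          congr($(p.naturality (homOfLE h).op) a), QC.resO_resO, QC.resO_resO]
      · rw [RingHom.comp_apply, RingHom.comp_apply, symRes_ι, hχι, hχι]
        have hg := isGen_fund hj hO1 hφ W hW (res F (le_top : W ≤ ⊤) e) (DjE_le (ch := ch) W hW (res F (le_top : W ≤ ⊤) e))
          ((RelProj.emb p ch W hW).preimage_image_eq _).le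
        refine ((hg _ le_rfl).1 ?_)
        simp only [QC.res_self]
        refine (res_phi_eq hO1 hj hφ W hW (res F (le_top : W ≤ ⊤) e) (i.app W (res E h m))).symm.trans ?_
        have h2 := congrArg (res O1 hle) (res_phi_eq hO1 hj hφ V hV (res F (le_top : V ≤ ⊤) e) (i.app V m))
        rw [QC.res_smul, QC.res_res, QC.res_res] at h2
        have e1 : ∀ (m' : Γ(F, V)), res O1 (DjE_le (j := j) (ch := ch) W hW (res F (le_top : W ≤ ⊤) e))
            (φ.app W (res F h m') : Γ(O1, p ⁻¹ᵁ W)) =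
              res O1 (hle.trans (DjE_le (j := j) (ch := ch) V hV (res F (le_top : V ≤ ⊤) e))) (φ.app V m' : Γ(O1, p ⁻¹ᵁ V)) := fun m' => by
          rw [← QC.app_res φ h m']
          exact QC.res_res O1 _ (p.preimage_mono h) _
        rw [← QC.app_res i h m, e1, h2, ← e1 (res F (le_top : V ≤ ⊤) e)]
        rw [show res F h (res F (le_top : V ≤ ⊤) e) = (res F (le_top : W ≤ ⊤) e) from QC.res_res F h le_top e]
    refine CommRingCat.hom_ext (RingHom.ext fun a => ?_)
    let V' : X.AffineZariskiSite := ⟨V, hV⟩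
    let W' : X.AffineZariskiSite := ⟨W, hW⟩
    show (U.ι.appLE _ _ (hDle W hW)).hom (χ W hW ((γ.hom.app (op W')).hom ((A.presheaf.map (homOfLE h).op).hom a))) =
      resO _ ((U.ι ≫ p).preimage_mono h) ((U.ι.appLE _ _ (hDle V hV)).hom (χ V hV ((γ.hom.app (op V')).hom a)))
    rw [show (γ.hom.app (op W')).hom ((A.presheaf.map (homOfLE h).op).hom a) =
      (symRes E h).hom ((γ.hom.app (op V')).hom a) from
      congr($(γ.hom.naturality (X := op V') (Y := op W') i₀.op) a), key]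
    exact ((congr($(U.ι.map_appLE (hDle W hW) (homOfLE hle).op) _))).trans
      (congr($(U.ι.appLE_map (hDle V hV) (homOfLE ((U.ι ≫ p).preimage_mono h)).op) _)).symm
  · refine CommRingCat.hom_ext (RingHom.ext fun a => ?_)
    let V' : X.AffineZariskiSite := ⟨V, hV⟩
    show (U.ι.appLE _ _ (hDle V hV)).hom (χ V hV ((γ.hom.app (op V')).hom ((A.str.app (op V)).hom a))) = _
    rw [γ_str γ hγ V' a, hχa]
    show (U.ι.appLE _ _ (hDle V hV)).hom (resO P _ ((p.app V).hom a)) = ((U.ι ≫ p).app V).hom a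
    rw [Scheme.Hom.app_eq_appLE (U.ι ≫ p), Scheme.Hom.comp_appLE U.ι p]
    exact congr($(U.ι.map_appLE (hDle V hV) (homOfLE (DjE_le (ch := ch) V hV (res F (le_top : V ≤ ⊤) e))).op) ((p.app V).hom a))
  · have hb1 := ConcreteCategory.bijective_of_isIso (γ.hom.app (op (⟨V, hV⟩ : X.AffineZariskiSite)))
    show Function.Bijective ((U.ι.appLE _ ((U.ι ≫ p) ⁻¹ᵁ V) (hDle V hV)).hom ∘ (χ V hV) ∘
      (γ.hom.app (op (⟨V, hV⟩ : X.AffineZariskiSite))).hom)
    refine Function.Bijective.comp ?_ ((hχbij V hV).comp hb1)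
    have h2 : ∀ (O : U.toScheme.Opens) (e : O = U.ι ⁻¹ᵁ DjE p ch j V hV (res F (le_top : V ≤ ⊤) e)),
        Function.Bijective (U.ι.appLE _ O e.le).hom := by
      rintro O rfl
      rw [← Scheme.Hom.app_eq_appLE]
      exact RelTilde.bijective_app_of_le U.ι (hDU V hV)
    exact h2 _ (hDeq V hV)

end Groth.Agent.CycPB
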