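import Groth.Agent.CycPB.Top
import Groth.Agent.SymAlg.Exists
import Groth.Agent.RelTilde.Cast
import Groth.Agent.RelTilde.ScalarExt
import Groth.Agent.RelProjLib.ProjMap
import Groth.Agent.RelProjLib.Chart
import Groth.Agent.LocFree.Props
import Groth.Agent.S3554
import Groth.Agent.S4406
import Groth.Agent.PicFam.Pn

/-!
`Proj` of the symmetric algebra of a finite locally free module has projective spaces as fibres.
-/

set_option autoImplicit false
set_option linter.unusedSectionVars false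
set_option linter.style.haveILetI false
set_option backward.isDefEq.respectTransparency false
set_option backward.isDefEq.respectTransparency.types false

universe u

open CategoryTheory CategoryTheory.Limits AlgebraicGeometry TopologicalSpace Opposite
open scoped HomogeneousIdeal

noncomputable section

namespace Groth.Agent.CycPB

/-- The two twisting sheaves agree. -/
theorem tilde_eq_twist {R A : Type u} [CommRing R] [CommRing A] [Algebra R A] (𝒜 : ℕ → Submodule R A)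
    [GradedAlgebra 𝒜] (n : ℤ) : GrTwist.twist 𝒜 n = Twist.twist 𝒜 n := rfl

/-- Restriction along an open immersion, from a comparison bijective on its image. -/
theorem nonempty_pullback_iso {Y Z : Scheme.{u}} (f : Z ⟶ Y) [IsOpenImmersion f] {L : Y.Modules} {N : Z.Modules}
    (θ : L ⟶ (Scheme.Modules.pushforward f).obj N)
    (h : ∀ W : Y.Opens, W ≤ f.opensRange → Function.Bijective (θ.app W)) :
    Nonempty ((Scheme.Modules.pullback f).obj L ≅ N) := by
  let ψ : L.restrict f ⟶ N := (Scheme.Modules.restrictFunctor f).map θ ≫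
    (Scheme.Modules.restrictAdjunction f).counit.app N
  haveI : IsIso ψ := by
    rw [Scheme.Modules.Hom.isIso_iff_isIso_app]
    intro U
    rw [ConcreteCategory.isIso_iff_bijective]
    refine Function.Bijective.comp (g := N.presheaf.map (eqToHom (f.preimage_image_eq U).symm).op) ?_
      (h _ (f.image_le_opensRange U))
    exact ConcreteCategory.bijective_of_isIso _
  exact ⟨(Scheme.Modules.restrictFunctorIsoPullback f).symm.app L ≪≫ asIso ψ⟩

/-- A homomorphism between polynomial rings is surjective on irrelevant ideals. -/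
lemma irrelevant_map {R R' : Type u} [CommRing R] [CommRing R'] {n : ℕ} (g : R' →+* R)
    (φ : CohB1.polyGrading n R' →+*ᵍ CohB1.polyGrading n R) (hφ : ∀ p, φ p = MvPolynomial.map g p) :
    HomogeneousIdeal.irrelevant (CohB1.polyGrading n R) ≤
      (HomogeneousIdeal.irrelevant (CohB1.polyGrading n R')).map φ := by
  rw [HomogeneousIdeal.irrelevant_le]
  intro i hi p hp
  rw [p.as_sum]
  refine sum_mem fun d hd => ?_
  have hd0 : d ≠ 0 := by
    rintro rfl
    have := hp (MvPolynomial.mem_support_iff.1 hd)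
    simp at this
    omega
  obtain ⟨j, hj⟩ : ∃ j, d j ≠ 0 := by
    by_contra! h
    exact hd0 (Finsupp.ext h)
  rw [show MvPolynomial.monomial d (MvPolynomial.coeff d p) =
      MvPolynomial.monomial (d - Finsupp.single j 1) (MvPolynomial.coeff d p) * φ (MvPolynomial.X j) by
    rw [hφ, MvPolynomial.map_X, MvPolynomial.X, MvPolynomial.monomial_mul, mul_one, tsub_add_cancel_of_le]
    exact Finsupp.single_le_iff.2 (Nat.one_le_iff_ne_zero.2 hj)]
  exact Ideal.mul_mem_left _ _ (Ideal.mem_map_of_mem _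
    (HomogeneousIdeal.mem_irrelevant_of_mem _ one_pos (MvPolynomial.isHomogeneous_X R' j)))

/-- Change of the ring of a projective space. -/
theorem exists_projSpace_baseChange {R R' : Type u} [CommRing R] [CommRing R'] (n : ℕ) (g : R' →+* R) :
    ∃ Φ : CohB1.ProjSpace n R ⟶ CohB1.ProjSpace n R',
      IsPullback Φ (CohB1.ProjSpace.toSpec n R) (CohB1.ProjSpace.toSpec n R') (Spec.map (CommRingCat.ofHom g)) ∧
      Nonempty ((Scheme.Modules.pullback Φ).obj (Twist.twistProjSpace n R' 1) ≅ Twist.twistProjSpace n R 1) := by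
  letI : Algebra R' R := g.toAlgebra
  letI : Algebra (MvPolynomial (Fin (n + 1)) R') (MvPolynomial (Fin (n + 1)) R) :=
    MvPolynomial.algebraMvPolynomial
  let φ : CohB1.polyGrading n R' →+*ᵍ CohB1.polyGrading n R :=
    { MvPolynomial.map g with
      map_mem := fun {i} x hx => MvPolynomial.IsHomogeneous.map hx _ }
  have hφ := irrelevant_map g φ fun p => rfl
  exact ⟨Proj.map φ hφ, Groth.Agent.S3554.result (R := R) (R' := R') (CohB1.polyGrading n R')
    (CohB1.polyGrading n R) φ (fun b => rfl) hφ,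
    Groth.Agent.S4406.result (R := R) (R' := R') (CohB1.polyGrading n R') (CohB1.polyGrading n R) φ
      (fun b => rfl) hφ 1⟩

variable {X P : Scheme.{u}}

/-- Projective spaces over affine opens give projective spaces as fibres. -/
theorem hasPnFibres_of_local {p : P ⟶ X} {O : P.Modules} {n : ℕ}
    (h : ∀ y : X, ∃ (U : X.Opens) (hU : IsAffineOpen U) (Φ : CohB1.ProjSpace n Γ(X, U) ⟶ P), y ∈ U ∧
      IsPullback Φ (CohB1.ProjSpace.toSpec n Γ(X, U)) p hU.fromSpec ∧
      Nonempty ((Scheme.Modules.pullback Φ).obj O ≅ Twist.twistProjSpace n Γ(X, U) 1)) :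
    HasPnFibres p O n := by
  intro y
  obtain ⟨U, hU, Φ, hy, hsq, ⟨τ⟩⟩ := h y
  let g : Γ(X, U) →+* X.residueField y := (X.presheaf.germ U y hy ≫ X.residue y).hom
  have hb : Spec.map (CommRingCat.ofHom g) ≫ hU.fromSpec = X.fromSpecResidueField y := by
    show Spec.map (X.presheaf.germ U y hy ≫ X.residue y) ≫ hU.fromSpec = _
    rw [Spec.map_comp, Category.assoc, Scheme.fromSpecResidueField,
      ← hU.fromSpecStalk_eq_fromSpecStalk hy]
    rfl
  obtain ⟨Ψ, hΨ, ⟨τ'⟩⟩ := exists_projSpace_baseChange n g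
  have h1 : IsPullback (Ψ ≫ Φ) (CohB1.ProjSpace.toSpec n (X.residueField y)) p (X.fromSpecResidueField y) := by
    rw [← hb]
    exact hΨ.paste_horiz hsq
  have sq : IsPullback (p.fiberι y) (p.fiberToSpecResidueField y) p (X.fromSpecResidueField y) :=
    .of_hasPullback _ _
  refine ⟨h1.isoIsPullback _ _ sq, h1.isoIsPullback_hom_snd _ _ sq, ⟨?_⟩⟩
  exact (Scheme.Modules.pullbackCongr (h1.isoIsPullback_hom_fst _ _ sq)).app O ≪≫
    ((Scheme.Modules.pullbackComp Ψ Φ).app O).symm ≪≫ (Scheme.Modules.pullback Ψ).mapIso τ ≪≫ τ'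

/-- A locally free module has bases on small affine opens. -/
theorem exists_basis {E : X.Modules} {r : ℕ} (hE : FlatMod.IsFinLocFreeOfRank r E) (y : X) :
    ∃ U : X.Opens, IsAffineOpen U ∧ y ∈ U ∧ Nonempty (Module.Basis (Fin r) Γ(X, U) Γ(E, U)) := by
  obtain ⟨W, hyW, ⟨e⟩⟩ := hE y
  obtain ⟨D, hD, hyD, hDW⟩ := exists_isAffineOpen_mem_and_subset (show y ∈ W from hyW)
  let ι' : Spec Γ(X, D) ⟶ (W : Scheme.{u}) :=
    IsOpenImmersion.lift W.ι hD.fromSpec (by rw [hD.range_fromSpec, Scheme.Opens.range_ι]; exact hDW)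
  have hι : ι' ≫ W.ι = hD.fromSpec := IsOpenImmersion.lift_fac _ _ _
  haveI : IsOpenImmersion (ι' ≫ W.ι) := by rw [hι]; infer_instance
  haveI : IsOpenImmersion ι' := IsOpenImmersion.of_comp ι' W.ι
  let e' : E.restrict hD.fromSpec ≅ FlatMod.freeMod (Spec Γ(X, D)) r :=
    (Scheme.Modules.restrictFunctorCongr hι).symm.app E ≪≫
      (Scheme.Modules.restrictFunctorComp ι' W.ι).app E ≪≫
      (Scheme.Modules.restrictFunctor ι').mapIso e ≪≫
      (Scheme.Modules.restrictFunctorIsoPullback ι').app _ ≪≫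
      Groth.Agent.DerPerf.pullFreeIso ι' r
  let e'' : E.restrict hD.fromSpec ≅ tilde (ModuleCat.of Γ(X, D) (ULift.{u} (Fin r) →₀ Γ(X, D))) :=
    e' ≪≫ (Sigma.whiskerEquiv (f := fun _ : ULift.{u} (Fin r) => Coh.structureModule (Spec Γ(X, D)))
      (g := fun _ : Fin r => Coh.structureModule (Spec Γ(X, D))) Equiv.ulift (fun _ => Iso.refl _)).symm ≪≫
      (tildeFinsupp (R := Γ(X, D)) (ULift.{u} (Fin r))).symm
  let l : Γ(E, D) ≃ₗ[Γ(X, D)] (ULift.{u} (Fin r) →₀ Γ(X, D)) :=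
    (Groth.Agent.QC.topEquiv hD E).symm.trans (moduleSpecΓFunctor.mapIso e'' ≪≫
      (tilde.toTildeΓNatIso.app (ModuleCat.of Γ(X, D) (ULift.{u} (Fin r) →₀ Γ(X, D)))).symm).toLinearEquiv
  exact ⟨D, hD, hyD, ⟨(Module.Basis.ofRepr l).reindex Equiv.ulift⟩⟩

variable {E : X.Modules} {𝒮 : RelProj.QCGrAlg X} {j : E ⟶ 𝒮.toModule}

/-- The symmetric algebra over an open where the module is free. -/
theorem exists_polyHom (hq : Coh.IsQCoh E) (hS : RelProj.IsGrSymAlg E 𝒮 j) {U : X.Opens} (hU : IsAffineOpen U)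
    {n : ℕ} (b : Module.Basis (Fin (n + 1)) Γ(X, U) Γ(E, U)) :
    ∃ φ : CohB1.polyGrading n Γ(X, U) →+*ᵍ 𝒮.deg U hU, Function.Bijective φ ∧
      ∀ c, φ (MvPolynomial.C c) = (𝒮.str.app (op U)).hom c := by
  obtain ⟨γ, hγ, hj⟩ := SymAlg.exists_affineIso hq hS.1
  let V : X.AffineZariskiSite := ⟨U, hU⟩
  let e : MvPolynomial (Fin (n + 1)) Γ(X, U) →+* 𝒮.presheaf.obj (op U) :=
    (γ.inv.app (op V)).hom.comp (SymmetricAlgebra.equivMvPolynomial b).symm.toRingEquiv.toRingHom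
  have hC : ∀ c, e (MvPolynomial.C c) = (𝒮.str.app (op U)).hom c := fun c => by
    show (γ.inv.app (op V)).hom ((SymmetricAlgebra.equivMvPolynomial b).symm (algebraMap _ _ c)) = _
    rw [AlgEquiv.commutes]
    have h2 : 𝒮.str.app (op U) ≫ γ.hom.app (op V) = (SymAlg.symStr E).app (op V) := congr(($hγ).app (op V))
    have h1 : (γ.hom.app (op V)).hom ((𝒮.str.app (op U)).hom c) = ((SymAlg.symStr E).app (op V)).hom c := congr($h2 c)
    exact (congrArg (γ.inv.app (op V)).hom h1.symm).trans congr($(γ.hom_inv_id_app (op V)) _)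
  have hX : ∀ i, e (MvPolynomial.X i) ∈ 𝒮.deg U hU 1 := fun i => by
    show (γ.inv.app (op V)).hom ((SymmetricAlgebra.equivMvPolynomial b).symm (MvPolynomial.X i)) ∈ _
    rw [SymmetricAlgebra.equivMvPolynomial_symm_X, ← hj V]
    exact hS.2 U hU _
  have hmem : ∀ {d : ℕ} {p : MvPolynomial (Fin (n + 1)) Γ(X, U)}, p ∈ CohB1.polyGrading n Γ(X, U) d →
      e p ∈ 𝒮.deg U hU d := fun {d p} hp => by
    classical
    rw [p.as_sum, map_sum]
    refine sum_mem fun m hm => ?_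
    have hd : ∑ i ∈ m.support, m i = d := by
      have := hp (MvPolynomial.mem_support_iff.1 hm)
      simpa [Finsupp.weight_apply, Finsupp.sum] using this
    rw [MvPolynomial.monomial_eq, map_mul, hC, Finsupp.prod, map_prod, ← hd]
    have h1 : (∏ i ∈ m.support, e (MvPolynomial.X i ^ m i)) ∈ 𝒮.deg U hU (∑ i ∈ m.support, m i) :=
      SetLike.prod_mem_graded _ _ _ fun i _ => by
        rw [map_pow]
        simpa using SetLike.pow_mem_graded (m i) (hX i)
    simpa only [zero_add] using SetLike.mul_mem_graded (𝒮.str_mem U hU _) h1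
  refine ⟨{ e with map_mem := hmem }, ?_, hC⟩
  exact (ConcreteCategory.bijective_of_isIso (γ.inv.app (op V))).comp
    (SymmetricAlgebra.equivMvPolynomial b).symm.bijective

/-- Where the module is free, the bundle is a projective space with the twisting sheaf. -/
theorem exists_projSpace_chart (hq : Coh.IsQCoh E) (hS : RelProj.IsGrSymAlg E 𝒮 j) {p : P ⟶ X}
    {chart : ∀ (U : X.Opens) (hU : IsAffineOpen U), (((p ⁻¹ᵁ U : P.Opens) : Scheme.{u}) ≅ Proj (𝒮.deg U hU))}
    (hP : RelProj.IsRelProj 𝒮 p chart) {O1 : P.Modules}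
    {lam : ∀ (U : X.Opens) (hU : IsAffineOpen U),
      O1 ⟶ (Scheme.Modules.pushforward (RelProj.emb p chart U hU)).obj (GrTwist.twist (𝒮.deg U hU) 1)}
    (hO1 : RelProj.IsRelTwist 𝒮 p chart 1 O1 lam) {U : X.Opens} (hU : IsAffineOpen U)
    {n : ℕ} (b : Module.Basis (Fin (n + 1)) Γ(X, U) Γ(E, U)) :
    ∃ Φ : CohB1.ProjSpace n Γ(X, U) ⟶ P,
      IsPullback Φ (CohB1.ProjSpace.toSpec n Γ(X, U)) p hU.fromSpec ∧
      Nonempty ((Scheme.Modules.pullback Φ).obj O1 ≅ Twist.twistProjSpace n Γ(X, U) 1) := by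
  obtain ⟨φ, hb, hC⟩ := exists_polyHom hq hS hU b
  let 𝒜 := CohB1.polyGrading n Γ(X, U)
  let ℬ := 𝒮.deg U hU
  have hbij : ∀ d, Set.BijOn φ (𝒜 d) (ℬ d) := fun d => by
    classical
    refine ⟨fun x hx => φ.map_mem hx, hb.1.injOn, fun y hy => ?_⟩
    obtain ⟨x, rfl⟩ := hb.2 y
    refine ⟨(DirectSum.decompose 𝒜 x d : MvPolynomial (Fin (n + 1)) Γ(X, U)), SetLike.coe_mem _, ?_⟩
    rw [GradedRingHom.map_directSumDecompose, DirectSum.decompose_of_mem_same _ hy]
  have hφ : HomogeneousIdeal.irrelevant ℬ ≤ (HomogeneousIdeal.irrelevant 𝒜).map φ := by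
    rw [HomogeneousIdeal.irrelevant_le]
    intro i hi y hy
    obtain ⟨x, hx, rfl⟩ := (hbij i).surjOn hy
    exact Ideal.mem_map_of_mem _ (HomogeneousIdeal.mem_irrelevant_of_mem _ hi hx)
  haveI : IsIso (Proj.map φ hφ) := RelProjLib.isIso_map_of_bijOn φ (fun d _ => hbij d) hφ
  have hover : Proj.map φ hφ ≫ CohB1.ProjSpace.toSpec n Γ(X, U) =
      Proj.toSpecZero ℬ ≫ Spec.map (𝒮.strZero U hU) := by
    show Proj.map φ hφ ≫ Proj.toSpecZero 𝒜 ≫
      Spec.map (CommRingCat.ofHom (algebraMap Γ(X, U) (𝒜 0))) = _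
    rw [RelProjLib.map_toSpecZero_assoc φ hφ, ← Spec.map_comp]
    congr 2
    ext c
    exact hC c
  have sq : IsPullback (RelProj.emb p chart U hU) (Proj.toSpecZero ℬ ≫ Spec.map (𝒮.strZero U hU)) p
      hU.fromSpec := by
    refine (IsOpenImmersion.isPullback _ _ _ _ ?_ ?_).flip
    · have h := hP.chart_over U hU
      show ((chart U hU).inv ≫ (p ⁻¹ᵁ U).ι) ≫ p = (Proj.toSpecZero ℬ ≫ Spec.map (𝒮.strZero U hU)) ≫ hU.fromSpec
      rw [Category.assoc, ← h, Iso.inv_hom_id_assoc, Category.assoc]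
    · rw [hU.opensRange_fromSpec]
      show _ = ((chart U hU).inv ≫ (p ⁻¹ᵁ U).ι).opensRange
      rw [Scheme.Hom.opensRange_comp_of_isIso, Scheme.Opens.opensRange_ι]
  refine ⟨inv (Proj.map φ hφ) ≫ RelProj.emb p chart U hU, ?_, ?_⟩
  · refine sq.of_iso (asIso (Proj.map φ hφ)) (Iso.refl _) (Iso.refl _) (Iso.refl _) ?_ ?_ ?_ ?_
    · simp
    · simpa using hover.symm
    · simp
    · simp
  · letI : Algebra (MvPolynomial (Fin (n + 1)) Γ(X, U)) (𝒮.presheaf.obj (op U)) := φ.toRingHom.toAlgebra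
    letI : Algebra Γ(X, U) (𝒮.presheaf.obj (op U)) := (𝒮.str.app (op U)).hom.toAlgebra
    haveI : IsScalarTower Γ(X, U) (MvPolynomial (Fin (n + 1)) Γ(X, U)) (𝒮.presheaf.obj (op U)) :=
      IsScalarTower.of_algebraMap_eq fun c => (hC c).symm
    have hB : IsBaseChange Γ(X, U) (IsScalarTower.toAlgHom Γ(X, U) (MvPolynomial (Fin (n + 1)) Γ(X, U))
        (𝒮.presheaf.obj (op U))).toLinearMap :=
      IsBaseChange.ofEquiv (AlgEquiv.ofBijective (IsScalarTower.toAlgHom Γ(X, U)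
        (MvPolynomial (Fin (n + 1)) Γ(X, U)) (𝒮.presheaf.obj (op U))) hb).toLinearEquiv
    haveI := RelTilde.isIso_adjunct_self (R := Γ(X, U)) (R' := Γ(X, U)) φ hφ (fun a => rfl)
      (fun c => SetLike.algebraMap_mem_graded 𝒜 c) (fun c => 𝒮.str_mem U hU c) hB 1
    let ν : (Scheme.Modules.pullback (Proj.map φ hφ)).obj (GrMod.tilde 𝒜 𝒜 1) ≅ GrMod.tilde ℬ ℬ 1 :=
      asIso (((Scheme.Modules.pullbackPushforwardAdjunction (Proj.map φ hφ)).homEquiv _ _).symm
        (GrMod.comap φ hφ (RelTilde.ringHomSemilinear φ) (RelTilde.ringHomSemilinear_mem φ) 1))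
    obtain ⟨τ⟩ := nonempty_pullback_iso (RelProj.emb p chart U hU) (lam U hU) fun W hW =>
      hO1.bijective U hU W (hW.trans (le_of_eq (by
        show ((chart U hU).inv ≫ (p ⁻¹ᵁ U).ι).opensRange = _
        rw [Scheme.Hom.opensRange_comp_of_isIso, Scheme.Opens.opensRange_ι])))
    have e : GrMod.tilde 𝒜 𝒜 1 = Twist.twistProjSpace n Γ(X, U) 1 := tilde_eq_twist 𝒜 1
    exact ⟨((Scheme.Modules.pullbackComp _ _).app O1).symm ≪≫
      (Scheme.Modules.pullback (inv (Proj.map φ hφ))).mapIso (τ ≪≫ ν.symm) ≪≫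
      (Scheme.Modules.pullbackComp _ _).app _ ≪≫
      (Scheme.Modules.pullbackCongr (IsIso.inv_hom_id (Proj.map φ hφ))).app _ ≪≫
      (Scheme.Modules.pullbackId _).app _ ≪≫ eqToIso e⟩

/-- Locally projective spaces are flat. -/
theorem flat_of_local {p : P ⟶ X} {n : ℕ}
    (h : ∀ y : X, ∃ (U : X.Opens) (hU : IsAffineOpen U) (Φ : CohB1.ProjSpace n Γ(X, U) ⟶ P), y ∈ U ∧
      IsPullback Φ (CohB1.ProjSpace.toSpec n Γ(X, U)) p hU.fromSpec) : Flat p := by
  choose U hU Φ hy hsq using h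
  refine IsZariskiLocalAtTarget.of_iSup_eq_top (P := @Flat) U
    (top_le_iff.1 fun y _ => TopologicalSpace.Opens.mem_iSup.2 ⟨y, hy y⟩) fun y => ?_
  have hr := (isPullback_morphismRestrict p (U y)).flip
  have hw : Φ y ≫ p = (CohB1.ProjSpace.toSpec n Γ(X, U y) ≫ (hU y).isoSpec.inv) ≫ (U y).ι := by
    rw [Category.assoc, IsAffineOpen.isoSpec_inv_ι]
    exact (hsq y).w
  let Ψ := hr.lift (Φ y) _ hw
  have h' : IsPullback (Ψ ≫ (p ⁻¹ᵁ U y).ι) (CohB1.ProjSpace.toSpec n Γ(X, U y)) p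
      ((hU y).isoSpec.inv ≫ (U y).ι) := by
    rw [hr.lift_fst, IsAffineOpen.isoSpec_inv_ι]
    exact hsq y
  have h2 : IsPullback Ψ (CohB1.ProjSpace.toSpec n Γ(X, U y)) (p ∣_ U y) (hU y).isoSpec.inv :=
    IsPullback.of_right h' (hr.lift_snd _ _ hw) hr
  haveI : IsIso Ψ := h2.isIso_fst_of_isIso
  haveI : Flat (CohB1.ProjSpace.toSpec n Γ(X, U y)) := (PerfGen.flat_lfp_toSpec n Γ(X, U y)).1
  rw [show p ∣_ U y = inv Ψ ≫ CohB1.ProjSpace.toSpec n Γ(X, U y) ≫ (hU y).isoSpec.inv by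
    rw [← h2.w, IsIso.inv_hom_id_assoc]]
  infer_instance

/-- A projective bundle given as relative `Proj` is flat. -/
theorem flat_of_isRelProj (hq : Coh.IsQCoh E) {n : ℕ} (hE : FlatMod.IsFinLocFreeOfRank (n + 1) E)
    (hS : RelProj.IsGrSymAlg E 𝒮 j) {p : P ⟶ X}
    {chart : ∀ (U : X.Opens) (hU : IsAffineOpen U), (((p ⁻¹ᵁ U : P.Opens) : Scheme.{u}) ≅ Proj (𝒮.deg U hU))}
    (hP : RelProj.IsRelProj 𝒮 p chart) {O1 : P.Modules}
    {lam : ∀ (U : X.Opens) (hU : IsAffineOpen U),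
      O1 ⟶ (Scheme.Modules.pushforward (RelProj.emb p chart U hU)).obj (GrTwist.twist (𝒮.deg U hU) 1)}
    (hO1 : RelProj.IsRelTwist 𝒮 p chart 1 O1 lam) : Flat p :=
  flat_of_local fun y => by
    obtain ⟨U, hU, hy, ⟨b⟩⟩ := exists_basis hE y
    obtain ⟨Φ, h1, -⟩ := exists_projSpace_chart hq hS hP hO1 hU b
    exact ⟨U, hU, Φ, hy, h1⟩

/-- The fibres of a projective bundle given as relative `Proj`. -/
theorem hasPnFibres_of_isRelProj (hq : Coh.IsQCoh E) {n : ℕ} (hE : FlatMod.IsFinLocFreeOfRank (n + 1) E)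
    (hS : RelProj.IsGrSymAlg E 𝒮 j) {p : P ⟶ X}
    {chart : ∀ (U : X.Opens) (hU : IsAffineOpen U), (((p ⁻¹ᵁ U : P.Opens) : Scheme.{u}) ≅ Proj (𝒮.deg U hU))}
    (hP : RelProj.IsRelProj 𝒮 p chart) {O1 : P.Modules}
    {lam : ∀ (U : X.Opens) (hU : IsAffineOpen U),
      O1 ⟶ (Scheme.Modules.pushforward (RelProj.emb p chart U hU)).obj (GrTwist.twist (𝒮.deg U hU) 1)}
    (hO1 : RelProj.IsRelTwist 𝒮 p chart 1 O1 lam) : HasPnFibres p O1 n :=
  hasPnFibres_of_local fun y => by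
    obtain ⟨U, hU, hy, ⟨b⟩⟩ := exists_basis hE y
    obtain ⟨Φ, h1, h2⟩ := exists_projSpace_chart hq hS hP hO1 hU b
    exact ⟨U, hU, Φ, hy, h1, h2⟩

end Groth.Agent.CycPB
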