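import Groth.Agent.CycPB.Compl
import Groth.Agent.CycPB.NonVan
import Groth.Agent.CycPB.RelBundle
import Groth.Agent.SymAlg.ProjProper
import Groth.Agent.SymAlg.Graded
import Groth.Agent.RelProjLib.Glue
import Groth.Agent.S8284
import Groth.Agent.P1Div.Delta
import Groth.Agent.Catenary.Space
import Groth.Agent.CycDim.AffineCH
import Groth.Agent.W7Strat.Frame
import Groth.Agent.PBundle.FrameTools
import Groth.Agent.RegTilde.Koszul
import Groth.Agent.CohQC.Affineness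
import Groth.Agent.CohQC.QuasiAffine

/-!
Homotopy invariance: the pull back to a vector bundle is injective.
-/

set_option autoImplicit false
set_option linter.unusedSectionVars false
set_option linter.style.haveILetI false
set_option backward.isDefEq.respectTransparency false
set_option backward.isDefEq.respectTransparency.types false

universe u

open CategoryTheory CategoryTheory.Limits AlgebraicGeometry TopologicalSpace Opposite
open Groth.Agent.QC (res)
open Groth.Agent.WeakAssLib (mgerm)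

noncomputable section

namespace Groth.Agent.CycPB

variable {X Z W : Scheme.{u}}

/-- Setups pass to schemes locally of finite type. -/
theorem exists_isSetup {δ : X → ℤ} (hX : Cyc.IsSetup X δ) (f : W ⟶ X) [LocallyOfFiniteType f] :
    ∃ δW : W → ℤ, Cyc.IsSetup W δW ∧ Cyc.DeltaCompat f δW δ := by
  haveI := hX.1
  haveI : IsLocallyNoetherian W := LocallyOfFiniteType.isLocallyNoetherian f
  obtain ⟨δW, hδ⟩ := P1Div.exists_deltaCompat f δ
  refine ⟨δW, ⟨inferInstance, (Catenary.universallyCatenary_iff W).1 fun T g hg => ?_,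
    S9684.result f δ hX δW hδ⟩, hδ⟩
  haveI := hg
  exact (Catenary.universallyCatenary_iff X).2 hX.2.1 T (g ≫ f) inferInstance

/-- Multiplicities along an open immersion. -/
theorem length_fibre_open (f : W ⟶ Z) [IsOpenImmersion f] (π : Z ⟶ X) (u : W) :
    CycFin.fibLen π (f u) = CycFin.fibLen (f ≫ π) u := by
  let E := (asIso (f.stalkMap u)).commRingCatIsoToRingEquiv
  let I := Ideal.map (π.stalkMap (f u)).hom (IsLocalRing.maximalIdeal (X.presheaf.stalk (π (f u))))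
  let J : Ideal (W.presheaf.stalk u) :=
    Ideal.map ((f ≫ π).stalkMap u).hom (IsLocalRing.maximalIdeal (X.presheaf.stalk ((f ≫ π) u)))
  have hJ : J = I.map (E : Z.presheaf.stalk (f u) →+* W.presheaf.stalk u) := by
    show _ = Ideal.map _ (Ideal.map _ _)
    rw [Ideal.map_map]
    show Ideal.map ((f ≫ π).stalkMap u).hom _ = _
    rw [Scheme.Hom.stalkMap_comp]
    rfl
  show Module.length (Z.presheaf.stalk (f u)) (Z.presheaf.stalk (f u) ⧸ I) =
    Module.length (W.presheaf.stalk u) (W.presheaf.stalk u ⧸ J)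
  rw [Module.length_eq_of_surjective (R := Z.presheaf.stalk (f u) ⧸ I) (M := Z.presheaf.stalk (f u) ⧸ I)
      (S := Z.presheaf.stalk (f u)) (Ideal.Quotient.mk_surjective (I := I)),
    Module.length_eq_of_surjective (R := W.presheaf.stalk u ⧸ J) (M := W.presheaf.stalk u ⧸ J)
      (S := W.presheaf.stalk u) (Ideal.Quotient.mk_surjective (I := J)),
    CycDim.length_congr (Ideal.quotientEquiv I J E hJ)]

/-- Pull backs along open immersions. -/
theorem pullFun_open (f : W ⟶ Z) [IsOpenImmersion f] (π : Z ⟶ X) {δ : X → ℤ} {δZ : Z → ℤ} {δW : W → ℤ}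
    (hZ : Cyc.DeltaCompat π δZ δ) (hW : Cyc.DeltaCompat (f ≫ π) δW δ) (n : ℤ) (a : X → ℤ) (u : W) :
    δW u = δZ (f u) ∧ Cyc.pullFun (f ≫ π) δW δ n a u = Cyc.pullFun π δZ δ n a (f u) := by
  obtain ⟨m, hm, h1⟩ := hW u
  obtain ⟨m', hm', h2⟩ := hZ (f u)
  have h := CycK0.resTr_comp f π u
  rw [show CycK0.resTr (f ≫ π) u = (m : Cardinal.{u}) from hm, show CycK0.resTr π (f u) = (m' : Cardinal.{u}) from hm',
    resTr_pre f, add_zero, Nat.cast_inj] at h
  have hd : δW u = δZ (f u) := by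
    rw [h1, h2, h]
    rfl
  refine ⟨hd, ?_⟩
  unfold Cyc.pullFun
  rw [hd]
  refine if_congr Iff.rfl (congrArg (fun l : ℕ∞ => a (π (f u)) * ((l.toNat : ℕ) : ℤ)) ?_) rfl
  exact (length_fibre_open f π u).symm

/-- Rational equivalence to zero along an isomorphism. -/
theorem ratEquivZero_of_iso (e : W ⟶ Z) [IsIso e] {δW : W → ℤ} {δZ : Z → ℤ} (hd : ∀ x, δZ (e x) = δW x) {k : ℤ}
    {α : AlgebraicCycle W ℤ} (hα : Cyc.RatEquivZero δW k α) {β : AlgebraicCycle Z ℤ} (hβ : ∀ x, β (e x) = α x) :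
    Cyc.RatEquivZero δZ k β := by
  obtain ⟨ι, ξ, f, h1, h2, h3, h4⟩ := hα
  choose g hg using fun i => CycPush.residueFieldMap_surjective_pre e (ξ i) (f i)
  refine ⟨ι, fun i => e (ξ i), g, fun i => (hd (ξ i)).trans (h1 i),
    fun i hgi => h2 i (by rw [← hg i, hgi, map_zero]), fun z => ?_, fun z => ?_⟩
  · obtain ⟨x, rfl⟩ := e.homeomorph.surjective z
    obtain ⟨U, hU, hxU, hfin⟩ := h3 x
    refine ⟨e.homeomorph '' U, e.homeomorph.isOpenMap U hU, ⟨x, hxU, rfl⟩, hfin.subset ?_⟩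
    rintro i ⟨w, hw, v, hv, rfl⟩
    exact ⟨v, specializes_iff_mem_closure.1
      (e.homeomorph.isEmbedding.isInducing.specializes_iff.1 (specializes_iff_mem_closure.2 hw)), hv⟩
  · obtain ⟨x, rfl⟩ := e.homeomorph.surjective z
    show β (e x) = _
    rw [hβ, h4]
    refine finsum_congr fun i => ?_
    show _ = Cyc.divFun δZ (e (ξ i)) (g i) (e x)
    rw [CycLine.divFun_pre e δW δZ 0 (fun v => (hd v).trans (add_zero _).symm) (ξ i) (g i) x, hg]

/-- Adding a trivial summand raises the rank. -/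
theorem isFinLocFreeOfRank_biprod_unit {E : X.Modules} {r : ℕ} (hE : FlatMod.IsFinLocFreeOfRank r E)
    (hq : Coh.IsQCoh (E ⊞ Coh.structureModule X)) :
    FlatMod.IsFinLocFreeOfRank (r + 1) (E ⊞ Coh.structureModule X) := by
  refine W7Strat.isFinLocFreeOfRank_of_frames fun x => ?_
  obtain ⟨U, hU, hx, ⟨b⟩⟩ := exists_basis hE x
  let B : Module.Basis (Fin (r + 1)) Γ(X, U) Γ(E ⊞ Coh.structureModule X, U) :=
    ((b.prod (Module.Basis.singleton (Fin 1) Γ(X, U) : Module.Basis (Fin 1) Γ(X, U) Γ(Coh.structureModule X, U))).map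
      (CohQC.biprodSections E (Coh.structureModule X) U).symm).reindex finSumFinEquiv
  refine ⟨U, B, hx, PBundle.isFrame_of_bijective hq hU ?_⟩
  rw [show (fun a : Fin (r + 1) → Γ(X, U) => ∑ i, a i • B i) = B.equivFun.symm from
    funext fun a => (B.equivFun_symm_apply a).symm]
  exact B.equivFun.symm.bijective

set_option maxHeartbeats 1000000 in
/-- Injectivity of the pull back to the complement of the hyperplane at infinity. -/
theorem ratEquivZero_of_split {δ : X → ℤ} (hX : Cyc.IsSetup X δ) {F E : X.Modules} (hqF : Coh.IsQCoh F)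
    (hqE : Coh.IsQCoh E) {n : ℕ} (hF : FlatMod.IsFinLocFreeOfRank (n + 1) F) (e : Γ(F, (⊤ : X.Opens)))
    (r : F ⟶ E) (i : E ⟶ F) (c : F ⟶ Coh.structureModule X)
    (hir : ∀ (V : X.Opens) (m : Γ(E, V)), r.app V (i.app V m) = m)
    (hic : ∀ (V : X.Opens) (m : Γ(E, V)), (show Γ(X, V) from c.app V (i.app V m)) = 0)
    (hre : r.app ⊤ e = 0) (hce : (show Γ(X, ⊤) from c.app ⊤ e) = 1)
    (hsplit : ∀ (V : X.Opens) (m : Γ(F, V)),
      m = i.app V (r.app V m) + (show Γ(X, V) from c.app V m) • res F le_top e)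
    (A : RelSpec.QCAlg X) (jA : E ⟶ A.toModule) (hA : RelSpec.IsSymAlg E A jA)
    (δE : A.spec → ℤ) (hδ : Cyc.DeltaCompat A.π δE δ) {k : ℤ} (α : AlgebraicCycle X ℤ) (hα : α ∈ Cyc.Zk X δ k)
    (γ : AlgebraicCycle A.spec ℤ) (hγ : ⇑γ = Cyc.pullFun A.π δE δ n ⇑α)
    (h0 : Cyc.RatEquivZero δE (k + n) γ) : Cyc.RatEquivZero δ k α := by
  haveI := hX.1
  obtain ⟨𝒮, j, hj⟩ := SymAlg.exists_isGrSymAlg hqF
  obtain ⟨P, p, ch, hP⟩ := RelProjLib.exists_isRelProj 𝒮
  obtain ⟨O1, lam, hO1'⟩ := S8284.result 𝒮 p ch hP 1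
  have hO1 := (RelTilde.isRelTwist_iff 𝒮 1 O1 lam).mp hO1'
  obtain ⟨φ, hφ⟩ := SymAlg.exists_isFund hj hP hO1
  haveI : F.IsQuasicoherent := hqF
  haveI : IsProper p := SymAlg.isProper_bundle hqF
    (LocFree.isFT_of_isFinLocFree fun x => let ⟨U, h1, h2⟩ := hF x; ⟨U, _, h1, h2⟩) hj hP
  have hflat : Flat p := flat_of_isRelProj hqF hF hj hP hO1'
  haveI := hflat
  have hFib := hasPnFibres_of_isRelProj hqF hF hj hP hO1'
  have hO : PicF.IsInvertible O1 := by
    refine InvGen.isInvertible fun x => ?_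
    obtain ⟨U, hU, hxU, -⟩ := exists_isAffineOpen_mem_and_subset (x := p x) (U := (⊤ : X.Opens)) trivial
    obtain ⟨y, hy⟩ := RelTilde.exists_point (q := p) (ch := ch) U hU (x := x) hxU
    obtain ⟨e', he'⟩ := SymAlg.exists_jE_not_mem hj U hU y
    exact ⟨SymAlg.DjE p ch j U hU e', _, ⟨y, (ProjectiveSpectrum.mem_basicOpen _ _ _).mpr he', hy⟩,
      SymAlg.isGen_fund hj hO1 hφ U hU e' (SymAlg.DjE_le U hU e') ((RelProj.emb p ch U hU).preimage_image_eq _).le⟩
  obtain ⟨δP, hPs, hδP⟩ := exists_isSetup hX p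
  let s : Γ(O1, (⊤ : P.Opens)) := φ.app ⊤ e
  let Z := PicF2.zeroScheme O1 (TMul.homOf s)
  let U : P.Opens := ⟨(Set.range Z.subschemeι)ᶜ, Z.subschemeι.isClosedEmbedding.isClosed_range.isOpen_compl⟩
  have hU : ∀ x, x ∈ U ↔ (Submodule.Quotient.mk (mgerm O1 (show x ∈ (⊤ : P.Opens) from trivial) s) :
      Cyc.secFibre O1 x) ≠ 0 := fun x => by
    show x ∈ (Set.range Z.subschemeι)ᶜ ↔ _
    rw [Set.mem_compl_iff, (isZeroSchemeOf_zeroScheme hO s).1]
    rfl
  obtain ⟨g, hg, hgp⟩ := exists_iso_vectorBundle hj hP hO1 hφ hqF hqE e r i c hir hic hre hce hsplit U hU A jA hA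
  haveI := hg
  let δU : ↥U → ℤ := fun u => δP (U.ι u)
  have hδU : Cyc.DeltaCompat (U.ι ≫ p) δU δ := fun u => by
    obtain ⟨m, hm, hx⟩ := hδP (U.ι u)
    refine ⟨m, ?_, hx⟩
    show CycK0.resTr (U.ι ≫ p) u = _
    rw [CycK0.resTr_comp, resTr_pre U.ι, add_zero]
    exact hm
  have hA1 : ∀ u, δU u = δE (g u) ∧
      Cyc.pullFun p δP δ n ⇑α (U.ι u) = Cyc.pullFun A.π δE δ n ⇑α (g u) := fun u => by
    have hb := pullFun_open g A.π hδ (show Cyc.DeltaCompat (g ≫ A.π) δU δ by rw [hgp]; exact hδU) n ⇑α u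
    refine ⟨hb.1, ?_⟩
    rw [← hb.2, ← (pullFun_open U.ι p hδP hδU n ⇑α u).2]
    congr 1
    exact hgp.symm
  obtain ⟨G, hG, -⟩ := Cy.pull (k := k) (a := ⇑α) hPs hδP (hasRelDim_of_hasPnFibres hFib) ⟨α, rfl, hα⟩
  haveI := hPs.1
  haveI : IsLocallyNoetherian (↑U : Scheme.{u}) := LocallyOfFiniteType.isLocallyNoetherian U.ι
  obtain ⟨γU, hγU⟩ := CycK0.exists_cycle_affine (fun u : ↥U => G (U.ι u)) fun {V} hV =>
    ((CycAff.finite_on G (hV.isCompact.image U.ι.continuous)).preimage U.ι.isOpenEmbedding.injective.injOn).subset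
      fun d hd => ⟨⟨d, hd.1, rfl⟩, hd.2⟩
  have hs : ∀ y, ∃ x ∈ U, p x = y := fun y => by
    obtain ⟨σ, hσ⟩ : ∃ σ : A.spec, A.π σ = y := by
      obtain ⟨ψ, hψ, -⟩ := hA (RelSpec.QCAlg.unit X) 0
      have hid : RelSpec.QCAlg.specMap ψ ≫ A.π = (RelSpec.QCAlg.unit X).π := RelSpec.QCAlg.specMap_π ψ
      obtain ⟨V', hV', hyV', -⟩ := exists_isAffineOpen_mem_and_subset (x := y) (U := (⊤ : X.Opens)) trivial
      haveI : IsIso ((RelSpec.QCAlg.unit X).str.app (op V')) :=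
        inferInstanceAs (IsIso (𝟙 (X.presheaf.obj (op V'))))
      obtain ⟨z, hz⟩ := (Spec.map ((RelSpec.QCAlg.unit X).str.app (op V'))).homeomorph.surjective
        (hV'.primeIdealOf ⟨y, hyV'⟩)
      obtain ⟨w, hw⟩ : ∃ w, (RelSpec.QCAlg.unit X).π w = y := by
        refine ⟨(RelSpec.QCAlg.unit X).ι V' hV' z, ?_⟩
        rw [← Scheme.Hom.comp_apply, (RelSpec.QCAlg.unit X).ι_π V' hV', Scheme.Hom.comp_apply]
        exact (congrArg _ hz).trans (hV'.fromSpec_primeIdealOf ⟨y, hyV'⟩)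
      exact ⟨RelSpec.QCAlg.specMap ψ w, by rw [← Scheme.Hom.comp_apply, hid]; exact hw⟩
    obtain ⟨u, hu⟩ := g.homeomorph.surjective σ
    refine ⟨U.ι u, u.2, ?_⟩
    rw [← Scheme.Hom.comp_apply, ← hgp, Scheme.Hom.comp_apply, ← hσ, ← hu]
    rfl
  refine ratEquivZero_of_compl hX hPs hδP hFib hO s U hU hs α hα γU (fun u => by rw [hγU, hG]) ?_
  refine ratEquivZero_of_iso (inv g) (δW := δE) (fun x => ?_) h0 fun x => ?_
  · rw [show δP (U.ι ((inv g) x)) = δU ((inv g) x) from rfl, (hA1 _).1, ← Scheme.Hom.comp_apply, IsIso.inv_hom_id]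
    rfl
  · rw [hγU, hG]
    show Cyc.pullFun p δP δ n ⇑α (U.ι ((inv g) x)) = γ x
    rw [(hA1 _).2, ← Scheme.Hom.comp_apply, IsIso.inv_hom_id, hγ]
    rfl

/-- Homotopy invariance. -/
theorem ratEquivZero_of_vectorBundle {δ : X → ℤ} (hX : Cyc.IsSetup X δ) {E : X.Modules} (hq : Coh.IsQCoh E) {r : ℕ}
    (hr : FlatMod.IsFinLocFreeOfRank r E) (A : RelSpec.QCAlg X) (jA : E ⟶ A.toModule) (hA : RelSpec.IsSymAlg E A jA)
    (δE : A.spec → ℤ) (hδ : Cyc.DeltaCompat A.π δE δ) {k : ℤ} (α : AlgebraicCycle X ℤ) (hα : α ∈ Cyc.Zk X δ k)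
    (γ : AlgebraicCycle A.spec ℤ) (hγ : ⇑γ = Cyc.pullFun A.π δE δ r ⇑α)
    (h0 : Cyc.RatEquivZero δE (k + r) γ) : Cyc.RatEquivZero δ k α := by
  have hqF : Coh.IsQCoh (E ⊞ Coh.structureModule X) := CohQC.isQCoh_biprod hq (QC.isQCoh_unit X)
  refine ratEquivZero_of_split hX hqF hq (isFinLocFreeOfRank_biprod_unit hr hqF)
    ((biprod.inr : Coh.structureModule X ⟶ E ⊞ Coh.structureModule X).app ⊤
      (show Γ(Coh.structureModule X, ⊤) from (1 : Γ(X, ⊤)))) biprod.fst biprod.inl biprod.snd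
    (fun V m => RegKos.app_fst_inl m) (fun V m => RegKos.app_snd_inl m) (RegKos.app_fst_inr _)
    (RegKos.app_snd_inr _) (fun V m => ?_) A jA hA δE hδ α hα γ hγ h0
  refine (RegKos.app_sum_parts m).symm.trans (congrArg _ ?_)
  refine Eq.trans ?_ (congrArg (_ • ·) (QC.app_res (biprod.inr : Coh.structureModule X ⟶ E ⊞ Coh.structureModule X) le_top _).symm)
  rw [← TMul.app_smul]
  refine congrArg _ ?_
  have h1 : ∀ a : Γ(X, V), a = a * QC.resO X (le_top : V ≤ ⊤) (1 : Γ(X, ⊤)) := fun a => by rw [map_one, mul_one]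
  exact h1 (show Γ(X, V) from (biprod.snd : E ⊞ Coh.structureModule X ⟶ Coh.structureModule X).app V m)

end Groth.Agent.CycPB
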