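import Groth.Agent.CycPB.Pre
import Groth.Agent.PBundle.FrameTools
import Groth.Agent.TMul.Assoc
import Groth.Agent.TMul.Ample
import Groth.Agent.SymAlg.InvDual
import Groth.Agent.CycDim.PullSec

/-!
The projective bundle of a quotient by an invertible submodule is a zero scheme.
-/

set_option autoImplicit false
set_option linter.unusedSectionVars false
set_option linter.style.haveILetI false
set_option backward.isDefEq.respectTransparency false
set_option backward.isDefEq.respectTransparency.types false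

universe u

open CategoryTheory CategoryTheory.Limits AlgebraicGeometry TopologicalSpace Opposite
open Groth.Agent.QC (res resO)
open Groth.Agent.PBundle (sec' bc)

noncomputable section

namespace Groth.Agent.CycPB

variable {X P : Scheme.{u}} {E F L : X.Modules} {p : P ⟶ X} {O : P.Modules}

set_option maxHeartbeats 1000000 in
/-- The projective bundle of the quotient, inside the projective bundle, is the zero scheme of a section of `O ⊗ L⁻¹`. -/
theorem exists_subBundle {q : (Scheme.Modules.pullback p).obj E ⟶ O} (hP : KRR.IsProjBundle p E O q)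
    (hL : PicF.IsInvertible L) (a : L ⟶ E) (b : E ⟶ F) (hab : a ≫ b = 0)
    (hex : (ShortComplex.mk a b hab).ShortExact) :
    ∃ (Z : Scheme.{u}) (ι : Z ⟶ P) (_ : IsClosedImmersion ι) (N : P.Modules) (_ : PicF.IsInvertible N)
      (s : Γ(N, (⊤ : P.Opens))), Cyc.IsZeroSchemeOf ι N s ∧
      (∃ qZ : (Scheme.Modules.pullback (ι ≫ p)).obj F ⟶ (Scheme.Modules.pullback ι).obj O,
        KRR.IsProjBundle (ι ≫ p) F ((Scheme.Modules.pullback ι).obj O) qZ) ∧
      Nonempty (CohB1.tensorMod N ((Scheme.Modules.pullback p).obj L) ≅ O) := by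
  classical
  have hO := PBundle.isInvertible hP
  let L' := (Scheme.Modules.pullback p).obj L
  have hL' : PicF.IsInvertible L' := PicLoc.isInvertible_pullback p hL
  obtain ⟨M, hM, ⟨θ⟩⟩ := SymAlg.exists_inverse hL'
  let σ : L' ⟶ O := (Scheme.Modules.pullback p).map a ≫ q
  let N := CohB1.tensorMod O M
  have hN : PicF.IsInvertible N := TMul.isInvertible_tensorMod hO hM
  have hσM : ∃ φ : CohB1.tensorMod L' M ⟶ N, ∀ (V : P.Opens) (m : Γ(L', V)) (n : Γ(M, V)),
      φ.app V (TMul.tm m n) = TMul.tm (σ.app V m) n := by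
    let B : ∀ V : P.Opens, Γ(L', V) →ₗ[Γ(P, V)] Γ(M, V) →ₗ[Γ(P, V)] Γ(N, V) := fun V =>
      LinearMap.mk₂ Γ(P, V) (fun m n => TMul.tm (σ.app V m) n)
        (fun m m' n => by rw [map_add, TMul.tm_add])
        (fun r m n => by rw [TMul.app_smul, TMul.smul_tm])
        (fun m n n' => TMul.add_tm _ _ _) (fun r m n => TMul.tm_smul _ _ _)
    exact ⟨TMul.lift B fun {V U} h m n => by
      show res N h (TMul.tm (σ.app U m) n) = TMul.tm (σ.app V (res L' h m)) (res M h n)
      rw [TMul.res_tm, QC.app_res], fun V m n => TMul.lift_tm B _ m n⟩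
  obtain ⟨φ, hφ⟩ := hσM
  let one : Γ(Coh.structureModule P, (⊤ : P.Opens)) := (show Γ(Coh.structureModule P, ⊤) from (1 : Γ(P, ⊤)))
  let u : Γ(CohB1.tensorMod L' M, (⊤ : P.Opens)) := θ.inv.app ⊤ one
  let s : Γ(N, (⊤ : P.Opens)) := φ.app ⊤ u
  let I := PicF2.zeroScheme N (TMul.homOf s)
  let ι := I.subschemeι
  -- the values
  let sv : ∀ (U : X.Opens), Γ(L, U) → Γ(O, p ⁻¹ᵁ U) := fun U ℓ => sec' p q U (a.app U ℓ)
  have hsv : ∀ (U : X.Opens) (ℓ : Γ(L, U)), sv U ℓ = σ.app (p ⁻¹ᵁ U) (OmegaSh.pullSect p L U ℓ) := fun U ℓ =>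
    (PBundle.sec'_map p a q U ℓ).symm
  -- local equations
  have loc : ∀ x : P, ∃ (V : P.affineOpens) (U : X.Opens) (hVU : V.1 ≤ p ⁻¹ᵁ U) (ℓ : Γ(L, U)) (g : Γ(O, V.1))
      (c : Γ(P, V.1)), x ∈ V.1 ∧ TMul.IsGen ℓ ∧ TMul.IsGen g ∧ c • g = res O hVU (sv U ℓ) ∧
        I.ideal V = Ideal.span {c} := fun x => by
    obtain ⟨U, ℓ, hxU, hℓ⟩ := TMul.exists_isGen hL (p x)
    obtain ⟨A, g₀, hxA, hg₀⟩ := TMul.exists_isGen hO x
    obtain ⟨B, f₀, hxB, hf₀⟩ := TMul.exists_isGen hM x
    obtain ⟨V, hV, hxV, hVle⟩ :=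
      exists_isAffineOpen_mem_and_subset (show x ∈ A ⊓ B ⊓ p ⁻¹ᵁ U from ⟨⟨hxA, hxB⟩, hxU⟩)
    have hVA : V ≤ A := fun y hy => (hVle hy).1.1
    have hVB : V ≤ B := fun y hy => (hVle hy).1.2
    have hVU : V ≤ p ⁻¹ᵁ U := fun y hy => (hVle hy).2
    let e : Γ(L', V) := res L' hVU (OmegaSh.pullSect p L U ℓ)
    have he : TMul.IsGen e := (CycSec.isGen_pe p hℓ).res hVU
    let g : Γ(O, V) := res O hVA g₀
    have hg : TMul.IsGen g := hg₀.res hVA
    let f : Γ(M, V) := res M hVB f₀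
    have hf : TMul.IsGen f := hf₀.res hVB
    obtain ⟨c, hc⟩ := (hg V le_rfl).2 (res O hVU (sv U ℓ))
    rw [QC.res_self] at hc
    obtain ⟨w, hw⟩ := (TMul.isGen_tm he hf V le_rfl).2 (res _ (le_top : V ≤ ⊤) u)
    rw [QC.res_self] at hw
    have hwu : IsUnit w := by
      let one' : Γ(Coh.structureModule P, V) := (show Γ(Coh.structureModule P, V) from (1 : Γ(P, V)))
      let z : Γ(P, V) := θ.hom.app V (TMul.tm e f)
      refine IsUnit.of_mul_eq_one z ?_
      have h1 : θ.hom.app V (res _ (le_top : V ≤ ⊤) u) = res _ le_top (θ.hom.app ⊤ u) := (QC.app_res θ.hom le_top u).symm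
      have h2 : θ.hom.app ⊤ u = one := congr($(θ.inv_hom_id).app ⊤ one)
      rw [← hw, TMul.app_smul, h2] at h1
      exact h1.trans (map_one (resO P (le_top : V ≤ ⊤)))
    have hes : e = res L' hVU (OmegaSh.pullSect p L U ℓ) := rfl
    have hval : res N (le_top : V ≤ ⊤) s = (w * c) • TMul.tm g f := by
      show res N le_top (φ.app ⊤ u) = _
      rw [QC.app_res, ← hw, TMul.app_smul, hφ, hes, ← QC.app_res, ← hsv, ← hc, TMul.smul_tm, smul_smul]
    refine ⟨⟨V, hV⟩, U, hVU, ℓ, g, c, hxV, hℓ, hg, hc, ?_⟩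
    rw [ZeroSch.ideal_zeroScheme_eq_span _ hN ⟨V, hV⟩ (TMul.isGen_tm hg hf) ((TMul.val_homOf s V).trans hval),
      Ideal.span_singleton_mul_left_unit hwu]
  have sv_res : ∀ {U W : X.Opens} (h : W ≤ U) (r : Γ(X, W)) (ℓ : Γ(L, U)),
      sv W (r • res L h ℓ) = p.app W r • res O (p.preimage_mono h) (sv U ℓ) := fun {U W} h r ℓ => by
    show q.app _ (OmegaSh.pullSect p E W (a.app W (r • res L h ℓ))) = _
    rw [TMul.app_smul, ← QC.app_res, PBundle.pullSect_smul, TMul.app_smul, PBundle.pullSect_res, ← QC.app_res]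
    rfl
  -- vanishing on the zero scheme
  have kill : ∀ (U : X.Opens) (ℓ : Γ(L, U)), OmegaSh.pullSect ι O (p ⁻¹ᵁ U) (sv U ℓ) = 0 := fun U ℓ => by
    refine QC.section_eq_of_locally fun z hz => ?_
    obtain ⟨V, U', hVU', ℓ', g, c, hxV, hℓ', hg, hc, hI⟩ := loc (ι z)
    obtain ⟨r, hr⟩ := (hℓ' (U ⊓ U') inf_le_right).2 (res L inf_le_left ℓ)
    let W : P.Opens := V.1 ⊓ p ⁻¹ᵁ U
    have hWV : W ≤ V.1 := inf_le_left
    have hWU : W ≤ p ⁻¹ᵁ (U ⊓ U') := fun y hy => ⟨hy.2, hVU' hy.1⟩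
    refine ⟨ι ⁻¹ᵁ W, ι.preimage_mono inf_le_right, ⟨hxV, hz⟩, ?_⟩
    have hι : (ι.app V.1).hom c = 0 := by
      have h1 : c ∈ I.ideal V := hI ▸ Ideal.mem_span_singleton_self c
      rwa [← I.ker_subschemeι, Scheme.Hom.ker_apply, RingHom.mem_ker] at h1
    have h2 : res O (inf_le_right : W ≤ p ⁻¹ᵁ U) (sv U ℓ) =
        resO P hWU (p.app (U ⊓ U') r) • resO P hWV c • res O hWV g := by
      have e1 : res O (p.preimage_mono (inf_le_left : U ⊓ U' ≤ U)) (sv U ℓ) = sv (U ⊓ U') (res L inf_le_left ℓ) := by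
        have := sv_res (inf_le_left : U ⊓ U' ≤ U) 1 ℓ
        rw [one_smul, map_one, one_smul] at this
        exact this.symm
      rw [← QC.res_res O hWU (p.preimage_mono (inf_le_left : U ⊓ U' ≤ U)), e1, ← hr, sv_res, QC.res_smul, QC.res_res,
        ← QC.res_smul O hWV c g, hc, QC.res_res]
    rw [← PBundle.pullSect_res ι O (inf_le_right : W ≤ p ⁻¹ᵁ U), h2, PBundle.pullSect_smul, PBundle.pullSect_smul]
    have h3 : (ι.app W).hom (resO P hWV c) = 0 := by
      have := congr($(ι.naturality (homOfLE hWV).op) c)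
      refine this.trans ?_
      exact (congrArg _ hι).trans (map_zero (I.subscheme.presheaf.map _).hom)
    rw [h3, zero_smul, smul_zero]
    exact (map_zero (((Scheme.Modules.pullback ι).obj O).presheaf.map _).hom).symm
  -- factorisation
  have fac : ∀ {T : Scheme.{u}} (h : T ⟶ P),
      (∀ (U : X.Opens) (ℓ : Γ(L, U)), OmegaSh.pullSect h O (p ⁻¹ᵁ U) (sv U ℓ) = 0) →
        ∃ h' : T ⟶ I.subscheme, h' ≫ ι = h := fun {T} h hh => by
    choose V U hVU ℓ g c hxV hℓ hg hc hI using loc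
    have hker : ι.ker ≤ h.ker := by
      rw [Scheme.IdealSheafData.ker_subschemeι]
      refine (Scheme.IdealSheafData.le_ofIdeals_iff (I := I)).2 fun U₁ a' ha' => ?_
      rw [RingHom.mem_ker]
      refine TopCat.Sheaf.eq_of_locally_eq' T.sheaf (fun z : {x // x ∈ h ⁻¹ᵁ U₁.1} => h ⁻¹ᵁ (U₁.1 ⊓ (V (h z.1)).1))
        (h ⁻¹ᵁ U₁.1) (fun z => homOfLE (h.preimage_mono inf_le_left))
        (fun y hy => Opens.mem_iSup.2 ⟨⟨y, hy⟩, hy, hxV _⟩) _ _ fun z => ?_
      rw [map_zero]
      refine TopCat.Presheaf.section_ext T.sheaf _ _ _ fun y hy => ?_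
      rw [TopCat.Presheaf.germ_res_apply, map_zero]
      let x := h z.1
      obtain ⟨Wo, hWo, hyW, hWle⟩ := exists_isAffineOpen_mem_and_subset (show h y ∈ U₁.1 ⊓ (V x).1 from hy)
      let W : P.affineOpens := ⟨Wo, hWo⟩
      have hWV : W.1 ≤ (V x).1 := fun v hv => (hWle hv).2
      have hWU : W.1 ≤ U₁.1 := fun v hv => (hWle hv).1
      have hcx : (h.app (V x).1).hom (c x) = 0 := by
        have h1 : (h.app (V x).1).hom (c x) • OmegaSh.pullSect h O (V x).1 (g x) = 0 := by
          rw [← PBundle.pullSect_smul, hc x, PBundle.pullSect_res, hh]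
          exact map_zero (((Scheme.Modules.pullback h).obj O).presheaf.map _).hom
        have hgen : TMul.IsGen (OmegaSh.pullSect h O (V x).1 (g x)) := CycSec.isGen_pe h (hg x)
        refine (hgen _ le_rfl).1 ?_
        show _ • res _ le_rfl _ = (0 : Γ(T, h ⁻¹ᵁ (V x).1)) • res _ le_rfl _
        rw [QC.res_self, h1, zero_smul]
      have hmem : resO P hWU a' ∈ Ideal.span {resO P hWV (c x)} := by
        have h1 := I.ideal_le_comap_ideal (show W ≤ U₁ from hWU) ha'
        rw [Ideal.mem_comap, ← I.map_ideal (show W ≤ V x from hWV), hI x, Ideal.map_span, Set.image_singleton] at h1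
        exact h1
      obtain ⟨r, hr⟩ := Ideal.mem_span_singleton'.1 hmem
      have hW0 : (h.app W.1).hom (resO P hWU a') = 0 := by
        rw [← hr, map_mul]
        have e1 := congr($(h.naturality (homOfLE hWV).op) (c x))
        rw [show (h.app W.1).hom (resO P hWV (c x)) = 0 from e1.trans (by
          show (T.presheaf.map _) ((h.app (V x).1).hom (c x)) = 0
          rw [hcx, map_zero]), mul_zero]
      have e2 := congr($(h.naturality (homOfLE hWU).op) a')
      have e3 : (T.presheaf.map (homOfLE (h.preimage_mono hWU)).op).hom ((h.app U₁.1).hom a') = 0 := e2.symm.trans hW0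
      exact (TopCat.Presheaf.germ_res_apply T.presheaf (homOfLE (h.preimage_mono hWU)) y hyW _).symm.trans
        ((congrArg _ e3).trans (map_zero _))
    exact ⟨IsClosedImmersion.lift ι h hker, IsClosedImmersion.lift_fac _ _ _⟩
  -- the quotient
  haveI := hP.epi
  let πZ : I.subscheme ⟶ X := ι ≫ p
  let O' := (Scheme.Modules.pullback ι).obj O
  let q0 : (Scheme.Modules.pullback πZ).obj E ⟶ O' := bc q ι rfl (𝟙 _)
  have hq0 : (Scheme.Modules.pullback πZ).map a ≫ q0 = 0 := PBundle.ext_sec' _ fun U ℓ => by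
    rw [PBundle.sec'_map, PBundle.sec'_bc]
    exact kill U ℓ
  haveI : PreservesColimits (Scheme.Modules.pullback πZ) :=
    (Scheme.Modules.pullbackPushforwardAdjunction πZ).leftAdjoint_preservesColimits
  haveI : Epi b := hex.epi_g
  obtain ⟨qZ, hqZ⟩ : ∃ qZ : (Scheme.Modules.pullback πZ).obj F ⟶ O', (Scheme.Modules.pullback πZ).map b ≫ qZ = q0 := by
    have hc := (CokernelCofork.mapIsColimit _ hex.gIsCokernel (Scheme.Modules.pullback πZ))
    obtain ⟨l, hl⟩ := CokernelCofork.IsColimit.desc' hc q0 hq0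
    exact ⟨l, hl⟩
  haveI : Epi q0 := by
    show Epi (bc q ι rfl (𝟙 O'))
    unfold PBundle.bc
    infer_instance
  haveI : Epi qZ := epi_of_epi_fac hqZ
  -- comparison of quotients
  have key : ∀ {T : Scheme.{u}} {g : T ⟶ X} (h : T ⟶ I.subscheme) (hg : h ≫ πZ = g) {Lt : T.Modules}
      (e : (Scheme.Modules.pullback h).obj O' ⟶ Lt),
      (Scheme.Modules.pullback g).map b ≫ bc qZ h hg e = bc q0 h hg e := fun {T g} h hg {Lt} e => by
    subst hg
    refine PBundle.ext_sec' _ fun U t => ?_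
    rw [PBundle.sec'_map, PBundle.sec'_bc, PBundle.sec'_bc]
    refine congrArg (fun v => e.app _ (OmegaSh.pullSect h O' _ v)) ?_
    rw [← PBundle.sec'_map, hqZ]
  have hbc : ∀ {T : Scheme.{u}} {g : T ⟶ X} (h : T ⟶ I.subscheme) (hg : h ≫ πZ = g) {Lt : T.Modules}
      (e : (Scheme.Modules.pullback h).obj O' ⟶ Lt),
      bc q0 h hg e = bc q (h ≫ ι) (by rw [Category.assoc]; exact hg)
        ((Scheme.Modules.pullbackComp h ι).inv.app O ≫ (Scheme.Modules.pullback h).map (𝟙 _) ≫ e) :=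
    fun {T g} h hg {Lt} e => PBundle.bc_comp' q ι rfl h hg (𝟙 _) e
  refine ⟨I.subscheme, ι, inferInstance, N, hN, s, isZeroSchemeOf_zeroScheme hN s, ⟨qZ, ?_⟩, ⟨?_⟩⟩
  · refine ⟨CurveRR.isFinLocFreeOfRank_one (PicLoc.isInvertible_pullback ι hO), inferInstance, ?_⟩
    intro T g Lt hLt t ht
    haveI := ht
    haveI : Epi ((Scheme.Modules.pullback g).map b) := by
      haveI : PreservesColimits (Scheme.Modules.pullback g) :=
        (Scheme.Modules.pullbackPushforwardAdjunction g).leftAdjoint_preservesColimits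
      infer_instance
    let t' : (Scheme.Modules.pullback g).obj E ⟶ Lt := (Scheme.Modules.pullback g).map b ≫ t
    haveI : Epi t' := epi_comp _ _
    obtain ⟨h, hg, e, he⟩ := PBundle.exists_hom hP g hLt t'
    obtain ⟨h', rfl⟩ := fac h fun U ℓ => by
      subst hg
      have h1 : e.hom.app _ (OmegaSh.pullSect h O (p ⁻¹ᵁ U) (sv U ℓ)) = 0 := by
        refine (PBundle.sec'_bc q h e.hom U (a.app U ℓ)).symm.trans ?_
        rw [he, PBundle.sec'_map, show b.app U (a.app U ℓ) = 0 from congr($(hab).app U ℓ)]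
        show t.app _ (((Scheme.Modules.pullbackPushforwardAdjunction (h ≫ p)).unit.app F).app U 0) = 0
        rw [map_zero]
        exact map_zero (t.app _).hom
      refine Eq.trans ?_ ((congrArg (e.inv.app _) h1).trans (map_zero (e.inv.app _).hom))
      exact congr($(e.hom_inv_id).app (h ⁻¹ᵁ (p ⁻¹ᵁ U)) _).symm
    have hg' : h' ≫ πZ = g := by rw [← hg, Category.assoc]
    let e' : (Scheme.Modules.pullback h').obj O' ≅ Lt := (Scheme.Modules.pullbackComp h' ι).app O ≪≫ e
    have hcomp : ∀ (k : T ⟶ I.subscheme) {f : (Scheme.Modules.pullback k).obj O' ⟶ Lt},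
        (Scheme.Modules.pullback k).map (𝟙 _) ≫ f = f := fun k {f} => by
      rw [CategoryTheory.Functor.map_id, Category.id_comp]
    have he' : bc qZ h' hg' e'.hom = t := by
      refine (cancel_epi ((Scheme.Modules.pullback g).map b)).1 ?_
      rw [key, hbc]
      refine Eq.trans ?_ he
      congr 1
      rw [hcomp]
      exact (Scheme.Modules.pullbackComp h' ι).inv_hom_id_app_assoc O e.hom
    refine ⟨h', ⟨hg', e', he'⟩, fun k ⟨hk, f, hf⟩ => ?_⟩
    refine (cancel_mono ι).1 (PBundle.hom_unique hP hLt t' (by rw [Category.assoc]; exact hk) hg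
      (((Scheme.Modules.pullbackComp k ι).app O).symm ≪≫ f) e ?_ he)
    show _ = (Scheme.Modules.pullback g).map b ≫ t
    rw [← show bc qZ k hk f.hom = t from hf, key, hbc]
    congr 1
    rw [hcomp]
    rfl
  · exact TMul.assocIso O M L' ≪≫ PicGrp.tensorModIso (Iso.refl O) (TMul.commIso M L' ≪≫ θ) ≪≫
      SecTwist.unitorR O

end Groth.Agent.CycPB
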