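import Groth.Agent.CycPB.HomInv
import Groth.Agent.CycPB.GysFibre
import Groth.Agent.CycDim.AffineSurj
import Groth.Agent.CMChart.Scheme
import Groth.Agent.S1918
import Groth.Agent.TMul.AmpleBasis

/-!
Principal divisors which are affine-space bundles over the base push all classes to zero.
-/

set_option autoImplicit false
set_option linter.unusedSectionVars false
set_option linter.style.haveILetI false
set_option backward.isDefEq.respectTransparency false
set_option backward.isDefEq.respectTransparency.types false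

universe u

open CategoryTheory CategoryTheory.Limits AlgebraicGeometry TopologicalSpace Opposite
open Groth.Agent.QC (res resO)
open Groth.Agent.WeakAssLib (mgerm)
open Groth.Agent.CycAff (LocAff)

noncomputable section

namespace Groth.Agent.CycPB

variable {X E D W : Scheme.{u}}

/-- A chart of affine space over an open. -/
def AffChart (f : W ⟶ X) (U : X.Opens) (n : ℕ) : Prop :=
  ∃ g : AffineSpace (ULift.{u} (Fin n)) (↑U : Scheme.{u}) ⟶ W,
    IsPullback g (AffineSpace (ULift.{u} (Fin n)) (↑U : Scheme.{u}) ↘ (↑U : Scheme.{u})) f U.ι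

theorem AffChart.mono {f : W ⟶ X} {U V : X.Opens} {n : ℕ} (h : AffChart f U n) (hVU : V ≤ U) : AffChart f V n := by
  obtain ⟨g, hg⟩ := h
  have := (AffineSpace.isPullback_map (n := ULift.{u} (Fin n)) (X.homOfLE hVU)).paste_horiz hg
  rw [Scheme.homOfLE_ι] at this
  exact ⟨_, this⟩

theorem locAff_of_charts {f : W ⟶ X} {n : ℕ} (h : ∀ y : X, ∃ U : X.Opens, y ∈ U ∧ AffChart f U n) :
    LocAff f n := fun y => by
  obtain ⟨U, hy, g, hg⟩ := h y
  exact ⟨U, hy, (isPullback_morphismRestrict f U).flip.isoIsPullback _ _ hg,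
    IsPullback.isoIsPullback_hom_snd _ _ _ _⟩

/-- A chart of a restricted morphism. -/
theorem AffChart.restrict {f : W ⟶ X} {U : X.Opens} {V : (↑U : Scheme.{u}).Opens} {n : ℕ}
    (h : AffChart f (U.ι ''ᵁ V) n) : AffChart (f ∣_ U) V n := by
  obtain ⟨g, hg⟩ := h
  let c : (↑V : Scheme.{u}) ⟶ (↑(U.ι ''ᵁ V) : Scheme.{u}) := (U.ι.isoImage V).hom
  have h1 := (AffineSpace.isPullback_map (n := ULift.{u} (Fin n)) c).paste_horiz hg
  rw [show c ≫ (U.ι ''ᵁ V).ι = V.ι ≫ U.ι from U.ι.isoImage_hom_ι V] at h1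
  have hr := (isPullback_morphismRestrict f U).flip
  let g' := hr.lift (AffineSpace.map _ c ≫ g)
    ((AffineSpace (ULift.{u} (Fin n)) (↑V : Scheme.{u}) ↘ (↑V : Scheme.{u})) ≫ V.ι)
    (by rw [Category.assoc]; exact h1.w)
  refine ⟨g', IsPullback.of_right ?_ (hr.lift_snd _ _ _) hr⟩
  rw [hr.lift_fst]
  exact h1

theorem flat_of_locAff {f : W ⟶ X} {n : ℕ} (h : LocAff f n) : Flat f := by
  choose U hU e he using h
  refine IsZariskiLocalAtTarget.of_iSup_eq_top (P := @Flat) U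
    (top_le_iff.1 fun y _ => Opens.mem_iSup.2 ⟨y, hU y⟩) fun y => ?_
  haveI := CMChart.flat_affineSpace (Y := (↑(U y) : Scheme.{u})) (ULift.{u} (Fin n))
  rw [← he y]
  infer_instance

theorem lft_of_locAff {f : W ⟶ X} {n : ℕ} (h : LocAff f n) : LocallyOfFiniteType f := by
  choose U hU e he using h
  refine IsZariskiLocalAtTarget.of_iSup_eq_top (P := @LocallyOfFiniteType) U
    (top_le_iff.1 fun y _ => Opens.mem_iSup.2 ⟨y, hU y⟩) fun y => ?_
  rw [← he y]
  infer_instance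

theorem krullDim_fibre {f : W ⟶ X} {n : ℕ} (h : LocAff f n) (y : X) :
    IrreducibleSpace ↥(f.fiber y) ∧ topologicalKrullDim ↥(f.fiber y) = n := by
  obtain ⟨φ, hφ⟩ := CycAff.exists_fibre_iso f h y
  haveI : IrreducibleSpace ↥(Spec (CommRingCat.of (MvPolynomial (Fin n) (X.residueField y)))) :=
    inferInstanceAs (IrreducibleSpace (PrimeSpectrum (MvPolynomial (Fin n) (X.residueField y))))
  refine ⟨φ.homeomorph.surjective.irreducibleSpace φ.homeomorph.continuous, ?_⟩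
  rw [← IsHomeomorph.topologicalKrullDim_eq _ φ.homeomorph.isHomeomorph]
  show topologicalKrullDim (PrimeSpectrum (MvPolynomial (Fin n) (X.residueField y))) = _
  rw [PrimeSpectrum.topologicalKrullDim_eq_ringKrullDim, MvPolynomial.ringKrullDim_of_isNoetherianRing,
    ringKrullDim_eq_zero_of_field, zero_add]
  simp

theorem hasRelDim_of_locAff {f : W ⟶ X} {n : ℕ} (h : LocAff f n) : Cyc.HasRelDim f n := by
  intro y T hT
  obtain ⟨h1, h2⟩ := krullDim_fibre h y
  haveI := h1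
  rw [irreducibleComponents_eq_singleton, Set.mem_singleton_iff] at hT
  subst hT
  rw [← h2, IsHomeomorph.topologicalKrullDim_eq _ (Homeomorph.Set.univ _).isHomeomorph]

theorem eq_of_affChart {f : W ⟶ X} {U U' : X.Opens} {n m : ℕ} {y : X} (hy : y ∈ U) (hy' : y ∈ U')
    (h : AffChart f U n) (h' : AffChart f U' m) : n = m := by
  let V := U ⊓ U'
  have key : ∀ {l : ℕ}, AffChart f V l → LocAff (f ∣_ V) l := fun {l} hl =>
    locAff_of_charts fun z => ⟨⊤, trivial,
      AffChart.restrict (by rwa [Scheme.Hom.image_top_eq_opensRange, Scheme.Opens.opensRange_ι])⟩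
  have h1 := (krullDim_fibre (key (h.mono inf_le_left)) ⟨y, hy, hy'⟩).2
  have h2 := (krullDim_fibre (key (h'.mono inf_le_right)) ⟨y, hy, hy'⟩).2
  exact_mod_cast h1.symm.trans h2

lemma pushF_closed (i : D ⟶ E) [IsClosedImmersion i] (δE : E → ℤ) (a : D → ℤ) (d : D) :
    pushF i (fun d => δE (i d)) δE a (i d) = a d := by
  unfold pushF
  rw [show (i ⁻¹' {i d} : Set D) = {d} from Set.ext fun x =>
    ⟨fun h => i.isClosedEmbedding.injective h, fun h => congrArg i h⟩, finsum_mem_singleton,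
    S1918.mapCoeff_closed, mul_one]

lemma pushF_closed_of_notMem (i : D ⟶ E) [IsClosedImmersion i] (δD : D → ℤ) (δE : E → ℤ) (a : D → ℤ) {x : E}
    (hx : x ∉ Set.range i) : pushF i δD δE a x = 0 :=
  finsum_mem_of_eqOn_zero fun w hw => absurd ⟨w, hw⟩ hx

/-- The germ of a function as a multiple of the constant section. -/
lemma mgerm_fun (t : Γ(E, (⊤ : E.Opens))) (x : E) :
    mgerm (Coh.structureModule E) (show x ∈ (⊤ : E.Opens) from trivial) (show Γ(Coh.structureModule E, ⊤) from t) =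
      (E.presheaf.germ ⊤ x trivial).hom t • mgerm (Coh.structureModule E) (show x ∈ (⊤ : E.Opens) from trivial)
        (show Γ(Coh.structureModule E, ⊤) from (1 : Γ(E, ⊤))) := by
  rw [← WeakAssLib.mgerm_smul (Coh.structureModule E) (show x ∈ (⊤ : E.Opens) from trivial)]
  exact congrArg _ (mul_one t).symm

set_option maxHeartbeats 1000000 in
/-- Constant rank: the push forward from a principal divisor which is a bundle of affine spaces is zero. -/
theorem rz_pushF_trivDiv {δ : X → ℤ} (hX : Cyc.IsSetup X δ) {δE : E → ℤ} (hEs : Cyc.IsSetup E δE) (p : E ⟶ X) {r : ℕ}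
    (hp : LocAff p (r + 1)) (hδE : Cyc.DeltaCompat p δE δ) (i : D ⟶ E) [IsClosedImmersion i]
    (hip : LocAff (i ≫ p) r) (t : Γ(E, (⊤ : E.Opens)))
    (ht1 : ∀ x, x ∈ Set.range i ↔ ¬ IsUnit ((E.presheaf.germ ⊤ x trivial).hom t))
    (ht2 : ∀ d, RingHom.ker (i.stalkMap d).hom = Ideal.span {(E.presheaf.germ ⊤ (i d) trivial).hom t})
    (ht3 : ∀ x, ∀ c, (E.presheaf.germ ⊤ x trivial).hom t * c = 0 → c = 0)
    {k : ℤ} {a : D → ℤ} (ha : Cy (fun d => δE (i d)) k a) :
    RZ δE k (pushF i (fun d => δE (i d)) δE a) := by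
  haveI := hEs.1
  haveI := hX.1
  haveI : Flat p := flat_of_locAff hp
  haveI : LocallyOfFiniteType p := lft_of_locAff hp
  haveI : Flat (i ≫ p) := flat_of_locAff hip
  haveI : LocallyOfFiniteType (i ≫ p) := lft_of_locAff hip
  haveI : IsLocallyNoetherian D := LocallyOfFiniteType.isLocallyNoetherian i
  have hδi : Cyc.DeltaCompat i (fun d => δE (i d)) δE := CycPush.deltaCompat_preimmersion i δE
  have hDs : Cyc.IsSetup D (fun d => δE (i d)) := ⟨inferInstance,
    (Catenary.universallyCatenary_iff D).1 fun T g hg => by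
      haveI := hg
      exact (Catenary.universallyCatenary_iff E).2 hEs.2.1 T (g ≫ i) inferInstance,
    S9684.result i δE hEs _ hδi⟩
  obtain ⟨A, rfl, hA⟩ := ha
  have hδD : Cyc.DeltaCompat (i ≫ p) (fun d => δE (i d)) δ := CycK0.deltaCompat_closed_comp i p hδE
  obtain ⟨β, β', hβ, hβ', hrat⟩ := CycAff.exists_pull (i ≫ p) hip hDs.2.2 hX.2.2 hδD (k - r) A
    (by rwa [sub_add_cancel])
  rw [sub_add_cancel] at hrat
  have hβ'k : β' ∈ Cyc.Zk D (fun d => δE (i d)) k := fun x hx => by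
    rw [hβ']
    unfold Cyc.pullFun
    split
    · next h => rw [hβ ((i ≫ p) x) (fun e => hx (by omega)), zero_mul]
    · rfl
  let L := Coh.structureModule E
  have hL : PicF.IsInvertible L := TMul.isInvertible_structureModule
  let one : Γ(L, (⊤ : E.Opens)) := (show Γ(Coh.structureModule E, ⊤) from (1 : Γ(E, ⊤)))
  have hone : TMul.IsGen one := TMul.isGen_one ⊤
  let s : Γ(L, (⊤ : E.Opens)) := (show Γ(Coh.structureModule E, ⊤) from t)
  have hs : ∀ x : E, mgerm L (show x ∈ (⊤ : E.Opens) from trivial) s =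
      (E.presheaf.germ ⊤ x trivial).hom t • mgerm L (show x ∈ (⊤ : E.Opens) from trivial) one := mgerm_fun t
  have hD : Cyc.IsZeroSchemeOf i L s := by
    refine ⟨Set.ext fun x => ?_, fun d => ⟨mgerm L (show i d ∈ (⊤ : E.Opens) from trivial) one, _, ?_, hs _, ht2 d⟩⟩
    · rw [ht1]
      show ¬ _ ↔ Submodule.Quotient.mk (mgerm L (show x ∈ (⊤ : E.Opens) from trivial) s) = (0 : Cyc.secFibre L x)
      rw [hs]
      refine ⟨fun hu => (Submodule.Quotient.mk_eq_zero _).2
        (Submodule.smul_mem_smul ((IsLocalRing.mem_maximalIdeal _).2 hu) Submodule.mem_top), fun h0 hu => ?_⟩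
      exact C1Cap.mk_gen_ne_zero hone (show x ∈ (⊤ : E.Opens) from trivial) hu h0
    · refine Submodule.eq_top_iff'.2 fun z => Submodule.mem_span_singleton.2 ?_
      exact (RefDiv.bijective_germ_of_isGen hone (show i d ∈ (⊤ : E.Opens) from trivial)).2 z
  have hreg : ∀ x : E, Function.Injective (fun c : E.presheaf.stalk x => c • (L.presheaf.germ ⊤ x trivial) s) :=
    fun x b c hbc => by
    change b • mgerm L (show x ∈ (⊤ : E.Opens) from trivial) s =
      c • mgerm L (show x ∈ (⊤ : E.Opens) from trivial) s at hbc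
    rw [hs, smul_smul, smul_smul] at hbc
    have h1 := (RefDiv.bijective_germ_of_isGen hone (show x ∈ (⊤ : E.Opens) from trivial)).1 hbc
    refine sub_eq_zero.1 (ht3 x _ ?_)
    rw [mul_sub, mul_comm, h1, mul_comm, sub_self]
  let w : (ξ : E) → Cyc.secFibre L ξ := fun ξ => Submodule.Quotient.mk (mgerm L (show ξ ∈ (⊤ : E.Opens) from trivial) one)
  have hw : ∀ ξ, w ξ ≠ 0 := fun ξ => by
    have := C1Cap.mk_gen_ne_zero hone (show ξ ∈ (⊤ : E.Opens) from trivial)
      (isUnit_one : IsUnit (1 : E.presheaf.stalk ξ))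
    rwa [one_smul] at this
  have hg0 : ∀ ξ, Cyc.gysinChoice L s w ξ ≠ 0 := fun ξ => by
    unfold Cyc.gysinChoice
    split
    · assumption
    · exact hw ξ
  obtain ⟨G, hG⟩ := CycK0.exists_cycle_affine (Cyc.pullFun p δE δ (r + 1) ⇑β) fun {V} hV =>
    CycSec.finite_pullFun_cycle p hEs.2.2 (c := (r : ℤ) + 1)
      (fun x hx => by exact_mod_cast ((CycDim.delta_le p hδE (hasRelDim_of_locAff hp) x).2).2 hx) β hV
  have hGk : G ∈ Cyc.Zk E δE (k - r + ((r + 1 : ℕ) : ℤ)) := fun x hx => by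
    rw [hG]
    unfold Cyc.pullFun
    split
    · next h => rw [hβ (p x) (fun e => hx (by push_cast; omega)), zero_mul]
    · rfl
  have hGk' : G ∈ Cyc.Zk E δE (k + 1) := by
    rw [show k + 1 = k - r + ((r + 1 : ℕ) : ℤ) by push_cast; ring]
    exact hGk
  obtain ⟨C, hC⟩ := CycK0.secFin hEs hL G _ hg0
  have hCk : C ∈ Cyc.Zk E δE k :=
    CycK0.cap_mem (fun x hx => by_contra fun h => hx (hGk' x h)) hC
  -- the constant section has no divisor
  have hw0 : ∀ ξ x, Cyc.secDivFun δE L ξ (w ξ) x = 0 := fun ξ x => by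
    unfold Cyc.secDivFun
    split
    · next h =>
      rw [C1Cap.secOrdAt_eq hone h.1 (show x ∈ (⊤ : E.Opens) from trivial) (φ := 1) (one_smul _ _).symm, map_one,
        C1Cap.ordAt_one]
    · rfl
  have hC0 : RZ δE k ⇑C := by
    have h := C1Cap.ratEquiv_cap δE hL k G hGk' (Cyc.gysinChoice L s w) w (fun ξ _ => hg0 ξ) (fun ξ _ => hw ξ)
      C 0 hC (funext fun x => ?_)
    · have := RZ.of_ratEquiv hCk (fun _ _ => rfl) h
      simpa using this
    · show (0 : ℤ) = ∑ᶠ ξ, G ξ * Cyc.secDivFun δE L ξ (w ξ) x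
      simp [hw0]
  -- off the divisor the Gysin cap vanishes
  have hoff : ∀ x, x ∉ Set.range i → C x = 0 := fun x hx => by
    rw [hC]
    refine finsum_eq_zero_of_forall_eq_zero fun ξ => ?_
    unfold Cyc.secDivFun
    split
    · next h =>
      have hu : IsUnit ((E.presheaf.germ ⊤ x trivial).hom t) := by_contra fun hu => hx ((ht1 x).2 hu)
      have hξ : ξ ∉ Set.range i := fun hξ => hx (i.isClosedEmbedding.isClosed_range.closure_subset_iff.2
        (Set.singleton_subset_iff.2 hξ) h.1.mem_closure)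
      have hsξ : mgerm L (show ξ ∈ (⊤ : E.Opens) from trivial) s = CycDim.spz h.1 ((E.presheaf.germ ⊤ x trivial).hom t) •
          mgerm L (show ξ ∈ (⊤ : E.Opens) from trivial) one := by
        have h1 := congrArg (RefStalk.msp L h.1) (hs x)
        rw [RefStalk.msp_smul, RefStalk.msp_germ L h.1 (show x ∈ (⊤ : E.Opens) from trivial) one] at h1
        exact (RefStalk.msp_germ L h.1 (show x ∈ (⊤ : E.Opens) from trivial) s).symm.trans h1
      have hgc : Cyc.gysinChoice L s w ξ = CycDim.spz h.1 ((E.presheaf.germ ⊤ x trivial).hom t) •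
          (Submodule.Quotient.mk (mgerm L (show ξ ∈ (⊤ : E.Opens) from trivial) one) : Cyc.secFibre L ξ) := by
        rw [← Submodule.Quotient.mk_smul, ← hsξ]
        unfold Cyc.gysinChoice
        exact if_pos fun h0 => hξ (by rw [hD.1]; exact h0)
      rw [C1Cap.secOrdAt_eq hone h.1 (show x ∈ (⊤ : E.Opens) from trivial) hgc, C1Cap.ordAt_unit h.1 hu,
        mul_zero]
    · rw [mul_zero]
  have h1 : RZ δE k (pushF i (fun d => δE (i d)) δE fun d => A d - β' d) :=
    (RZ.of_ratEquiv hA hβ'k hrat).push i hEs hDs hδi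
  have hfun : pushF i (fun d => δE (i d)) δE ⇑A =
      fun x => pushF i (fun d => δE (i d)) δE (fun d => A d - β' d) x + C x := funext fun x => by
    by_cases hx : x ∈ Set.range i
    · obtain ⟨d, rfl⟩ := hx
      have hg := CycK0.gysin_pullFun_eq hEs hX p r (hasRelDim_of_locAff hp) hδE hL s hreg i hD
        (hasRelDim_of_locAff hip) (k - r - 1) β (by rwa [sub_add_cancel]) w d
      have hCd : C (i d) = β' d := by
        rw [hC, hG, hg, hβ']
      rw [pushF_closed, pushF_closed, hCd]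
      ring
    · rw [pushF_closed_of_notMem i _ _ _ hx, pushF_closed_of_notMem i _ _ _ hx, hoff x hx, add_zero]
  rw [hfun]
  exact h1.add hC0

/-- The members of a family on a clopen set. -/
theorem exists_data_clopen {δ : E → ℤ} {k : ℤ} {A : AlgebraicCycle E ℤ} (h : Cyc.RatEquivZero δ k A) {S : Set E}
    (hS : IsClopen S) (hA : ∀ x, x ∉ S → A x = 0) :
    ∃ (ι : Type u) (ξ : ι → E) (f : (i : ι) → E.residueField (ξ i)),
      (∀ i, δ (ξ i) = k + 1) ∧ (∀ i, f i ≠ 0) ∧ (∀ i, ξ i ∈ S) ∧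
      (∀ x : E, ∃ U : Set E, IsOpen U ∧ x ∈ U ∧ {i | (closure {ξ i} ∩ U).Nonempty}.Finite) ∧
      ∀ x : E, A x = ∑ᶠ i, Cyc.divFun δ (ξ i) (f i) x := by
  obtain ⟨ι, ξ, f, h1, h2, h3, h4⟩ := h
  refine ⟨{i // ξ i ∈ S}, fun i => ξ i.1, fun i => f i.1, fun i => h1 _, fun i => h2 _, fun i => i.2, fun x => ?_,
    fun x => ?_⟩
  · obtain ⟨U, hU, hxU, hfin⟩ := h3 x
    refine ⟨U, hU, hxU, ?_⟩
    exact Set.Finite.of_injOn (f := Subtype.val) (fun i hi => hi) Subtype.val_injective.injOn hfin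
  · have hz : ∀ i, Cyc.divFun δ (ξ i) (f i) x ≠ 0 → (ξ i ∈ S ↔ x ∈ S) := fun i hi => by
      have hsp := (CycDeg.divFun_delta hi).1
      exact ⟨fun h => hS.1.closure_subset_iff.2 (Set.singleton_subset_iff.2 h) hsp.mem_closure,
        fun h => hsp.mem_open hS.2 h⟩
    by_cases hx : x ∈ S
    · rw [h4]
      refine Eq.trans ?_ (finsum_set_coe_eq_finsum_mem (f := fun i => Cyc.divFun δ (ξ i) (f i) x) {i | ξ i ∈ S}).symm
      rw [← finsum_mem_univ fun i => Cyc.divFun δ (ξ i) (f i) x, ← finsum_mem_inter_support _ Set.univ,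
        ← finsum_mem_inter_support _ {i | ξ i ∈ S}]
      exact finsum_mem_congr (Set.ext fun i => ⟨fun h => ⟨(hz i h.2).2 hx, h.2⟩, fun h => ⟨trivial, h.2⟩⟩) fun _ _ => rfl
    · rw [hA x hx]
      refine (finsum_eq_zero_of_forall_eq_zero fun i => ?_).symm
      by_contra hi
      exact hx ((hz i.1 hi).1 i.2)

/-- Gluing rational equivalences along a partition into clopen sets. -/
theorem ratEquivZero_of_partition {δ : E → ℤ} {k : ℤ} {A : AlgebraicCycle E ℤ} (S : ℕ → Set E)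
    (hS : ∀ n, IsClopen (S n)) (hcov : ∀ x, ∃ n, x ∈ S n) (huniq : ∀ x n m, x ∈ S n → x ∈ S m → n = m)
    (h : ∀ n, ∃ B : AlgebraicCycle E ℤ, Cyc.RatEquivZero δ k B ∧ (∀ x, x ∈ S n → B x = A x) ∧
      ∀ x, x ∉ S n → B x = 0) : Cyc.RatEquivZero δ k A := by
  choose B hB hBA hB0 using h
  choose ι ξ f h1 h2 h3 h4 h5 using fun n => exists_data_clopen (hB n) (hS n) (hB0 n)
  refine ⟨Σ n, ι n, fun i => ξ i.1 i.2, fun i => f i.1 i.2, fun i => h1 _ _, fun i => h2 _ _, fun x => ?_,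
    fun x => ?_⟩
  · obtain ⟨n, hn⟩ := hcov x
    obtain ⟨U, hU, hxU, hfin⟩ := h4 n x
    refine ⟨U ∩ S n, hU.inter (hS n).2, ⟨hxU, hn⟩, (hfin.image fun i => (⟨n, i⟩ : Σ n, ι n)).subset ?_⟩
    rintro ⟨m, i⟩ ⟨z, hz, hzU, hzS⟩
    obtain rfl : m = n := huniq z m n
      ((hS m).1.closure_subset_iff.2 (Set.singleton_subset_iff.2 (h3 m i)) hz) hzS
    exact ⟨i, ⟨z, hz, hzU⟩, rfl⟩
  · obtain ⟨n, hn⟩ := hcov x
    rw [← hBA n x hn, h5 n x]
    let emb : ι n → Σ m, ι m := fun i => ⟨n, i⟩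
    have hinj : Function.Injective emb := sigma_mk_injective
    rw [← finsum_mem_range (f := fun i : Σ m, ι m => Cyc.divFun δ (ξ i.1 i.2) (f i.1 i.2) x) hinj,
      ← finsum_mem_inter_support _ (Set.range emb), ← finsum_mem_univ fun i : Σ m, ι m =>
        Cyc.divFun δ (ξ i.1 i.2) (f i.1 i.2) x, ← finsum_mem_inter_support _ Set.univ]
    refine finsum_mem_congr (Set.ext fun i => ⟨fun h => ⟨trivial, h.2⟩, fun h => ⟨?_, h.2⟩⟩) fun _ _ => rfl
    obtain ⟨m, i⟩ := i
    have hsp := (CycDeg.divFun_delta (show Cyc.divFun δ (ξ m i) (f m i) x ≠ 0 from h.2)).1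
    obtain rfl : m = n := huniq x m n
      ((hS m).1.closure_subset_iff.2 (Set.singleton_subset_iff.2 (h3 m i)) hsp.mem_closure) hn
    exact ⟨i, rfl⟩

set_option maxHeartbeats 1000000 in
/-- The push forward from a principal divisor which is locally a bundle of affine spaces is zero. -/
theorem ratEquivZero_trivDiv {δ : X → ℤ} (hX : Cyc.IsSetup X δ) {δE : E → ℤ} (hEs : Cyc.IsSetup E δE) (p : E ⟶ X)
    (hδE : Cyc.DeltaCompat p δE δ) (i : D ⟶ E) [IsClosedImmersion i] (t : Γ(E, (⊤ : E.Opens)))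
    (hch : ∀ y, ∃ (U : X.Opens) (n : ℕ), y ∈ U ∧ AffChart (i ≫ p) U n ∧ AffChart p U (n + 1))
    (ht1 : ∀ x, x ∈ Set.range i ↔ ¬ IsUnit ((E.presheaf.germ ⊤ x trivial).hom t))
    (ht2 : ∀ d, RingHom.ker (i.stalkMap d).hom = Ideal.span {(E.presheaf.germ ⊤ (i d) trivial).hom t})
    (ht3 : ∀ x, ∀ c, (E.presheaf.germ ⊤ x trivial).hom t * c = 0 → c = 0)
    {k : ℤ} (A : AlgebraicCycle D ℤ) (hA : A ∈ Cyc.Zk D (fun d => δE (i d)) k) :
    Cyc.RatEquivZero δE k (AlgebraicCycle.map i (fun d => δE (i d)) δE A) := by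
  classical
  haveI := hEs.1
  haveI := hX.1
  let W : ℕ → X.Opens := fun n => sSup {U | AffChart (i ≫ p) U n ∧ AffChart p U (n + 1)}
  have hW : ∀ n y, y ∈ W n ↔ ∃ U : X.Opens, (AffChart (i ≫ p) U n ∧ AffChart p U (n + 1)) ∧ y ∈ U := fun n y =>
    Opens.mem_sSup
  have huniq : ∀ y n m, y ∈ W n → y ∈ W m → n = m := fun y n m hn hm => by
    obtain ⟨U, ⟨hU, -⟩, hy⟩ := (hW n y).1 hn
    obtain ⟨U', ⟨hU', -⟩, hy'⟩ := (hW m y).1 hm
    exact eq_of_affChart hy hy' hU hU'
  have hcov : ∀ y, ∃ n, y ∈ W n := fun y => by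
    obtain ⟨U, n, hy, hU⟩ := hch y
    exact ⟨n, (hW n y).2 ⟨U, hU, hy⟩⟩
  let S : ℕ → Set E := fun n => p ⁻¹' (W n : Set X)
  have hS : ∀ n, IsClopen (S n) := fun n => by
    refine ⟨isOpen_compl_iff.1 ?_, (W n).2.preimage p.continuous⟩
    have : (S n)ᶜ = ⋃ m ∈ {m | m ≠ n}, S m := Set.ext fun x => by
      simp only [Set.mem_compl_iff, Set.mem_iUnion, Set.mem_ofPred_eq, exists_prop]
      refine ⟨fun hx => ?_, fun ⟨m, hm, hxm⟩ hx => hm (huniq _ m n hxm hx)⟩
      obtain ⟨m, hm⟩ := hcov (p x)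
      exact ⟨m, fun e => hx (e ▸ hm), hm⟩
    rw [this]
    exact isOpen_biUnion fun m _ => (W m).2.preimage p.continuous
  refine ratEquivZero_of_partition S hS (fun x => hcov (p x)) (fun x => huniq (p x)) fun n => ?_
  -- the piece of rank `n`
  let U : E.Opens := p ⁻¹ᵁ W n
  let iU := i ∣_ U
  let pU := p ∣_ W n
  let δU : ↥U → ℤ := fun u => δE (U.ι u)
  haveI : IsClosedImmersion U.ι := IsClosedImmersion.of_isPreimmersion U.ι (by
    rw [Scheme.Opens.range_ι]; exact (hS n).1)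
  haveI : IsLocallyNoetherian (↑U : Scheme.{u}) := LocallyOfFiniteType.isLocallyNoetherian U.ι
  haveI : IsLocallyNoetherian (↑(W n) : Scheme.{u}) := LocallyOfFiniteType.isLocallyNoetherian (W n).ι
  let δW : ↥(W n) → ℤ := fun y => δ ((W n).ι y)
  have hWs : Cyc.IsSetup (↑(W n) : Scheme.{u}) δW := ⟨inferInstance,
    (Catenary.universallyCatenary_iff _).1 fun T g hg => by
      haveI := hg
      exact (Catenary.universallyCatenary_iff X).2 hX.2.1 T (g ≫ (W n).ι) inferInstance,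
    S9684.result (W n).ι δ hX _ (CycPush.deltaCompat_preimmersion _ δ)⟩
  have hUs : Cyc.IsSetup (↑U : Scheme.{u}) δU := ⟨inferInstance,
    (Catenary.universallyCatenary_iff _).1 fun T g hg => by
      haveI := hg
      exact (Catenary.universallyCatenary_iff E).2 hEs.2.1 T (g ≫ U.ι) inferInstance,
    S9684.result U.ι δE hEs _ (CycPush.deltaCompat_preimmersion _ δE)⟩
  have hδU : Cyc.DeltaCompat pU δU δW := fun u => by
    obtain ⟨m, hm, hx⟩ := hδE (U.ι u)
    have h1 : CycK0.resTr (U.ι ≫ p) u = CycK0.resTr (pU ≫ (W n).ι) u := by rw [morphismRestrict_ι]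
    rw [CycK0.resTr_comp, CycK0.resTr_comp, resTr_pre U.ι, resTr_pre (W n).ι, add_zero, zero_add] at h1
    refine ⟨m, h1.symm.trans hm, hx.trans ?_⟩
    show δ (p (U.ι u)) + _ = δ ((W n).ι (pU u)) + _
    rw [← Scheme.Hom.comp_apply pU, morphismRestrict_ι]
    rfl
  have hip : LocAff (iU ≫ pU) n := by
    rw [← morphismRestrict_comp]
    refine locAff_of_charts fun y => ?_
    obtain ⟨V, ⟨hV, -⟩, hy⟩ := (hW n _).1 y.2
    exact ⟨(W n).ι ⁻¹ᵁ V, hy, AffChart.restrict (hV.mono ((W n).ι.image_preimage_eq_opensRange_inf V ▸ inf_le_right))⟩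
  have hp : LocAff pU (n + 1) := locAff_of_charts fun y => by
    obtain ⟨V, ⟨-, hV⟩, hy⟩ := (hW n _).1 y.2
    exact ⟨(W n).ι ⁻¹ᵁ V, hy, AffChart.restrict (hV.mono ((W n).ι.image_preimage_eq_opensRange_inf V ▸ inf_le_right))⟩
  let tU : Γ((↑U : Scheme.{u}), ⊤) := (U.ι.app ⊤).hom t
  have hst : ∀ u, ((↑U : Scheme.{u}).presheaf.germ ⊤ u trivial).hom tU =
      (U.ι.stalkMap u).hom ((E.presheaf.germ ⊤ (U.ι u) trivial).hom t) := fun u =>
    (Scheme.Hom.germ_stalkMap_apply U.ι ⊤ u trivial t).symm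
  let e : ∀ u : ↥U, E.presheaf.stalk (U.ι u) ≃+* (↑U : Scheme.{u}).presheaf.stalk u :=
    fun u => (asIso (U.ι.stalkMap u)).commRingCatIsoToRingEquiv
  have hsq : iU ≫ U.ι = (i ⁻¹ᵁ U).ι ≫ i := morphismRestrict_ι i U
  have hsqd : ∀ d, U.ι (iU d) = i ((i ⁻¹ᵁ U).ι d) := fun d => by
    rw [← Scheme.Hom.comp_apply, hsq, Scheme.Hom.comp_apply]
  have h1 : ∀ u, u ∈ Set.range iU ↔ ¬ IsUnit (((↑U : Scheme.{u}).presheaf.germ ⊤ u trivial).hom tU) := fun u => by
    rw [hst, show IsUnit ((U.ι.stalkMap u).hom ((E.presheaf.germ ⊤ (U.ι u) trivial).hom t)) ↔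
      IsUnit ((E.presheaf.germ ⊤ (U.ι u) trivial).hom t) from MulEquiv.isUnit_map (e u), ← ht1]
    refine ⟨fun ⟨d, hd⟩ => ⟨_, (hsqd d).symm.trans (congrArg _ hd)⟩, fun ⟨d, hd⟩ => ?_⟩
    refine ⟨⟨d, show i d ∈ U by rw [hd]; exact u.2⟩, U.ι.isOpenEmbedding.injective ?_⟩
    rw [hsqd]
    exact hd
  have h2 : ∀ d, RingHom.ker (iU.stalkMap d).hom =
      Ideal.span {((↑U : Scheme.{u}).presheaf.germ ⊤ (iU d) trivial).hom tU} := fun d => by
    let v := (i ⁻¹ᵁ U).ι
    rw [hst]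
    have hc : (iU.stalkMap d).hom.comp (U.ι.stalkMap (iU d)).hom = ((iU ≫ U.ι).stalkMap d).hom := by
      rw [Scheme.Hom.stalkMap_comp]; rfl
    have hk : Ideal.comap (U.ι.stalkMap (iU d)).hom (RingHom.ker (iU.stalkMap d).hom) =
        Ideal.span {(E.presheaf.germ ⊤ (U.ι (iU d)) trivial).hom t} := by
      rw [RingHom.comap_ker, hc]
      have key : ∀ (q : (↑(i ⁻¹ᵁ U) : Scheme.{u}) ⟶ E), q = v ≫ i →
          RingHom.ker (q.stalkMap d).hom = Ideal.span {(E.presheaf.germ ⊤ (q d) trivial).hom t} := by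
        rintro q rfl
        rw [Scheme.Hom.stalkMap_comp]
        show RingHom.ker ((v.stalkMap d).hom.comp (i.stalkMap (v d)).hom) = _
        rw [RingHom.ker_comp_of_injective _ (ConcreteCategory.bijective_of_isIso (v.stalkMap d)).1]
        exact ht2 (v d)
      exact key _ hsq
    rw [← Ideal.map_comap_of_surjective _ (e (iU d)).surjective (RingHom.ker (iU.stalkMap d).hom)]
    show Ideal.map (U.ι.stalkMap (iU d)).hom (Ideal.comap (U.ι.stalkMap (iU d)).hom _) = _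
    rw [hk, Ideal.map_span, Set.image_singleton]
  have h3 : ∀ u c, ((↑U : Scheme.{u}).presheaf.germ ⊤ u trivial).hom tU * c = 0 → c = 0 := fun u c hc => by
    obtain ⟨c, rfl⟩ := (e u).surjective c
    have : (E.presheaf.germ ⊤ (U.ι u) trivial).hom t * c = 0 := (e u).injective (by
      rw [map_mul, map_zero, ← hc, hst]; rfl)
    rw [ht3 _ c this, map_zero]
  haveI : IsLocallyNoetherian D := LocallyOfFiniteType.isLocallyNoetherian i
  haveI : IsLocallyNoetherian (↑(i ⁻¹ᵁ U) : Scheme.{u}) := LocallyOfFiniteType.isLocallyNoetherian (i ⁻¹ᵁ U).ι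
  obtain ⟨AU, hAU⟩ := CycK0.exists_cycle_affine (fun d : ↥(i ⁻¹ᵁ U) => A ((i ⁻¹ᵁ U).ι d)) fun {V} hV =>
    ((CycAff.finite_on A (hV.isCompact.image (i ⁻¹ᵁ U).ι.continuous)).preimage
      (i ⁻¹ᵁ U).ι.isOpenEmbedding.injective.injOn).subset fun d hd => ⟨⟨d, hd.1, rfl⟩, hd.2⟩
  have hAUk : AU ∈ Cyc.Zk _ (fun d => δU (iU d)) k := fun d hd => by
    rw [hAU]
    refine hA _ fun e => hd ?_
    show δE (U.ι (iU d)) = k
    rw [hsqd]; exact e
  have hUrz := rz_pushF_trivDiv hWs hUs pU hp hδU iU hip tU h1 h2 h3 (⟨AU, rfl, hAUk⟩ : Cy _ k ⇑AU)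
  obtain ⟨B, hB, -, hB0⟩ := RZ.push U.ι hEs hUs (CycPush.deltaCompat_preimmersion _ δE) hUrz
  refine ⟨B, hB0, fun x hx => ?_, fun x hx => ?_⟩
  · obtain ⟨u, rfl⟩ : x ∈ Set.range U.ι := by rw [Scheme.Opens.range_ι]; exact hx
    rw [hB]
    show pushF U.ι (fun u => δE (U.ι u)) δE _ (U.ι u) = _
    rw [pushF_closed]
    by_cases hr : u ∈ Set.range iU
    · obtain ⟨d, rfl⟩ := hr
      rw [pushF_closed, hAU, hsqd, S1918.map_closed]
    · rw [pushF_closed_of_notMem iU _ _ _ hr, S1918.map_closed_of_notMem]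
      rintro ⟨d, hd⟩
      refine hr ⟨⟨d, show i d ∈ U by rw [hd]; exact u.2⟩, U.ι.isOpenEmbedding.injective ?_⟩
      rw [hsqd]
      exact hd
  · rw [hB]
    exact pushF_closed_of_notMem U.ι _ _ _ (by rw [Scheme.Opens.range_ι]; exact hx)

end Groth.Agent.CycPB
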