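import Groth.Agent.CycPB.ChernOp
import Groth.Agent.CycPB.SubBundle
import Groth.Agent.CycPB.Compl
import Groth.Agent.CycPB.HomInv
import Groth.Agent.CycPB.TrivDiv
import Groth.Agent.S6454

/-!
Chern classes in an extension by an invertible module.
-/

set_option autoImplicit false
set_option linter.unusedSectionVars false
set_option linter.style.haveILetI false
set_option backward.isDefEq.respectTransparency false
set_option backward.isDefEq.respectTransparency.types false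

universe u

open CategoryTheory CategoryTheory.Limits AlgebraicGeometry TopologicalSpace Opposite
open Groth.Agent.WeakAssLib (mgerm)
open Groth.Agent.CycSec (secPull secPull_ne_zero)

noncomputable section

namespace Groth.Agent.CycPB

variable {X P Q Z : Scheme.{u}} {δ : X → ℤ} {δP : P → ℤ} {δQ : Q → ℤ} {k : ℤ}

/-- Isomorphic modules have the same cap. -/
theorem cap_iso (hX : Cyc.IsSetup X δ) {L L' : X.Modules} (hL : PicF.IsInvertible L) (hL' : PicF.IsInvertible L')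
    (e : L ≅ L') {v : (x : X) → Cyc.secFibre L x} {v' : (x : X) → Cyc.secFibre L' x} (hv : ∀ x, v x ≠ 0)
    (hv' : ∀ x, v' x ≠ 0) {a : X → ℤ} (ha : Cy δ (k + 1) a) :
    RZ δ k fun x => Cyc.c1CapFun δ L a v x - Cyc.c1CapFun δ L' a v' x := by
  choose w hw hdiv using fun ξ => exists_secMap hL e ξ (v ξ) (hv ξ)
  have e1 : Cyc.c1CapFun δ L' a w = Cyc.c1CapFun δ L a v := funext fun x =>
    finsum_congr fun ξ => congrArg _ (hdiv ξ x)
  rw [← e1]
  exact cap_change hX hL' hw hv' ha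

/-- The cap of a tensor product. -/
theorem cap_tensor (hX : Cyc.IsSetup X δ) {L N : X.Modules} (hL : PicF.IsInvertible L) (hN : PicF.IsInvertible N)
    {v : (x : X) → Cyc.secFibre L x} {w : (x : X) → Cyc.secFibre N x}
    {z : (x : X) → Cyc.secFibre (CohB1.tensorMod L N) x} (hv : ∀ x, v x ≠ 0) (hw : ∀ x, w x ≠ 0) (hz : ∀ x, z x ≠ 0)
    {a : X → ℤ} (ha : Cy δ (k + 1) a) :
    RZ δ k fun x => Cyc.c1CapFun δ L a v x + Cyc.c1CapFun δ N a w x -
      Cyc.c1CapFun δ (CohB1.tensorMod L N) a z x := by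
  obtain ⟨A₁, h₁, k₁⟩ := ha.cap hX hL hv
  obtain ⟨A₂, h₂, k₂⟩ := ha.cap hX hN hw
  obtain ⟨A₃, h₃, k₃⟩ := ha.cap hX (TMul.isInvertible_tensorMod hL hN) hz
  obtain ⟨A, rfl, hA⟩ := ha
  have h := S6454.result X δ hX L N hL hN k A hA v hv w hw z hz A₁ A₂ A₃ h₁ h₂ h₃
  have k12 : A₁ + A₂ ∈ Cyc.Zk X δ k := fun x hx => by show A₁ x + A₂ x = 0; rw [k₁ x hx, k₂ x hx, add_zero]
  rw [← h₁, ← h₂, ← h₃]
  refine (RZ.of_ratEquiv k12 k₃ (show Cyc.RatEquiv δ k (A₁ + A₂) A₃ from h)).eq (funext fun x => ?_)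
  rfl

/-- Off the zero scheme the Gysin cap vanishes. -/
theorem gysin_off {L : X.Modules} (hL : PicF.IsInvertible L) {s : Γ(L, (⊤ : X.Opens))} (i : Z ⟶ X)
    [IsClosedImmersion i] (hD : Cyc.IsZeroSchemeOf i L s) (w : (ξ : X) → Cyc.secFibre L ξ) (a : X → ℤ) {x : X}
    (hx : x ∉ Set.range i) : Cyc.c1CapFun δ L a (Cyc.gysinChoice L s w) x = 0 := by
  refine finsum_eq_zero_of_forall_eq_zero fun ξ => ?_
  by_contra hne
  obtain ⟨hsp, hdx⟩ := CycSec.secDivFun_support (right_ne_zero_of_mul hne)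
  have hξ : ξ ∉ Set.range i := fun h => hx (hsp.mem_closed i.isClosedEmbedding.isClosed_range h)
  obtain ⟨V, g, hxV, hg, f, hf⟩ := CycK0.exists_coefficient hL s x
  refine right_ne_zero_of_mul hne ?_
  have hξV : ξ ∈ V := hsp.mem_open V.2 hxV
  have hgc : Cyc.gysinChoice L s w ξ =
      CycDim.spz hsp f • (Submodule.Quotient.mk (mgerm L hξV g) : Cyc.secFibre L ξ) := by
    have h1 := congrArg (RefStalk.msp L hsp) hf
    rw [RefStalk.msp_smul, RefStalk.msp_germ L hsp hxV g] at h1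
    rw [← Submodule.Quotient.mk_smul, ← h1, RefStalk.msp_germ L hsp (show x ∈ (⊤ : X.Opens) from trivial) s]
    unfold Cyc.gysinChoice
    exact if_pos fun h => hξ (by rw [hD.1]; exact h)
  rw [Cyc.secDivFun, dif_pos ⟨hsp, hdx⟩, C1Cap.secOrdAt_eq hg hsp hxV hgc]
  exact C1Cap.ordAt_unit hsp (CycK0.isUnit_of_notMem hD hx hxV hf)

/-- The dimension of a projective space fibre. -/
theorem krullDim_of_hasPnFibres {p : P ⟶ X} {O : P.Modules} {n : ℕ} (h : HasPnFibres p O n) (y : X) :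
    topologicalKrullDim ↥(p.fiber y) = n := by
  obtain ⟨φ, -, -⟩ := h y
  haveI := Horrocks.isIntegral_projSpace (k := X.residueField y) (n := n)
  haveI : IrreducibleSpace ↥(p.fiber y) := φ.hom.homeomorph.surjective.irreducibleSpace φ.hom.homeomorph.continuous
  have := hasRelDim_of_hasPnFibres h y Set.univ (by rw [irreducibleComponents_eq_singleton]; rfl)
  rwa [IsHomeomorph.topologicalKrullDim_eq _ (Homeomorph.Set.univ _).isHomeomorph] at this

/-- A bundle of smaller dimension does not fill a fibre. -/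
theorem exists_not_mem_range {p : P ⟶ X} {O : P.Modules} {n m : ℕ} (hF : HasPnFibres p O n) (ι : Z ⟶ P)
    [IsClosedImmersion ι] {O' : Z.Modules} (hF' : HasPnFibres (ι ≫ p) O' m) (hnm : m < n) (y : X) :
    ∃ x, p x = y ∧ x ∉ Set.range ι := by
  by_contra hcon
  push Not at hcon
  let f : ↥((ι ≫ p) ⁻¹' {y} : Set Z) → ↥(p ⁻¹' {y} : Set P) := fun z =>
    ⟨ι z.1, show p (ι z.1) = y from (Scheme.Hom.comp_apply ι p z.1).symm.trans z.2⟩
  have hf : IsHomeomorph f := by
    have hemb : Topology.IsEmbedding f :=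
      (ι.isClosedEmbedding.isEmbedding.comp Topology.IsEmbedding.subtypeVal).codRestrict (p ⁻¹' {y})
        fun z => show p (ι z.1) = y from (Scheme.Hom.comp_apply ι p z.1).symm.trans z.2
    refine isHomeomorph_iff_isEmbedding_surjective.2 ⟨hemb, fun x => ?_⟩
    obtain ⟨z, hz⟩ := hcon x.1 x.2
    exact ⟨⟨z, show (ι ≫ p) z = y by rw [Scheme.Hom.comp_apply, hz]; exact x.2⟩, Subtype.ext hz⟩
  have h1 := IsHomeomorph.topologicalKrullDim_eq _ ((ι ≫ p).fiberHomeo y).isHomeomorph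
  have h2 := IsHomeomorph.topologicalKrullDim_eq _ (p.fiberHomeo y).isHomeomorph
  have h3 := IsHomeomorph.topologicalKrullDim_eq _ hf
  rw [← h1, ← h2, krullDim_of_hasPnFibres hF y, krullDim_of_hasPnFibres hF' y] at h3
  have : m = n := by exact_mod_cast h3
  omega

variable {p : P ⟶ X} [IsProper p] {O : P.Modules} {E : X.Modules} {p' : Q ⟶ X} [IsProper p'] {O' : Q.Modules}
  {F : X.Modules} {r : ℕ}

set_option maxHeartbeats 1000000 in
/-- The relation does not depend on the model of the projective bundle. -/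
theorem Rel.transfer (hB : Bundle p δ δP E O r) (hB' : Bundle p' δ δQ E O' r) {c : Fin (r + 1) → X → ℤ}
    (hc : Rel p δ δP O r k c) : Rel p' δ δQ O' r k c := by
  haveI := hB.setup.1
  haveI := hB.setupP.1
  haveI := hB'.setupP.1
  obtain ⟨q, hq⟩ := hB.proj
  obtain ⟨q', hq'⟩ := hB'.proj
  obtain ⟨θ, hθ, e, -⟩ := PBundle.exists_iso hq hq'
  obtain ⟨t, ht⟩ := exists_sections hB.invertible
  have hθO := PicLoc.isInvertible_pullback θ.hom hB.invertible
  choose t' ht' hdiv using fun ξ : Q => exists_secMap (δ := δQ) hθO e ξ (secPull θ.hom ξ (t (θ.hom ξ)))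
    (secPull_ne_zero θ.hom hB.invertible ξ (ht _))
  refine Rel.of_one hB' hc.1 (fun _ => t') (fun _ => ht') fun hr => ?_
  obtain ⟨n, rfl⟩ : ∃ n, r = n + 1 := ⟨r - 1, by omega⟩
  have hδ : Cyc.DeltaCompat (θ.hom ≫ p) δQ δ := by rw [hθ]; exact hB'.compat
  have hd : ∀ u, δQ u = δP (θ.hom u) := fun u => (pullFun_open θ.hom p hB.compat hδ 0 (fun _ => 0) u).1
  obtain ⟨A, hA, hAk, hA'⟩ := hc.2 (fun _ => t) (fun _ => ht) hr
  have hterm : ∀ (i : Fin (n + 1 + 1)) (u : Q),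
      term p' δQ δ O' (fun _ => t') (n + 1) i (c (Fin.rev i)) u =
        term p δP δ O (fun _ => t) (n + 1) i (c (Fin.rev i)) (θ.hom u) := fun i u => by
    obtain ⟨G, hG, hGk⟩ := (hc.1 (Fin.rev i)).pull hB.setupP hB.compat (hB.relDim rfl)
    unfold term
    rw [show ((n + 1 : ℕ) : ℤ) - 1 = n by push_cast; ring, c1PowFun_pre θ.hom hB.invertible (fun _ => t)
      (fun x hx => by_contra fun h => hx (by rw [← hG]; exact hGk x h))
      (fun ξ _ _ _ _ _ _ => θ.hom.homeomorph.surjective ξ) i u]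
    have hsec : ∀ (b : Q → ℤ) (m : ℕ), Cyc.c1PowFun δQ O' (fun _ => t') m b =
        Cyc.c1PowFun δQ ((Scheme.Modules.pullback θ.hom).obj O) (fun _ ξ => secPull θ.hom ξ (t (θ.hom ξ))) m b := by
      intro b m
      induction m with
      | zero => rfl
      | succ m ih =>
        funext x
        show Cyc.c1CapFun δQ O' (Cyc.c1PowFun δQ O' _ m b) t' x = _
        rw [ih]
        exact finsum_congr fun ξ => congrArg _ (hdiv ξ x)
    rw [hsec, show δQ = (fun z => δP (θ.hom z)) from funext hd]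
    congr 2
    funext z
    have h1 := (pullFun_open θ.hom p hB.compat hδ (n : ℤ) (c (Fin.rev i)) z).2
    rw [← h1, ← show δQ = (fun z => δP (θ.hom z)) from funext hd]
    congr 1
    exact hθ.symm
  obtain ⟨B, hB₀⟩ := CycK0.exists_cycle_affine (fun u : Q => A (θ.hom u)) fun {V} hV =>
    ((CycAff.finite_on A (hV.isCompact.image θ.hom.continuous)).preimage
      θ.hom.homeomorph.injective.injOn).subset fun d hd => ⟨⟨d, hd.1, rfl⟩, hd.2⟩
  refine ⟨B, funext fun u => ?_, fun u hu => ?_, ratEquivZero_of_iso θ.inv (δW := δP) (fun x => ?_) hA' fun x => ?_⟩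
  · rw [hB₀]
    show A (θ.hom u) = _
    rw [hA]
    exact Finset.sum_congr rfl fun i _ => (hterm i u).symm
  · rw [hB₀]
    exact hAk _ fun e => hu (by rw [hd]; exact e)
  · rw [hd, ← Scheme.Hom.comp_apply, θ.inv_hom_id]
    rfl
  · rw [hB₀]
    show A (θ.hom (θ.inv x)) = A x
    rw [← Scheme.Hom.comp_apply, θ.inv_hom_id]
    rfl

omit [IsProper p] in
/-- The class of a hyperplane bundle. -/
theorem pushF_pull_gysin [Flat p] [LocallyOfFiniteType p] (hX : Cyc.IsSetup X δ) (hP : Cyc.IsSetup P δP)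
    (hδ : Cyc.DeltaCompat p δP δ) {m : ℕ} (hF : HasPnFibres p O (m + 1)) {N : P.Modules}
    (hN : PicF.IsInvertible N) {s : Γ(N, (⊤ : P.Opens))} (ι : Z ⟶ P) [IsClosedImmersion ι]
    (hZ : Cyc.IsZeroSchemeOf ι N s) (hrD : Cyc.HasRelDim (ι ≫ p) m) (hs : ∀ y, ∃ x, p x = y ∧ x ∉ Set.range ι)
    (w : (ξ : P) → Cyc.secFibre N ξ) {l : ℤ} {a : X → ℤ} (ha : Cy δ (l + 1) a) :
    pushF ι (fun d => δP (ι d)) δP (Cyc.pullFun (ι ≫ p) (fun d => δP (ι d)) δ m a) =
      Cyc.c1CapFun δP N (Cyc.pullFun p δP δ (m + 1 : ℕ) a) (Cyc.gysinChoice N s w) := by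
  haveI := hX.1
  haveI := hP.1
  obtain ⟨A, rfl, hA⟩ := ha
  funext x
  by_cases hx : x ∈ Set.range ι
  swap
  · rw [pushF_closed_of_notMem ι _ _ _ hx, gysin_off hN ι hZ w _ hx]
  obtain ⟨d, rfl⟩ := hx
  have hint : ∀ d : Z, (Ideal.map (p.stalkMap (ι d)).hom
      (IsLocalRing.maximalIdeal (X.presheaf.stalk (p (ι d))))).IsPrime ∧
        ∃ z : P, z ⤳ ι d ∧ p z = p (ι d) ∧ z ∉ Set.range ι := by
    intro d
    obtain ⟨φ, -, -⟩ := hF (p (ι d))
    haveI := Horrocks.isIntegral_projSpace (k := X.residueField (p (ι d))) (n := m + 1)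
    haveI : Nonempty ↥(p.fiber (p (ι d))) := ⟨φ.hom (genericPoint _)⟩
    haveI : IsIntegral (p.fiber (p (ι d))) := isIntegral_of_isOpenImmersion φ.inv
    refine ⟨?_, ?_⟩
    · obtain ⟨e1⟩ := CMFlat.nonempty_stalk_equiv_asFiber p (ι d) (p.asFiber (ι d)) (p.fiberι_asFiber _)
      obtain ⟨e2⟩ := CMFlat.nonempty_fiberStalk_equiv p (ι d)
      refine (Ideal.Quotient.isDomain_iff_prime _).1 ?_
      exact MulEquiv.isDomain ((p.fiber (p (ι d))).presheaf.stalk (p.asFiber (ι d))) (e2.trans e1.symm).toMulEquiv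
    · obtain ⟨z, hz, hzi⟩ := hs (p (ι d))
      obtain ⟨v, rfl⟩ : z ∈ Set.range (p.fiberι (p (ι d))) := by rw [p.range_fiberι]; exact hz
      let η := genericPoint (p.fiber (p (ι d)))
      have h1 : p (p.fiberι _ η) = p (ι d) := by
        have : p.fiberι (p (ι d)) η ∈ Set.range (p.fiberι (p (ι d))) := ⟨η, rfl⟩
        rw [p.range_fiberι] at this
        exact this
      refine ⟨p.fiberι _ η, ?_, h1, fun h => hzi ?_⟩
      · have h2 := (genericPoint_specializes (p.asFiber (ι d))).map (p.fiberι (p (ι d))).continuous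
        rwa [p.fiberι_asFiber] at h2
      · exact ((genericPoint_specializes v).map (p.fiberι (p (ι d))).continuous).mem_closed
          ι.isClosedEmbedding.isClosed_range h
  have h := gysin_pullFun_fibre hP hX p m (hasRelDim_of_hasPnFibres hF) hδ hN s ι hZ hint hrD l A hA w d
  rw [pushF_closed]
  push_cast at h ⊢
  exact h.symm

variable {L : X.Modules} {m : ℕ}

set_option maxHeartbeats 1600000 in
/-- Chern classes of an extension by an invertible module. -/
theorem rel_of_ext (hB : Bundle p δ δP E O (m + 1)) (hB' : Bundle p' δ δQ F O' m) (hL : PicF.IsInvertible L)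
    (a : L ⟶ E) (b : E ⟶ F) (hab : a ≫ b = 0) (hex : (ShortComplex.mk a b hab).ShortExact)
    {v : (x : X) → Cyc.secFibre L x} (hv : ∀ x, v x ≠ 0) {c : Fin (m + 1) → X → ℤ}
    (hc : Rel p' δ δQ O' m k c) :
    Rel p δ δP O (m + 1) k fun j x =>
      (Fin.snoc c (fun _ : X => (0 : ℤ)) : Fin (m + 1 + 1) → X → ℤ) j x +
        (Fin.cases (fun _ : X => (0 : ℤ)) (fun i => Cyc.c1CapFun δ L (c i) v) j : X → ℤ) x := by
  haveI := hB.setup.1
  haveI := hB.setupP.1
  have hX := hB.setup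
  have hP := hB.setupP
  have hO := hB.invertible
  haveI : Flat p := hB.fibres.1 (by omega)
  have hn := hB.relDim (n := m) rfl
  have hF := hB.fibres.2 m rfl
  obtain ⟨q, hq⟩ := hB.proj
  obtain ⟨Z, ι, hι, N, hN, s, hZ, ⟨qZ, hqZ⟩, ⟨η⟩⟩ := exists_subBundle hq hL a b hab hex
  haveI := hι
  let δZ : Z → ℤ := fun d => δP (ι d)
  have hZs : Cyc.IsSetup Z δZ := CycK0.isSetup_closed ι hP
  haveI := hZs.1
  have hδι : Cyc.DeltaCompat ι δZ δP := CycPush.deltaCompat_preimmersion ι δP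
  have hBZ : Bundle (ι ≫ p) δ δZ F ((Scheme.Modules.pullback ι).obj O) m :=
    ⟨hX, hZs, CycK0.deltaCompat_closed_comp ι p hB.compat, ⟨qZ, hqZ⟩, hB'.rank⟩
  have hcZ := hc.transfer hB' hBZ
  obtain ⟨t, ht⟩ := exists_sections hO
  obtain ⟨w, hw⟩ := exists_sections hN
  let L' := (Scheme.Modules.pullback p).obj L
  have hL' : PicF.IsInvertible L' := PicLoc.isInvertible_pullback p hL
  let v' : (ξ : P) → Cyc.secFibre L' ξ := fun ξ => secPull p ξ (v (p ξ))
  have hv' : ∀ ξ, v' ξ ≠ 0 := fun ξ => secPull_ne_zero p hL ξ (hv _)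
  have hcp : ∀ x, EquidimPt.IsFibMax p x → δP x = δ (p x) + m :=
    fun x hx => ((CycDim.delta_le p hB.compat hn x).2).2 hx
  let T : ℕ → (ξ : P) → Cyc.secFibre O ξ := fun _ => t
  -- the push forward of a pull back
  let PP : (X → ℤ) → P → ℤ := fun b => pushF ι δZ δP (Cyc.pullFun (ι ≫ p) δZ δ ((m : ℤ) - 1) b)
  have hPP : ∀ {l : ℤ} {b : X → ℤ}, Cy δ l b → RZ δP (l + m - 1) fun y =>
      Cyc.c1CapFun δP O (Cyc.pullFun p δP δ m b) t y - Cyc.pullFun p δP δ m (Cyc.c1CapFun δ L b v) y - PP b y := by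
    intro l b hb
    have hlev : Cy δP (l + m - 1 + 1) (Cyc.pullFun p δP δ m b) := by
      rw [sub_add_cancel]; exact hb.pull hP hB.compat hn
    have hg := CycK0.gysinChoice_ne_zero (s := s) hw
    have hz := TMul.isInvertible_tensorMod hN hL'
    obtain ⟨z, hz'⟩ := exists_sections hz
    have h1 := cap_tensor hP hN hL' (v := Cyc.gysinChoice N s w) (w := v') (z := z) hg hv' hz' hlev
    have h2 := cap_iso hP hz hO η hz' (v' := t) ht hlev
    have e1 : Cyc.c1CapFun δP L' (Cyc.pullFun p δP δ m b) v' = Cyc.pullFun p δP δ m (Cyc.c1CapFun δ L b v) := by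
      obtain ⟨A, rfl, -⟩ := hb
      rw [CycSec.pullFun_c1CapFun p hP.2.2 hX.2.2 hcp hL A v hv]
    have e2 : Cyc.c1CapFun δP N (Cyc.pullFun p δP δ m b) (Cyc.gysinChoice N s w) = PP b := by
      rcases Nat.eq_zero_or_pos m with hm | hm
      · subst hm
        haveI := isEmpty_of_rank_zero hqZ hB'.rank
        funext y
        rw [gysin_off hN ι hZ w _ fun ⟨z, _⟩ => isEmptyElim z]
        exact (pushF_closed_of_notMem ι _ _ _ fun ⟨z, _⟩ => isEmptyElim z).symm
      · obtain ⟨m', rfl⟩ : ∃ m', m = m' + 1 := ⟨m - 1, by omega⟩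
        have hFZ := hBZ.fibres.2 m' rfl
        have h := pushF_pull_gysin hX hP hB.compat hF hN ι hZ (hBZ.relDim rfl)
          (exists_not_mem_range hF ι hFZ (by omega)) w (l := l - 1) (a := b) (by rwa [sub_add_cancel])
        show _ = pushF ι δZ δP (Cyc.pullFun (ι ≫ p) δZ δ (((m' + 1 : ℕ) : ℤ) - 1) b)
        rw [show ((m' + 1 : ℕ) : ℤ) - 1 = m' by push_cast; ring]
        exact h.symm
    refine ((h1.add h2).smul (-1)).eq (funext fun y => ?_)
    rw [← e1, ← e2]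
    ring
  -- the two parts
  let eu : Fin (m + 1 + 1) → X → ℤ := Fin.snoc c fun _ => 0
  let ev : Fin (m + 1 + 1) → X → ℤ := Fin.cases (fun _ => 0) fun i => Cyc.c1CapFun δ L (c i) v
  have hu : ∀ j : Fin (m + 1 + 1), Cy δ (k - ((j : ℕ) : ℤ)) (eu j) := fun j => by
    refine Fin.lastCases ?_ (fun i => ?_) j
    · rw [show eu (Fin.last (m + 1)) = fun _ => 0 from Fin.snoc_last _ _]; exact Cy.zero
    · rw [show eu (Fin.castSucc i) = c i from Fin.snoc_castSucc _ _ _]; exact hc.1 i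
  have hve : ∀ j : Fin (m + 1 + 1), Cy δ (k - ((j : ℕ) : ℤ)) (ev j) := fun j => by
    refine Fin.cases ?_ (fun i => ?_) j
    · exact Cy.zero
    · show Cy δ _ (Cyc.c1CapFun δ L (c i) v)
      refine Cy.cap hX hL hv ?_
      rw [show k - (((i.succ : Fin (m + 1 + 1)) : ℕ) : ℤ) + 1 = k - ((i : ℕ) : ℤ) by simp; ring]
      exact hc.1 i
  refine Rel.of_one hB (fun j => (hu j).add (hve j)) T (fun _ => ht) fun hr => ?_
  -- the relation on the zero scheme, pushed forward
  have hδ1 : ∀ i : Fin (m + 1), Cy δP (k - ((Fin.rev i : Fin (m + 1)) : ℕ) + m - 1) (PP (c (Fin.rev i))) := by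
    intro i
    have hl := hc.1 (Fin.rev i)
    rcases Nat.eq_zero_or_pos m with hm | hm
    · subst hm
      haveI := isEmpty_of_rank_zero hqZ hB'.rank
      rw [show PP (c (Fin.rev i)) = fun _ => 0 from
        funext fun y => pushF_closed_of_notMem ι _ _ _ fun ⟨z, _⟩ => isEmptyElim z]
      exact Cy.zero
    · obtain ⟨m', rfl⟩ : ∃ m', m = m' + 1 := ⟨m - 1, by omega⟩
      obtain ⟨A, hA, hAk⟩ := hl.pull hZs hBZ.compat (hBZ.relDim rfl)
      refine ⟨AlgebraicCycle.map ι δZ δP A, ?_, fun y hy => ?_⟩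
      · show _ = pushF ι δZ δP (Cyc.pullFun (ι ≫ p) δZ δ (((m' + 1 : ℕ) : ℤ) - 1) _)
        rw [show ((m' + 1 : ℕ) : ℤ) - 1 = m' by push_cast; ring, ← hA]
        rfl
      · by_cases hr : y ∈ Set.range ι
        · obtain ⟨d, rfl⟩ := hr
          rw [S1918.map_closed]
          exact hAk d fun e => hy (by push_cast; show δP (ι d) = _; rw [show δP (ι d) = _ from e]; ring)
        · exact S1918.map_closed_of_notMem ι δP A hr
  have hpush : RZ δP (k - 1) fun y => ∑ i : Fin (m + 1),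
      (-1 : ℤ) ^ (i : ℕ) * Cyc.c1PowFun δP O T i (PP (c (Fin.rev i))) y := by
    rcases Nat.eq_zero_or_pos m with hm | hm
    · subst hm
      haveI := isEmpty_of_rank_zero hqZ hB'.rank
      refine RZ.zero.eq (funext fun y => (Finset.sum_eq_zero fun i _ => ?_).symm)
      rw [show PP (c (Fin.rev i)) = fun _ => (0 : ℤ) * 0 from
        funext fun y => (pushF_closed_of_notMem ι _ _ _ fun ⟨z, _⟩ => isEmptyElim z).trans (mul_zero 0).symm,
        c1PowFun_smul]
      simp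
    · obtain ⟨m', rfl⟩ : ∃ m', m = m' + 1 := ⟨m - 1, by omega⟩
      let tZ : ℕ → (ξ : Z) → Cyc.secFibre ((Scheme.Modules.pullback ι).obj O) ξ :=
        fun _ ξ => secPull ι ξ (t (ι ξ))
      have htZ : ∀ l ξ, tZ l ξ ≠ 0 := fun _ ξ => secPull_ne_zero ι hO ξ (ht _)
      have hT : ∀ i : Fin (m' + 1 + 1), Cy δZ (k - 1)
          (term (ι ≫ p) δZ δ ((Scheme.Modules.pullback ι).obj O) tZ (m' + 1) i (c (Fin.rev i))) := fun i =>
        hBZ.cy_term htZ hm i (hcZ.1 _)
      have h := (hcZ.2 tZ htZ hm).push ι hP hZs hδι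
      refine h.eq (funext fun y => ?_)
      rw [pushF_sum ι Finset.univ (fun i _ => hT i) y]
      refine Finset.sum_congr rfl fun i _ => ?_
      show pushF ι δZ δP (fun z => (-1 : ℤ) ^ (i : ℕ) * Cyc.c1PowFun δZ _ tZ i _ z) y = _
      rw [show PP (c (Fin.rev i)) = pushF ι δZ δP (Cyc.pullFun (ι ≫ p) δZ δ (((m' + 1 : ℕ) : ℤ) - 1) (c (Fin.rev i)))
        from rfl, show ((m' + 1 : ℕ) : ℤ) - 1 = m' by push_cast; ring,
        ← pushF_c1Pow hP hZs ι hδι hO T (fun _ => ht) ((hc.1 (Fin.rev i)).pull hZs hBZ.compat (hBZ.relDim rfl)) i]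
      unfold pushF
      rw [mul_finsum_mem]
      exact finsum_mem_congr rfl fun x _ => mul_assoc _ _ _
  -- replace the push forwards
  let A : Fin (m + 1) → P → ℤ := fun i =>
    Cyc.c1PowFun δP O T i (Cyc.c1CapFun δP O (Cyc.pullFun p δP δ m (c (Fin.rev i))) t)
  let B : Fin (m + 1) → P → ℤ := fun i =>
    Cyc.c1PowFun δP O T i (Cyc.pullFun p δP δ m (Cyc.c1CapFun δ L (c (Fin.rev i)) v))
  have hAB : RZ δP (k - 1) fun y => ∑ i : Fin (m + 1),
      (-1 : ℤ) ^ (i : ℕ) * (A i y - B i y - Cyc.c1PowFun δP O T i (PP (c (Fin.rev i))) y) := by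
    refine RZ.sum Finset.univ fun i _ => ?_
    have hlt := i.2
    have hl := hc.1 (Fin.rev i)
    have h1 := ((hPP hl).pow hP hO (t := T) (fun _ => ht) (i : ℕ)).smul ((-1 : ℤ) ^ (i : ℕ))
    rw [show k - ((Fin.rev i : Fin (m + 1)) : ℕ) + (m : ℤ) - 1 - ((i : ℕ) : ℤ) = k - 1 by
      simp only [Fin.val_rev]; omega] at h1
    refine h1.eq (funext fun y => ?_)
    have hx1 : Cy δP (k - ((Fin.rev i : Fin (m + 1)) : ℕ) + m - 1)
        (Cyc.c1CapFun δP O (Cyc.pullFun p δP δ m (c (Fin.rev i))) t) :=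
      Cy.cap hP hO ht (by rw [sub_add_cancel]; exact hl.pull hP hB.compat hn)
    have hx2 : Cy δP (k - ((Fin.rev i : Fin (m + 1)) : ℕ) + m - 1)
        (Cyc.pullFun p δP δ m (Cyc.c1CapFun δ L (c (Fin.rev i)) v)) := by
      have := ((Cy.cap hX hL hv (k := k - ((Fin.rev i : Fin (m + 1)) : ℕ) - 1) (by rw [sub_add_cancel]; exact hl))).pull
        hP hB.compat hn
      rwa [show k - ((Fin.rev i : Fin (m + 1)) : ℕ) - 1 + (m : ℤ) = k - ((Fin.rev i : Fin (m + 1)) : ℕ) + m - 1 by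
        ring] at this
    rw [Cy.pow_sub hP hO (t := T) (fun _ => ht) (hx1.sub hx2) (hδ1 i),
      Cy.pow_sub hP hO (t := T) (fun _ => ht) hx1 hx2]
  refine ((hAB.add hpush).smul (-1)).eq (funext fun y => ?_)
  have key : ∀ i : Fin (m + 1), -1 * ((-1 : ℤ) ^ (i : ℕ) * (A i y - B i y - Cyc.c1PowFun δP O T i (PP (c (Fin.rev i))) y) +
      (-1 : ℤ) ^ (i : ℕ) * Cyc.c1PowFun δP O T i (PP (c (Fin.rev i))) y) =
      term p δP δ O T (m + 1) (i.succ : Fin (m + 1 + 1)) (c (Fin.rev i)) y +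
        term p δP δ O T (m + 1) (i.castSucc : Fin (m + 1 + 1)) (Cyc.c1CapFun δ L (c (Fin.rev i)) v) y := fun i => by
    unfold term
    rw [show ((m + 1 : ℕ) : ℤ) - 1 = m by push_cast; ring, Fin.val_succ, c1PowFun_succ', Fin.val_castSucc]
    show _ = (-1 : ℤ) ^ ((i : ℕ) + 1) * A i y + (-1 : ℤ) ^ (i : ℕ) * B i y
    rw [pow_succ]
    ring
  rw [← Finset.sum_add_distrib, Finset.mul_sum, Finset.sum_congr rfl fun i _ => key i, Finset.sum_add_distrib]
  show _ = ∑ i : Fin (m + 1 + 1), term p δP δ O T (m + 1) i (fun x => eu (Fin.rev i) x + ev (Fin.rev i) x) y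
  have hadd : ∀ i : Fin (m + 1 + 1),
      term p δP δ O T (m + 1) i (fun x => eu (Fin.rev i) x + ev (Fin.rev i) x) y =
        term p δP δ O T (m + 1) i (eu (Fin.rev i)) y + term p δP δ O T (m + 1) i (ev (Fin.rev i)) y := fun i =>
    congrFun (hB.term_add (fun _ => ht) hr i (hu _) (hve _)) y
  rw [Finset.sum_congr rfl fun i _ => hadd i, Finset.sum_add_distrib]
  have hz : ∀ i : ℕ, term p δP δ O T (m + 1) i (fun _ => 0) y = 0 := fun i => by
    simpa using congrFun (term_smul (δ := δ) (δP := δP) (p := p) (r := m + 1) T i 0 fun _ => 0) y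
  refine congrArg₂ (· + ·) ?_ ?_
  · rw [Fin.sum_univ_succ (n := m + 1), Fin.rev_zero, show eu (Fin.last (m + 1)) = fun _ => 0 from Fin.snoc_last _ _,
      hz, zero_add]
    refine Finset.sum_congr rfl fun i _ => ?_
    rw [Fin.rev_succ, show eu (Fin.castSucc (Fin.rev i)) = c (Fin.rev i) from Fin.snoc_castSucc _ _ _]
  · rw [Fin.sum_univ_castSucc (n := m + 1), Fin.rev_last, show ev 0 = fun _ => 0 from rfl, hz, add_zero]
    refine Finset.sum_congr rfl fun i _ => ?_
    rw [Fin.rev_castSucc]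
    rfl

end Groth.Agent.CycPB
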