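import Groth.Agent.CycPB.OpsApply

/-!
Proper push forward of classes and its compatibility with the operators.
-/

set_option autoImplicit false
set_option linter.unusedSectionVars false
set_option linter.style.haveILetI false
set_option backward.isDefEq.respectTransparency false
set_option backward.isDefEq.respectTransparency.types false

universe u

open CategoryTheory CategoryTheory.Limits AlgebraicGeometry TopologicalSpace Opposite
open Groth.Agent.CycSec (secPull secPull_ne_zero)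
open Groth.Agent.EquidimPt (IsFibMax)
open scoped IsMulCommutative

noncomputable section

namespace Groth.Agent.CycPB

variable {X Y P : Scheme.{u}} {δ : X → ℤ} {δY : Y → ℤ} {δP : P → ℤ} {k : ℤ}

lemma Cy.pushP (hX : Cyc.IsSetup X δ) (hY : Cyc.IsSetup Y δY) (f : Y ⟶ X) [IsProper f] {a : Y → ℤ}
    (ha : Cy δY k a) : Cy δ k (pushF f δY δ a) := by
  haveI := hX.1
  haveI := hY.1
  obtain ⟨A, rfl, hA⟩ := ha
  refine ⟨AlgebraicCycle.map f δY δ A, rfl, fun y hy => finsum_mem_eq_zero_of_forall_eq_zero fun x hx => ?_⟩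
  by_contra h
  have h1 := by_contra fun h0 => left_ne_zero_of_mul h (hA x h0)
  have h2 := right_ne_zero_of_mul h
  by_cases h3 : δY x = δ (f x)
  · exact hy (by rw [← show f x = y from hx, ← h3, h1])
  · exact h2 (by simp only [AlgebraicCycle.mapCoeff, if_neg h3, Nat.cast_zero])

lemma pushF_addP (hY : Cyc.IsSetup Y δY) (f : Y ⟶ X) [IsProper f] {l : ℤ} {a b : Y → ℤ} (ha : Cy δY l a) (hb : Cy δY l b)
    (y : X) : pushF f δY δ (fun x => a x + b x) y = pushF f δY δ a y + pushF f δY δ b y := by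
  obtain ⟨A, rfl, -⟩ := ha
  obtain ⟨B, rfl, -⟩ := hb
  show ∑ᶠ x ∈ _, (A x + B x) * _ = ∑ᶠ x ∈ _, _ + ∑ᶠ x ∈ _, _
  rw [← finsum_mem_add_distrib' (finite_push f A y) (finite_push f B y)]
  exact finsum_mem_congr rfl fun x _ => add_mul _ _ _

lemma pushF_zsmul (f : Y ⟶ X) [IsProper f] (n : ℤ) (a : Y → ℤ) (y : X) :
    pushF f δY δ (fun x => n * a x) y = n * pushF f δY δ a y := by
  unfold pushF
  rw [mul_finsum_mem]
  exact finsum_mem_congr rfl fun x _ => mul_assoc _ _ _

lemma pushF_zero (f : Y ⟶ X) [IsProper f] (y : X) : pushF f δY δ (fun _ => 0) y = 0 := by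
  simp [pushF]

section push

variable (hX : Cyc.IsSetup X δ) (hY : Cyc.IsSetup Y δY) (f : Y ⟶ X) [IsProper f]
  (hf : Cyc.DeltaCompat f δY δ)

/-- Proper push forward on all classes. -/
def pushT : Tot δY →+ Tot δ :=
  QuotientAddGroup.map _ _
    (AddMonoidHom.mk' (fun a : gCy δY => (⟨fun k => pushF f δY δ (a.1 k), fun k => (a.2 k).pushP hX hY f⟩ : gCy δ))
      fun a b => Subtype.ext (funext fun k => funext fun y => pushF_addP hY f (a.2 k) (b.2 k) y))
    fun _ ha k => (ha k).push f hX hY hf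

lemma pushT_mk (a : gCy δY) :
    pushT hX hY f hf (mkT a) = mkT ⟨fun k => pushF f δY δ (a.1 k), fun k => (a.2 k).pushP hX hY f⟩ := rfl

lemma pushT_ofT {l : ℤ} {a : Y → ℤ} (ha : Cy δY l a) : pushT hX hY f hf (ofT ha) = ofT (ha.pushP hX hY f) := by
  refine mkT_eq_iff.2 fun k => RZ.zero.eq (funext fun y => ?_)
  show (0 : ℤ) = pushF f δY δ (sgl l a k) y - sgl l (pushF f δY δ a) k y
  by_cases h : k = l
  · subst h; rw [sgl_self, sgl_self, sub_self]
  · rw [sgl_ne h, sgl_ne h, pushF_zero, sub_self]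

/-- The projection formula for first Chern classes. -/
theorem pushT_c1T {L : X.Modules} (hL : PicF.IsInvertible L) (z : Tot δY) :
    pushT hX hY f hf (c1T hY (PicLoc.isInvertible_pullback f hL) z) = c1T hX hL (pushT hX hY f hf z) := by
  haveI := hX.1
  haveI := hY.1
  obtain ⟨a, rfl⟩ := mkT_surjective z
  obtain ⟨v, hv⟩ := exists_sections hL
  rw [c1T_mk hY (PicLoc.isInvertible_pullback f hL) (fun y => secPull_ne_zero f hL y (hv _)) a
    ⟨_, fun k => Cy.cap hY (PicLoc.isInvertible_pullback f hL) (fun y => secPull_ne_zero f hL y (hv _)) (a.2 (k + 1))⟩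
    fun k => RZ.refl _, pushT_mk, pushT_mk]
  refine (c1T_mk hX hL hv _ _ fun k => ?_).symm
  refine RZ.zero.eq (funext fun y => ?_)
  have h := congrFun (pushF_c1Pow hX hY f hf hL (fun _ => v) (fun _ => hv) (a.2 (k + 1)) 1) y
  show (0 : ℤ) = Cyc.c1PowFun δ L (fun _ => v) 1 (pushF f δY δ (a.1 (k + 1))) y -
    pushF f δY δ (Cyc.c1PowFun δY _ (fun _ ξ => secPull f ξ (v (f ξ))) 1 (a.1 (k + 1))) y
  rw [h, sub_self]

set_option maxHeartbeats 1000000 in
include hX hY hf in
/-- Push forward of the relation. -/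
theorem Rel.pushR {p : P ⟶ X} [IsProper p] {E : X.Modules} {O : P.Modules} {r : ℕ} (hB : Bundle p δ δP E O r)
    {Q : Scheme.{u}} {δQ : Q → ℤ} (π : Q ⟶ Y) [IsProper π] (f' : Q ⟶ P) (hsq : IsPullback f' π p f)
    (hQ : Cyc.IsSetup Q δQ) (hπ : Cyc.DeltaCompat π δQ δY) {c : Fin (r + 1) → Y → ℤ}
    (hc : Rel π δY δQ ((Scheme.Modules.pullback f').obj O) r k c) :
    Rel p δ δP O r k fun j => pushF f δY δ (c j) := by
  haveI := hX.1
  haveI := hB.setupP.1
  haveI := hY.1
  haveI := hQ.1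
  have hB' := hB.baseChange hY f hf π f' hsq hQ hπ
  obtain ⟨t, ht⟩ := exists_sections hB.invertible
  refine Rel.of_one hB (fun j => (hc.1 j).pushP hX hY f) (fun _ => t) (fun _ => ht) fun hr => ?_
  haveI : IsProper f' := MorphismProperty.of_isPullback hsq.flip ‹_›
  have hf' : Cyc.DeltaCompat f' δQ δP := deltaCompat_square hsq.w hf hB.compat hπ
  obtain ⟨n, rfl⟩ : ∃ n, r = n + 1 := ⟨r - 1, by omega⟩
  have hn := hB.relDim rfl
  have hn' := hB'.relDim rfl
  haveI := hB.fibres.1 hr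
  haveI := hB'.fibres.1 hr
  let t' : ℕ → (ξ : Q) → Cyc.secFibre ((Scheme.Modules.pullback f').obj O) ξ := fun _ ξ => secPull f' ξ (t (f' ξ))
  have ht' : ∀ i ξ, t' i ξ ≠ 0 := fun _ ξ => secPull_ne_zero f' hB.invertible ξ (ht _)
  have hT := fun i : Fin (n + 1 + 1) => hB'.cy_term (k := k) ht' hr i (hc.1 (Fin.rev i))
  have h := (hc.2 t' ht' hr).push f' hB.setupP hQ hf'
  refine h.eq (funext fun y => ?_)
  rw [pushF_sum f' Finset.univ (fun i _ => hT i) y]
  refine Finset.sum_congr rfl fun i _ => ?_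
  unfold term
  rw [show ((n + 1 : ℕ) : ℤ) - 1 = n by push_cast; ring, pushF_zsmul]
  congr 1
  have hcp : ∀ x, IsFibMax p x → δP x = δ (p x) + n := fun x hx => ((CycDim.delta_le p hB.compat hn x).2).2 hx
  have hcp' : ∀ x, IsFibMax π x → δQ x = δY (π x) + n := fun x hx => ((CycDim.delta_le π hπ hn' x).2).2 hx
  obtain ⟨A, hA, -⟩ := hc.1 (Fin.rev i)
  have e2 : Cyc.pullFun p δP δ n (pushF f δY δ (c (Fin.rev i))) =
      pushF f' δQ δP (Cyc.pullFun π δQ δY n (c (Fin.rev i))) := funext fun z => by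
    rw [← hA]
    exact CycFin.push_pull hsq.flip hB.setupP.2.2 hQ.2.2 hf hf' hcp hcp' A z
  rw [e2, ← pushF_c1Pow hB.setupP hQ f' hf' hB.invertible (fun _ => t) (fun _ => ht)
    ((hc.1 (Fin.rev i)).pull hQ hπ hn') i]

/-- Push forward commutes with Chern classes. -/
theorem pushT_cT {p : P ⟶ X} [IsProper p] {E : X.Modules} {O : P.Modules} {r : ℕ} (hB : Bundle p δ δP E O r)
    {Q : Scheme.{u}} {π : Q ⟶ Y} [IsProper π] {δQ : Q → ℤ} {E' : Y.Modules} {O' : Q.Modules}
    (hB' : Bundle π δY δQ E' O' r) (φ : (Scheme.Modules.pullback f).obj E ≅ E') (j : ℕ) (z : Tot δY) :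
    pushT hX hY f hf (cT hB' j z) = cT hB j (pushT hX hY f hf z) := by
  obtain ⟨a, rfl⟩ := mkT_surjective z
  have hsq : IsPullback (pullback.fst p f) (pullback.snd p f) p f := .of_hasPullback _ _
  obtain ⟨δ₁, hQ₁, hπ₁⟩ := exists_isSetup hY (pullback.snd p f)
  have hB₁ := hB.baseChange hY f hf _ _ hsq hQ₁ hπ₁
  rw [← cT_eq_cT hB₁ hB' φ j]
  choose c hc hc0 using fun l : ℤ => exists_rel hB₁ (a.2 l)
  have hmem : (fun k : ℤ => nx (c (k + j)) j) ∈ gCy δY := fun k => by
    have := cy_nx (hc (k + j)).1 j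
    rwa [add_sub_cancel_right] at this
  rw [cT_mk hB₁ j a (fun k => c (k + j)) (fun k => hc _) (fun k => RZ.zero.eq (funext fun x => by rw [hc0, sub_self]))
    ⟨_, hmem⟩ fun k => RZ.refl _, pushT_mk, pushT_mk]
  refine (cT_mk hB j _ (fun k i => pushF f δY δ (c (k + j) i)) (fun k => ?_) (fun k => ?_) _ fun k => ?_).symm
  · exact Rel.pushR hX hY f hf hB _ _ hsq hQ₁ hπ₁ (hc (k + j))
  · refine RZ.zero.eq (funext fun y => ?_)
    show (0 : ℤ) = pushF f δY δ (c (k + j) 0) y - pushF f δY δ (a.1 (k + j)) y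
    rw [hc0, sub_self]
  · refine RZ.zero.eq (funext fun y => ?_)
    show (0 : ℤ) = nx (fun i => pushF f δY δ (c (k + j) i)) j y - pushF f δY δ (nx (c (k + j)) j) y
    by_cases h : j < r + 1
    · rw [nx_of_lt _ h, nx_of_lt _ h, sub_self]
    · rw [nx_of_le _ (by omega), nx_of_le _ (by omega)]
      exact (by rw [sub_eq_zero.2]; exact (pushF_zero f y).symm)

end push

end Groth.Agent.CycPB
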