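import Groth.Agent.CycPB.OpsRoots

/-!
The operators and flat pull back; reduction to the split case.
-/

set_option autoImplicit false
set_option linter.unusedSectionVars false
set_option linter.style.haveILetI false
set_option backward.isDefEq.respectTransparency false
set_option backward.isDefEq.respectTransparency.types false

universe u

open CategoryTheory CategoryTheory.Limits AlgebraicGeometry TopologicalSpace Opposite
open Groth.Agent.CycSec (secPull secPull_ne_zero)
open Groth.Agent.EquidimPt (IsFibMax)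
open scoped IsMulCommutative

noncomputable section

namespace Groth.Agent.CycPB

variable {X Y P : Scheme.{u}} {δ : X → ℤ} {δY : Y → ℤ} {δP : P → ℤ}

section pull

variable (hX : Cyc.IsSetup X δ) (hY : Cyc.IsSetup Y δY) (f : Y ⟶ X) [Flat f] [LocallyOfFiniteType f] {e : ℕ}
  (he : Cyc.HasRelDim f e) (hf : Cyc.DeltaCompat f δY δ)

include hX hY he hf in
lemma cy_pullFam (a : gCy δ) : (fun k : ℤ => Cyc.pullFun f δY δ e (a.1 (k - e))) ∈ gCy δY := fun k => by
  haveI := hX.1
  have := (a.2 (k - e)).pullR hY f hf he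
  rwa [sub_add_cancel] at this

/-- Flat pull back on all classes. -/
def pullT : Tot δ →+ Tot δY :=
  QuotientAddGroup.map _ _
    (AddMonoidHom.mk' (fun a : gCy δ => (⟨_, cy_pullFam hX hY f he hf a⟩ : gCy δY)) fun a b =>
      Subtype.ext (funext fun k => pullFun_add f δY e (a.1 (k - e)) (b.1 (k - e))))
    fun a ha k => by
      haveI := hY.1
      have := RZ.pullR hX hY f hf he (show RZ δ (k - e) (a.1 (k - e)) from ha (k - e))
      rwa [sub_add_cancel] at this

lemma pullT_mk (a : gCy δ) : pullT hX hY f he hf (mkT a) = mkT ⟨_, cy_pullFam hX hY f he hf a⟩ := rfl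

/-- Pull back commutes with Chern classes. -/
theorem pullT_cT {p : P ⟶ X} [IsProper p] {E : X.Modules} {O : P.Modules} {r : ℕ} (hB : Bundle p δ δP E O r)
    {Q : Scheme.{u}} {π : Q ⟶ Y} [IsProper π] {δQ : Q → ℤ} {E' : Y.Modules} {O' : Q.Modules}
    (hB' : Bundle π δY δQ E' O' r) (φ : (Scheme.Modules.pullback f).obj E ≅ E') (j : ℕ) (z : Tot δ) :
    pullT hX hY f he hf (cT hB j z) = cT hB' j (pullT hX hY f he hf z) := by
  obtain ⟨a, rfl⟩ := mkT_surjective z
  obtain ⟨Q₁, π₁, hπ₁, O₁, δ₁, hB₁, hR⟩ := hB.exists_pull hY f he hf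
  rw [← cT_eq_cT hB₁ hB' φ j]
  choose c hc hc0 using fun l : ℤ => exists_rel hB (a.2 l)
  have hmem : (fun k : ℤ => nx (c (k + j)) j) ∈ gCy δ := fun k => by
    have := cy_nx (hc (k + j)).1 j
    rwa [add_sub_cancel_right] at this
  rw [cT_mk hB j a (fun k => c (k + j)) (fun k => hc _) (fun k => RZ.zero.eq (funext fun x => by rw [hc0, sub_self]))
    ⟨_, hmem⟩ fun k => RZ.refl _, pullT_mk, pullT_mk]
  refine (cT_mk hB₁ j _ (fun k i => Cyc.pullFun f δY δ e (c (k - e + j) i)) (fun k => ?_) (fun k => ?_) _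
    fun k => ?_).symm
  · have := hR _ _ (hc (k - e + j))
    rwa [show k - (e : ℤ) + j + e = k + j by ring] at this
  · refine RZ.zero.eq (funext fun y => ?_)
    show (0 : ℤ) = Cyc.pullFun f δY δ e (c (k - e + j) 0) y - Cyc.pullFun f δY δ e (a.1 (k + j - e)) y
    rw [hc0, show k - (e : ℤ) + j = k + j - e by ring, sub_self]
  · refine RZ.zero.eq (funext fun y => ?_)
    show (0 : ℤ) = nx (fun i => Cyc.pullFun f δY δ e (c (k - e + j) i)) j y -
      Cyc.pullFun f δY δ e (nx (c (k - e + j)) j) y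
    rw [pull_nx, sub_self]

/-- Pull back commutes with first Chern classes of invertible modules. -/
theorem pullT_c1T {L : X.Modules} (hL : PicF.IsInvertible L) (z : Tot δ) :
    pullT hX hY f he hf (c1T hX hL z) = c1T hY (PicLoc.isInvertible_pullback f hL) (pullT hX hY f he hf z) := by
  haveI := hX.1
  haveI := hY.1
  obtain ⟨a, rfl⟩ := mkT_surjective z
  obtain ⟨v, hv⟩ := exists_sections hL
  rw [c1T_mk hX hL hv a ⟨_, fun k => Cy.cap hX hL hv (a.2 (k + 1))⟩ fun k => RZ.refl _, pullT_mk, pullT_mk]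
  refine (c1T_mk hY _ (fun y => secPull_ne_zero f hL y (hv _)) _ _ fun k => ?_).symm
  refine RZ.zero.eq (funext fun y => ?_)
  show (0 : ℤ) = Cyc.c1CapFun δY _ (Cyc.pullFun f δY δ e (a.1 (k + 1 - e))) _ y -
    Cyc.pullFun f δY δ e (Cyc.c1CapFun δ L (a.1 (k - e + 1)) v) y
  obtain ⟨A, hA, -⟩ := a.2 (k + 1 - e)
  rw [show k - (e : ℤ) + 1 = k + 1 - e by ring, ← hA,
    CycSec.pullFun_c1CapFun f hY.2.2 hX.2.2 (fun x hx => ((CycDim.delta_le f hf he x).2).2 hx) hL A v hv, sub_self]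

end pull

/-- Pull back along a tower is injective. -/
theorem pullT_injective (hX : Cyc.IsSetup X δ) {π : Y ⟶ X} {e : ℕ} (h : IsSplit π δ e) [Flat π]
    [LocallyOfFiniteType π] (hY : Cyc.IsSetup Y δY) (hπ : Cyc.DeltaCompat π δY δ) :
    Function.Injective (pullT hX hY π h.relDim hπ) := by
  intro z w hzw
  obtain ⟨a, rfl⟩ := mkT_surjective z
  obtain ⟨b, rfl⟩ := mkT_surjective w
  rw [pullT_mk, pullT_mk, mkT_eq_iff] at hzw
  refine mkT_eq_iff.2 fun k => h.descend hX hY hπ ((a.2 k).sub (b.2 k)) ?_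
  have h1 : RZ δY (k + e) fun y =>
      Cyc.pullFun π δY δ e (a.1 (k + e - e)) y - Cyc.pullFun π δY δ e (b.1 (k + e - e)) y := hzw (k + e)
  rw [add_sub_cancel_right] at h1
  exact h1.eq (pullFun_sub (p := π) (e : ℤ) _ _).symm

/-- Roots on a tower, for finitely many modules. -/
theorem exists_roots (hX : Cyc.IsSetup X δ) (m : ℕ) (E : Fin m → X.Modules) (rk : Fin m → ℕ)
    (hE : ∀ i, FlatMod.IsFinLocFreeOfRank (rk i) (E i)) :
    ∃ (S : Scheme.{u}) (π : S ⟶ X) (e : ℕ) (δS : S → ℤ) (hS : Cyc.IsSetup S δS),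
      IsSplit π δ e ∧ Cyc.DeltaCompat π δS δ ∧
        ∀ i, ∃ (L : Fin (rk i) → S.Modules) (hL : ∀ l, PicF.IsInvertible (L l)),
          Nonempty (Filt ((Scheme.Modules.pullback π).obj (E i)) (rk i) L) ∧
          HasRoots hS ((Scheme.Modules.pullback π).obj (E i)) (rk i) (Finset.univ.val.map fun l => c1R hS (hL l)) := by
  obtain ⟨S, π, e, h, hF⟩ := exists_split hX m E rk hE
  haveI := h.proper
  obtain ⟨δS, hS, hπ⟩ := exists_isSetup hX π
  refine ⟨S, π, e, δS, hS, h, hπ, fun i => ?_⟩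
  obtain ⟨L, hL, ⟨F⟩⟩ := hF i
  exact ⟨L, hL, ⟨F⟩, HasRoots.of_filt hL F⟩

end Groth.Agent.CycPB
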