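import Groth.Agent.CycPB.Ops
import Mathlib.RingTheory.MvPolynomial.Symmetric.Defs

/-!
Chern roots.
-/

set_option autoImplicit false
set_option linter.unusedSectionVars false
set_option linter.style.haveILetI false
set_option backward.isDefEq.respectTransparency false
set_option backward.isDefEq.respectTransparency.types false

universe u

open CategoryTheory CategoryTheory.Limits AlgebraicGeometry TopologicalSpace Opposite
open Groth.Agent.CycSec (secPull secPull_ne_zero)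
open scoped IsMulCommutative

noncomputable section

namespace Groth.Agent.CycPB

variable {X Y P Q : Scheme.{u}} {δ : X → ℤ} {δP : P → ℤ} {δQ : Q → ℤ}

/-- Elementary symmetric functions of a union. -/
theorem esymm_add {R : Type*} [CommRing R] (s t : Multiset R) (j : ℕ) :
    (s + t).esymm j = ∑ b ∈ Finset.range (j + 1), s.esymm (j - b) * t.esymm b := by
  have e0 : ∀ u : Multiset R, u.esymm 0 = 1 := fun u => by simp [Multiset.esymm]
  have hz : ∀ n : ℕ, (0 : Multiset R).esymm (n + 1) = 0 := fun n => by simp [Multiset.esymm]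
  have hcons : ∀ (x : R) (u : Multiset R) (n : ℕ), (x ::ₘ u).esymm (n + 1) = u.esymm (n + 1) + x * u.esymm n :=
    fun x u n => by
      simp [Multiset.esymm, Multiset.powersetCard_cons, Multiset.map_map, Function.comp_def,
        ← Multiset.sum_map_mul_left]
  induction t using Multiset.induction_on generalizing j with
  | empty =>
    rw [add_zero, Finset.sum_eq_single 0]
    · rw [e0, mul_one, Nat.sub_zero]
    · intro b _ hb
      obtain ⟨b', rfl⟩ := Nat.exists_eq_succ_of_ne_zero hb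
      rw [hz, mul_zero]
    · simp
  | cons x t ih =>
    cases j with
    | zero => simp [Multiset.esymm]
    | succ i =>
      rw [Multiset.add_cons, hcons, ih (i + 1), ih i, Finset.sum_range_succ' _ (i + 1),
        Finset.sum_range_succ' (fun b => s.esymm (i + 1 - b) * (x ::ₘ t).esymm b) (i + 1), Finset.mul_sum]
      simp only [hcons, Nat.succ_sub_succ_eq_sub, e0, mul_add, Finset.sum_add_distrib, Nat.sub_zero]
      have : ∀ b, x * (s.esymm (i - b) * t.esymm b) = s.esymm (i - b) * (x * t.esymm b) := fun b => by ring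
      simp only [this]
      ring

theorem esymm_of_card_lt {R : Type*} [CommRing R] (s : Multiset R) {j : ℕ} (h : Multiset.card s < j) : s.esymm j = 0 := by
  rw [Multiset.esymm, Multiset.powersetCard_eq_empty _ h, Multiset.map_zero, Multiset.sum_zero]

section basic

variable {p : P ⟶ X} [IsProper p] {E : X.Modules} {O : P.Modules} {r : ℕ}

theorem cT_eq_cT (hB : Bundle p δ δP E O r) {Q : Scheme.{u}} {p' : Q ⟶ X} [IsProper p'] {δQ : Q → ℤ} {O' : Q.Modules}
    {E' : X.Modules} (hB' : Bundle p' δ δQ E' O' r) (e : E ≅ E') (j : ℕ) : cT hB j = cT hB' j := by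
  refine AddMonoidHom.ext fun z => ?_
  obtain ⟨a, rfl⟩ := mkT_surjective z
  obtain ⟨q', hq'⟩ := hB'.proj
  have hB'' : Bundle p' δ δQ E O' r := ⟨hB'.setup, hB'.setupP, hB'.compat, ⟨_, PBundle.of_moduleIso hq' e⟩, hB.rank⟩
  refine mkT_eq_iff.2 fun k => ?_
  exact (cFam_spec hB' j a k ((exists_rel hB (a.2 (k + j))).choose_spec.1.transfer hB hB'')
    (RZ.zero.eq (funext fun x => by rw [(exists_rel hB (a.2 (k + j))).choose_spec.2, sub_self]))).neg_diff

theorem cT_of_lt (hB : Bundle p δ δP E O r) {j : ℕ} (h : r < j) : cT hB j = 0 := by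
  refine AddMonoidHom.ext fun z => ?_
  obtain ⟨a, rfl⟩ := mkT_surjective z
  refine (mkT_eq_iff (b := 0)).2 fun k => RZ.zero.eq (funext fun x => ?_)
  show (0 : ℤ) = nx _ j x - 0
  rw [nx_of_le _ (by omega), sub_zero]

theorem cT_zero (hB : Bundle p δ δP E O r) : cT hB 0 = 1 := by
  refine AddMonoidHom.ext fun z => ?_
  obtain ⟨a, rfl⟩ := mkT_surjective z
  refine mkT_eq_iff.2 fun k => RZ.zero.eq (funext fun x => ?_)
  show (0 : ℤ) = nx (exists_rel hB (a.2 (k + ((0 : ℕ) : ℤ)))).choose 0 x - a.1 k x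
  rw [nx_of_lt _ (Nat.succ_pos r), show (⟨0, Nat.succ_pos r⟩ : Fin (r + 1)) = 0 from rfl,
    (exists_rel hB (a.2 (k + ((0 : ℕ) : ℤ)))).choose_spec.2]
  simp

end basic

set_option maxHeartbeats 800000 in
/-- The product formula as operators. -/
theorem cT_whitney {r r₁ r₂ : ℕ} (hr : r = r₁ + r₂) {P₁ P₂ : Scheme.{u}} {p : P ⟶ X} [IsProper p]
    {p₁ : P₁ ⟶ X} [IsProper p₁] {p₂ : P₂ ⟶ X} [IsProper p₂] {δ₁ : P₁ → ℤ} {δ₂ : P₂ → ℤ}
    {E E₁ E₂ : X.Modules} {O : P.Modules} {O₁ : P₁.Modules} {O₂ : P₂.Modules} (hB : Bundle p δ δP E O r)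
    (hB₁ : Bundle p₁ δ δ₁ E₁ O₁ r₁) (hB₂ : Bundle p₂ δ δ₂ E₂ O₂ r₂) (f : E₁ ⟶ E) (g : E ⟶ E₂) (w : f ≫ g = 0)
    (hS : (ShortComplex.mk f g w).ShortExact) (j : ℕ) :
    cT hB j = ∑ b ∈ Finset.range (j + 1), cT hB₁ (j - b) * cT hB₂ b := by
  refine AddMonoidHom.ext fun z => ?_
  obtain ⟨a, rfl⟩ := mkT_surjective z
  choose d hd hd0 using fun l : ℤ => exists_rel hB₂ (a.2 l)
  choose c hc hc0 using fun l : ℤ => exists_rel hB (a.2 l)
  choose ε hε hε0 using fun (l : ℤ) (b : Fin (r₂ + 1)) => exists_rel hB₁ ((hd l).1 b)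
  have hone : ∀ b ∈ Finset.range (j + 1), ∀ k : ℤ, Cy δ k
      (if h : b < r₂ + 1 then nx (ε (k + j) ⟨b, h⟩) (j - b) else fun _ => 0) := fun b hb k => by
    have hb' := Finset.mem_range.1 hb
    split_ifs with h
    · have := cy_nx (hε (k + j) ⟨b, h⟩).1 (j - b)
      rwa [show k + (j : ℤ) - ((b : ℕ) : ℤ) - ((j - b : ℕ) : ℤ) = k by push_cast [show b ≤ j by omega]; ring] at this
    · exact Cy.zero
  have hterm : ∀ (b : ℕ) (hb : b ∈ Finset.range (j + 1)),
      (cT hB₁ (j - b) * cT hB₂ b) (mkT a) = mkT ⟨_, hone b hb⟩ := fun b hb => by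
    have hb' := Finset.mem_range.1 hb
    show cT hB₁ (j - b) (cT hB₂ b (mkT a)) = _
    have hc2 : (fun k : ℤ => nx (d (k + b)) b) ∈ gCy δ := fun k => by
      have := cy_nx (hd (k + b)).1 b
      rwa [add_sub_cancel_right] at this
    rw [cT_mk hB₂ b a (fun k => d (k + b)) (fun k => hd (k + b))
      (fun k => RZ.zero.eq (funext fun x => by rw [hd0, sub_self])) ⟨_, hc2⟩ fun k => RZ.refl _]
    by_cases h : b < r₂ + 1
    · refine cT_mk hB₁ (j - b) _ (fun k => ε (k + j) ⟨b, h⟩) (fun k => ?_) (fun k => ?_) _ fun k => ?_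
      · have := hε (k + j) ⟨b, h⟩
        rwa [show k + (j : ℤ) - ((b : ℕ) : ℤ) = k + ((j - b : ℕ) : ℤ) by push_cast [show b ≤ j by omega]; ring] at this
      · refine RZ.zero.eq (funext fun x => ?_)
        show (0 : ℤ) = ε (k + j) ⟨b, h⟩ 0 x - nx (d (k + ((j - b : ℕ) : ℤ) + b)) b x
        rw [show k + ((j - b : ℕ) : ℤ) + b = k + j by push_cast [show b ≤ j by omega]; ring, hε0, nx_of_lt _ h,
          sub_self]
      · refine RZ.zero.eq (funext fun x => ?_)
        show (0 : ℤ) = nx (ε (k + j) ⟨b, h⟩) (j - b) x -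
          (if h : b < r₂ + 1 then nx (ε (k + j) ⟨b, h⟩) (j - b) else fun _ => 0) x
        rw [dif_pos h, sub_self]
    · rw [show mkT (⟨fun k : ℤ => nx (d (k + b)) b, hc2⟩ : gCy δ) = 0 from
          (mkT_eq_iff (b := 0)).2 fun k => RZ.zero.eq (funext fun x => by
            show (0 : ℤ) = nx (d (k + b)) b x - 0
            rw [nx_of_le _ (by omega), sub_zero]), map_zero]
      refine ((mkT_eq_iff (b := 0)).2 fun k => RZ.zero.eq (funext fun x => ?_)).symm
      show (0 : ℤ) = (if h : b < r₂ + 1 then nx (ε (k + j) ⟨b, h⟩) (j - b) else fun _ => 0) x - 0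
      rw [dif_neg h, sub_zero]
  have hsum : ∀ s : Finset ℕ, (hs : s ⊆ Finset.range (j + 1)) →
      ∃ hmem : (fun (k : ℤ) (x : X) => ∑ b ∈ s, (if h : b < r₂ + 1 then nx (ε (k + j) ⟨b, h⟩) (j - b) else fun _ => 0) x) ∈
          gCy δ,
        (∑ b ∈ s, cT hB₁ (j - b) * cT hB₂ b) (mkT a) = mkT ⟨_, hmem⟩ := by
    intro s
    induction s using Finset.induction_on with
    | empty =>
      intro _
      refine ⟨fun k => Cy.zero, ?_⟩
      exact ((mkT_eq_iff (b := 0)).2 fun k => RZ.zero.eq (funext fun x => (sub_self (0 : ℤ)).symm)).symm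
    | insert b s hb ih =>
      intro hs
      obtain ⟨hmem, he⟩ := ih fun i hi => hs (Finset.mem_insert_of_mem hi)
      refine ⟨fun k => Cy.sum _ fun i hi => hone i (hs hi) k, ?_⟩
      rw [Finset.sum_insert hb]
      show (cT hB₁ (j - b) * cT hB₂ b) (mkT a) + (∑ i ∈ s, cT hB₁ (j - i) * cT hB₂ i) (mkT a) = _
      rw [he, hterm b (hs (Finset.mem_insert_self b s)), ← mkT_add]
      refine mkT_eq_iff.2 fun k => RZ.zero.eq (funext fun x => ?_)
      show (0 : ℤ) = _ + _ - ∑ i ∈ insert b s, _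
      rw [Finset.sum_insert hb, sub_self]
  obtain ⟨hmem, he⟩ := hsum (Finset.range (j + 1)) subset_rfl
  rw [he]
  refine cT_mk hB j a (fun k => c (k + j)) (fun k => hc _)
    (fun k => RZ.zero.eq (funext fun x => by rw [hc0, sub_self])) _ fun k => ?_
  have h := whitney hr hB hB₁ hB₂ f g w hS (hd (k + j)) (fun b => hε (k + j) b)
    (fun b => RZ.zero.eq (funext fun x => by rw [hε0, sub_self])) (hc (k + j))
    (RZ.zero.eq (funext fun x => by rw [hc0, hd0, sub_self])) j
  rw [add_sub_cancel_right] at h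
  refine h.eq (funext fun x => congrArg₂ (· - ·) rfl ?_)
  let F : ℕ → ℤ := fun b => (if h : b < r₂ + 1 then nx (ε (k + j) ⟨b, h⟩) (j - b) else fun _ => 0) x
  show _ = ∑ b ∈ Finset.range (j + 1), F b
  rw [wsum]
  have h1 : ∀ b : Fin (r₂ + 1), (if (b : ℕ) ≤ j then nx (ε (k + j) b) (j - b) x else 0) =
      if (b : ℕ) ≤ j then F b else 0 := fun b => by
    split_ifs
    · show _ = (if h : (b : ℕ) < r₂ + 1 then nx (ε (k + j) ⟨b, h⟩) (j - b) else fun _ => 0) x
      rw [dif_pos b.2]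
    · rfl
  rw [Finset.sum_congr rfl fun b _ => h1 b, Fin.sum_univ_eq_sum_range (fun b => if b ≤ j then F b else 0),
    ← Finset.sum_filter]
  refine Finset.sum_subset (fun b hb => Finset.mem_range.2 (by have := (Finset.mem_filter.1 hb).2; omega)) ?_
  intro b hb hb'
  show (if h : b < r₂ + 1 then nx (ε (k + j) ⟨b, h⟩) (j - b) else fun _ => 0) x = 0
  rw [dif_neg fun h => hb' (Finset.mem_filter.2 ⟨Finset.mem_range.2 h, by have := Finset.mem_range.1 hb; omega⟩)]

/-- Bundles exist in every rank. -/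
theorem exists_bundle (hX : Cyc.IsSetup X δ) {E : X.Modules} {r : ℕ} (hE : FlatMod.IsFinLocFreeOfRank r E) :
    ∃ (P : Scheme.{u}) (p : P ⟶ X) (_ : IsProper p) (O : P.Modules) (δP : P → ℤ), Bundle p δ δP E O r := by
  cases r with
  | succ n =>
    obtain ⟨P, p, O, q, hP, hp, -⟩ := exists_projBundle hE
    haveI := hp
    obtain ⟨δP, hPs, hδ⟩ := exists_isSetup hX p
    exact ⟨P, p, hp, O, δP, hX, hPs, hδ, ⟨q, hP⟩, hE⟩
  | zero =>
    let L := Coh.structureModule X
    have hL : PicF.IsInvertible L := TMul.isInvertible_structureModule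
    obtain ⟨P, p, O, q, hP, hp, -⟩ := exists_projBundle (n := 0) (CurveRR.isFinLocFreeOfRank_one hL)
    haveI := hp
    haveI := hP.epi
    have hS : (ShortComplex.mk (𝟙 L) (cokernel.π (𝟙 L)) (cokernel.condition _)).ShortExact :=
      { exact := ShortComplex.exact_cokernel _ }
    obtain ⟨Z, ι, hι, -, -, -, -, ⟨qZ, hqZ⟩, -⟩ := exists_subBundle hP hL (𝟙 L) _ _ hS
    haveI := hι
    obtain ⟨δP, hPs, hδ⟩ := exists_isSetup hX (ι ≫ p)
    have hz : IsZero E := by
      rw [IsZero.iff_id_eq_zero]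
      refine eq_zero_of_cover _ fun x => ?_
      obtain ⟨U, hxU, ⟨e⟩⟩ := hE x
      refine ⟨U, hxU, IsZero.eq_of_src ?_ _ _⟩
      refine IsZero.of_iso ?_ (((Scheme.Modules.restrictFunctorIsoPullback U.ι).app _).symm ≪≫ e)
      rw [IsZero.iff_id_eq_zero]
      exact Sigma.hom_ext _ _ fun i => i.elim0
    exact ⟨Z, ι ≫ p, inferInstance, _, δP, hX, hPs, hδ,
      ⟨_, PBundle.of_moduleIso hqZ (hz.iso (isZero_cokernel_of_epi _))⟩, hE⟩

/-- The Chern classes of `E` are the elementary symmetric functions of `s`. -/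
def HasRoots (hX : Cyc.IsSetup X δ) (E : X.Modules) (r : ℕ) (s : Multiset (c1Ring hX)) : Prop :=
  FlatMod.IsFinLocFreeOfRank r E ∧ Multiset.card s = r ∧
    ∀ (P : Scheme.{u}) (p : P ⟶ X) (_ : IsProper p) (O : P.Modules) (δP : P → ℤ) (hB : Bundle p δ δP E O r) (j : ℕ),
      cT hB j = ((s.esymm j : c1Ring hX) : AddMonoid.End (Tot δ))

variable {hX : Cyc.IsSetup X δ}

theorem HasRoots.of_iso {E E' : X.Modules} {r : ℕ} {s : Multiset (c1Ring hX)} (e : E ≅ E') (h : HasRoots hX E r s) :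
    HasRoots hX E' r s := by
  refine ⟨Nagata.isFinLocFreeOfRank_of_iso e h.1, h.2.1, fun P p hp O δP hB j => ?_⟩
  obtain ⟨Q, q, hq, OQ, δQ, hB'⟩ := exists_bundle hX h.1
  exact (cT_eq_cT hB hB' e.symm j).trans (h.2.2 Q q hq OQ δQ hB' j)

theorem HasRoots.of_shortExact {E₁ E E₂ : X.Modules} {r₁ r₂ : ℕ} {s t : Multiset (c1Ring hX)}
    (h₁ : HasRoots hX E₁ r₁ s) (h₂ : HasRoots hX E₂ r₂ t) (f : E₁ ⟶ E) (g : E ⟶ E₂) (w : f ≫ g = 0)
    (hS : (ShortComplex.mk f g w).ShortExact) : HasRoots hX E (r₁ + r₂) (s + t) := by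
  refine ⟨isFinLocFreeOfRank_middle hS h₁.1 h₂.1, by rw [Multiset.card_add, h₁.2.1, h₂.2.1],
    fun P p hp O δP hB j => ?_⟩
  obtain ⟨P₁, p₁, hp₁, O₁, δ₁, hB₁⟩ := exists_bundle hX h₁.1
  obtain ⟨P₂, p₂, hp₂, O₂, δ₂, hB₂⟩ := exists_bundle hX h₂.1
  rw [cT_whitney rfl hB hB₁ hB₂ f g w hS j, esymm_add, AddSubmonoidClass.coe_finsetSum]
  refine Finset.sum_congr rfl fun b _ => ?_
  rw [h₁.2.2 P₁ p₁ hp₁ O₁ δ₁ hB₁, h₂.2.2 P₂ p₂ hp₂ O₂ δ₂ hB₂]
  rfl

theorem HasRoots.zero {E : X.Modules} (hE : FlatMod.IsFinLocFreeOfRank 0 E) : HasRoots hX E 0 0 := by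
  refine ⟨hE, rfl, fun P p hp O δP hB j => ?_⟩
  cases j with
  | zero => rw [cT_zero]; simp [Multiset.esymm]
  | succ i => rw [cT_of_lt hB (by omega)]; simp [Multiset.esymm]

theorem HasRoots.line {L : X.Modules} (hL : PicF.IsInvertible L) : HasRoots hX L 1 {c1R hX hL} := by
  refine ⟨CurveRR.isFinLocFreeOfRank_one hL, rfl, fun P p hp O δP hB j => ?_⟩
  rcases j with _ | _ | j
  · rw [cT_zero]; simp [Multiset.esymm]
  · rw [show (({c1R hX hL} : Multiset (c1Ring hX)).esymm (0 + 1)) = c1R hX hL by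
      simp [Multiset.esymm, Multiset.powersetCard_one]]
    show cT hB 1 = c1T hX hL
    have hz : FlatMod.IsFinLocFreeOfRank 0 (cokernel (𝟙 L)) := fun x => by
      obtain ⟨U, hxU, -⟩ := CurveRR.isFinLocFreeOfRank_one hL x
      refine ⟨U, hxU, ⟨((Scheme.Modules.restrictFunctor U.ι).map_isZero (isZero_cokernel_of_epi _)).iso ?_⟩⟩
      rw [IsZero.iff_id_eq_zero]
      exact Sigma.hom_ext _ _ fun i => i.elim0
    obtain ⟨Q, q, hq, OQ, δQ, hB'⟩ := exists_bundle hX hz
    have hS : (ShortComplex.mk (𝟙 L) (cokernel.π (𝟙 L)) (cokernel.condition _)).ShortExact :=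
      { exact := ShortComplex.exact_cokernel _ }
    obtain ⟨v, hv⟩ := exists_sections hL
    refine AddMonoidHom.ext fun z => ?_
    obtain ⟨a, rfl⟩ := mkT_surjective z
    let b : gCy δ := ⟨fun k => Cyc.c1CapFun δ L (a.1 (k + 1)) v, fun k => Cy.cap hX hL hv (a.2 (k + 1))⟩
    rw [c1T_mk hX hL hv a b fun k => RZ.refl _]
    choose c hc hc0 using fun k : ℤ => exists_rel hB (a.2 (k + (1 : ℕ)))
    choose d hd hd0 using fun k : ℤ => exists_rel hB' (a.2 (k + (1 : ℕ)))
    refine cT_mk hB 1 a c hc (fun k => RZ.zero.eq (funext fun x => by rw [hc0, sub_self])) b fun k => ?_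
    have h := rel_ext_nat (m := 0) rfl hB hB' hL (𝟙 L) _ _ hS hv (hc k) (hd k)
      (RZ.zero.eq (funext fun x => by rw [hc0, hd0, sub_self])) 1
    rw [add_sub_cancel_right] at h
    refine h.eq (funext fun x => ?_)
    rw [nx_of_le (d k) le_rfl]
    show nx (c k) 1 x - (0 + Cyc.c1CapFun δ L (nx (d k) 0) v x) = nx (c k) 1 x - _
    rw [nx_of_lt (d k) Nat.one_pos, zero_add]
    congr 1
    show Cyc.c1CapFun δ L (d k 0) v x = Cyc.c1CapFun δ L (a.1 (k + 1)) v x
    rw [hd0 k]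
    rfl
  · rw [cT_of_lt hB (by omega), esymm_of_card_lt _ (by simp)]
    rfl

theorem HasRoots.of_filt : ∀ {r : ℕ} {E : X.Modules} {L : Fin r → X.Modules}
    (hL : ∀ i, PicF.IsInvertible (L i)) (_ : Filt E r L),
    HasRoots hX E r (Finset.univ.val.map fun i => c1R hX (hL i))
  | 0, E, L, hL, F => by
    refine HasRoots.zero fun x => ?_
    obtain ⟨U, -, hxU, -⟩ := exists_isAffineOpen_mem_and_subset (U := (⊤ : X.Opens)) (x := x) trivial
    refine ⟨U, hxU, ⟨((Scheme.Modules.restrictFunctor U.ι).map_isZero (IsZero.of_iso F.zero F.top.symm)).iso ?_⟩⟩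
    rw [IsZero.iff_id_eq_zero]
    exact Sigma.hom_ext _ _ fun i => i.elim0
  | n + 1, E, L, hL, F => by
    let F' : Filt (F.M (Fin.castSucc (Fin.last n))) n fun i => L (Fin.castSucc i) :=
      { M := fun i => F.M (Fin.castSucc i)
        zero := F.zero
        top := Iso.refl _
        a := fun i => F.a (Fin.castSucc i)
        b := fun i => F.b (Fin.castSucc i)
        comp := fun i => F.comp _
        exact := fun i => F.exact _ }
    have hrec := (HasRoots.of_filt (fun i => hL (Fin.castSucc i)) F').of_shortExact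
      (HasRoots.line (hX := hX) (hL (Fin.last n))) (F.a (Fin.last n)) (F.b (Fin.last n)) (F.comp _) (F.exact _)
    have hrec' := hrec.of_iso (show F.M (Fin.succ (Fin.last n)) ≅ E from F.top)
    convert hrec' using 1
    rw [Fin.univ_castSuccEmb, Finset.cons_val, Finset.map_val, Multiset.map_cons, Multiset.map_map,
      Multiset.add_comm, Multiset.singleton_add]
    rfl

end Groth.Agent.CycPB
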