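import Groth.Agent.CycPB.Pre
import Groth.Agent.CycK0.GysRelDiv
import Groth.Agent.CycDim.PushRat
import Groth.Agent.HypIso.Main
import Groth.Agent.ExtShX.DualPn
import Groth.Agent.AlgSpLib.FibreNoeth
import Groth.Agent.ProjMor.ProjSpaceBase
import Groth.Agent.S9684
import Groth.Agent.CycDim.RatBasic

/-!
The degree of the top power of the first Chern class of the twisting sheaf of projective space over a field.
-/

set_option autoImplicit false
set_option linter.unusedSectionVars false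
set_option linter.style.haveILetI false
set_option backward.isDefEq.respectTransparency false
set_option backward.isDefEq.respectTransparency.types false

universe u

open CategoryTheory CategoryTheory.Limits AlgebraicGeometry TopologicalSpace Opposite
open Groth.Agent.WeakAssLib (mgerm)
open Groth.Agent.QC (res)
open Groth.Agent.K0Dev (St)
open Groth.Agent.CDivNormal (genPrime)

noncomputable section

namespace Groth.Agent.CycPB

variable {K : Type u} [Field K] {X : Scheme.{u}}

local notation "pt" => Spec (CommRingCat.of K)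

theorem isSetup_pt (k : ℤ) : Cyc.IsSetup pt (fun _ => k) :=
  ⟨inferInstance, (CycDeg.isSetup_field K).2.1, fun a b _ hne => absurd (Subsingleton.elim a b) hne⟩

/-- Schemes locally of finite type over a field. -/
theorem isSetup_over_field (c : X ⟶ pt) [LocallyOfFiniteType c] {δ : X → ℤ} {k : ℤ}
    (hδ : Cyc.DeltaCompat c δ (fun _ => k)) : Cyc.IsSetup X δ := by
  refine ⟨LocallyOfFiniteType.isLocallyNoetherian c, fun x => ?_, S9684.result c _ (isSetup_pt k) _ hδ⟩
  obtain ⟨U, hU, hxU, -⟩ := exists_isAffineOpen_mem_and_subset (x := x) (U := (⊤ : X.Opens)) trivial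
  refine Catenary.isUniversallyCatenary_stalk hU x hxU ?_
  have hf : (c.appLE ⊤ U le_top).hom.FiniteType :=
    LocallyOfFiniteType.finiteType_appLE (f := c) (isAffineOpen_top _) hU le_top
  letI := (c.appLE ⊤ U le_top).hom.toAlgebra
  haveI : Algebra.FiniteType Γ(pt, ⊤) Γ(X, U) := hf
  refine Catenary.isUniversallyCatenary_of_finiteType (A := Γ(pt, ⊤))
    (Catenary.isUniversallyCatenary_of_ringEquiv (Scheme.ΓSpecIso (CommRingCat.of K)).commRingCatIsoToRingEquiv.symm ?_)
  haveI : IsAdicComplete (IsLocalRing.maximalIdeal K) K := by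
    rw [IsLocalRing.maximalIdeal_eq_bot]; infer_instance
  exact Cohen.isUniversallyCatenary_of_complete K

/-- On a point rational equivalence to zero is equality. -/
theorem eq_zero_of_ratEquivZero_pt {k : ℤ} {α : AlgebraicCycle pt ℤ} (h : Cyc.RatEquivZero (fun _ => k) k α)
    (y : pt) : α y = 0 := by
  obtain ⟨ι, ξ, f, hξ, -, -, h4⟩ := h
  haveI : IsEmpty ι := ⟨fun i => by have h : k = k + 1 := hξ i; omega⟩
  rw [h4, finsum_of_isEmpty]

/-- The degree of a zero cycle function. -/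
def deg (c : X ⟶ pt) (δ : X → ℤ) (k : ℤ) (b : X → ℤ) : ℤ :=
  ∑ᶠ x, b x * (AlgebraicCycle.mapCoeff c δ (fun _ => k) x : ℤ)

theorem deg_sub (c : X ⟶ pt) [IsProper c] (δ : X → ℤ) (k : ℤ) (a b : AlgebraicCycle X ℤ) :
    deg c δ k ⇑(a - b) = deg c δ k ⇑a - deg c δ k ⇑b := by
  haveI : CompactSpace X := QuasiCompact.compactSpace_of_compactSpace c
  have hf : ∀ (e : AlgebraicCycle X ℤ),
      (Function.support fun x => e x * (AlgebraicCycle.mapCoeff c δ (fun _ => k) x : ℤ)).Finite := fun e =>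
    (e.locallyFiniteSupport.finite_inter_support_of_isCompact isCompact_univ).subset fun x hx =>
      ⟨trivial, left_ne_zero_of_mul hx⟩
  simp only [deg]
  rw [← finsum_sub_distrib (hf a) (hf b)]
  exact finsum_congr fun x => sub_mul _ _ _

/-- The degree only depends on the class. -/
theorem deg_eq_of_ratEquiv (c : X ⟶ pt) [IsProper c] {δ : X → ℤ} {k : ℤ} (hδ : Cyc.DeltaCompat c δ (fun _ => k))
    (a b : AlgebraicCycle X ℤ) (h : Cyc.RatEquiv δ k a b) : deg c δ k ⇑a = deg c δ k ⇑b := by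
  haveI := (isSetup_over_field c hδ).1
  refine sub_eq_zero.1 ((deg_sub c δ k a b).symm.trans ?_)
  let m := AlgebraicCycle.map c δ (fun _ : pt => k) (a - b)
  have hm : ∀ y, m y = ∑ᶠ x ∈ (c ⁻¹' {y} : Set X),
      (a - b) x * (AlgebraicCycle.mapCoeff c δ (fun _ => k) x : ℤ) := fun y => rfl
  have h0 := eq_zero_of_ratEquivZero_pt (CycPush.ratEquivZero_map c (isSetup_over_field c hδ).2.2
    (isSetup_pt k).2.2 hδ k (a - b) h m hm) default
  rw [hm, show (c ⁻¹' {default} : Set X) = Set.univ from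
    Set.eq_univ_of_forall fun x => Subsingleton.elim _ _, finsum_mem_univ] at h0
  exact h0

/-- Iterated caps respect rational equivalence. -/
theorem exists_c1Pow_ratEquiv [IsLocallyNoetherian X] {δ : X → ℤ} (hX : Cyc.IsSetup X δ) {L : X.Modules}
    (hL : PicF.IsInvertible L) (t : ℕ → (ξ : X) → Cyc.secFibre L ξ) (ht : ∀ i ξ, t i ξ ≠ 0) {l : ℤ}
    (a b : AlgebraicCycle X ℤ) (ha : a ∈ Cyc.Zk X δ l) (hb : b ∈ Cyc.Zk X δ l) (h : Cyc.RatEquiv δ l a b) :
    ∀ m : ℕ, ∃ a' b' : AlgebraicCycle X ℤ, ⇑a' = Cyc.c1PowFun δ L t m ⇑a ∧ ⇑b' = Cyc.c1PowFun δ L t m ⇑b ∧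
      a' ∈ Cyc.Zk X δ (l - m) ∧ b' ∈ Cyc.Zk X δ (l - m) ∧ Cyc.RatEquiv δ (l - m) a' b'
  | 0 => ⟨a, b, rfl, rfl, by simpa using ha, by simpa using hb, by simpa using h⟩
  | m + 1 => by
    obtain ⟨a', b', ea, eb, ka, kb, hr⟩ := exists_c1Pow_ratEquiv hX hL t ht a b ha hb h m
    obtain ⟨a'', ha''⟩ := CycK0.secFin hX hL a' (t m) (ht m)
    obtain ⟨b'', hb''⟩ := CycK0.secFin hX hL b' (t m) (ht m)
    have el : l - ((m + 1 : ℕ) : ℤ) + 1 = l - m := by push_cast; ring
    have hk : ∀ {e e' : AlgebraicCycle X ℤ}, e ∈ Cyc.Zk X δ (l - m) → ⇑e' = Cyc.c1CapFun δ L ⇑e (t m) →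
        e' ∈ Cyc.Zk X δ (l - (m + 1 : ℕ)) := fun {e e'} he he' =>
      CycK0.cap_mem (fun x hx => (by_contra fun h => hx (he x h) : δ x = l - m).trans el.symm) he'
    refine ⟨a'', b'', by rw [ha'', ea]; rfl, by rw [hb'', eb]; rfl, hk ka ha'', hk kb hb'', ?_⟩
    refine CycK0.c1Cap_ratEquivZero hX hL (α := a' - b') (by rw [el]; exact hr) (t m) (ht m) _ (fun x hx => ?_)
      (funext fun x => ?_)
    · show a'' x - b'' x = 0
      rw [hk ka ha'' x hx, hk kb hb'' x hx, sub_zero]
    · show a'' x - b'' x = _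
      rw [ha'', hb'']
      exact (CycK0.c1CapFun_sub_apply (fun z => rfl) (C1Cap.finite_gen a' x) (C1Cap.finite_gen b' x)).symm

/-- Zero schemes only depend on the section up to isomorphism of modules. -/
theorem isZeroSchemeOf_moduleIso {Z : Scheme.{u}} {j : Z ⟶ X} {L L' : X.Modules} (e : L ≅ L')
    {s : Γ(L, (⊤ : X.Opens))} (h : Cyc.IsZeroSchemeOf j L s) : Cyc.IsZeroSchemeOf j L' (e.hom.app ⊤ s) := by
  have key : ∀ x : X, ∃ E : L.presheaf.stalk x ≃ₗ[X.presheaf.stalk x] L'.presheaf.stalk x,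
      E (mgerm L (show x ∈ (⊤ : X.Opens) from trivial) s) =
        mgerm L' (show x ∈ (⊤ : X.Opens) from trivial) (e.hom.app ⊤ s) := fun x =>
    ⟨((St x).mapIso e).toLinearEquiv, KFlat.pstMap_germ (DCoh.toP.map e.hom) x (show x ∈ (⊤ : X.Opens) from trivial) s⟩
  refine ⟨?_, fun d => ?_⟩
  · rw [h.1]
    ext x
    obtain ⟨E, hE⟩ := key x
    let m := IsLocalRing.maximalIdeal (X.presheaf.stalk x)
    have hm : (m • ⊤ : Submodule (X.presheaf.stalk x) (L.presheaf.stalk x)).map (E : L.presheaf.stalk x →ₗ[_] _) =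
        (m • ⊤ : Submodule (X.presheaf.stalk x) (L'.presheaf.stalk x)) := by
      rw [Submodule.map_smul'', Submodule.map_top, LinearMap.range_eq_top.2 E.surjective]
    show (Submodule.Quotient.mk _ : Cyc.secFibre L x) = 0 ↔ (Submodule.Quotient.mk _ : Cyc.secFibre L' x) = 0
    rw [Submodule.Quotient.mk_eq_zero, Submodule.Quotient.mk_eq_zero]
    show mgerm L (show x ∈ (⊤ : X.Opens) from trivial) s ∈ _ ↔
      mgerm L' (show x ∈ (⊤ : X.Opens) from trivial) (e.hom.app ⊤ s) ∈ _
    rw [← hE, ← hm, Submodule.mem_map_equiv, LinearEquiv.symm_apply_apply]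
  · obtain ⟨t, f, h1, h2, h3⟩ := h.2 d
    obtain ⟨E, hE⟩ := key (j d)
    refine ⟨E t, f, ?_, ?_, h3⟩
    · have := congrArg (Submodule.map E.toLinearMap) h1
      rw [Submodule.map_span, Set.image_singleton, Submodule.map_top, LinearEquiv.range] at this
      exact this
    · exact hE.symm.trans ((congrArg E h2).trans (map_smul E f t))

variable {n : ℕ}

instance : IsProper (CohB1.ProjSpace.toSpec n K) := ProjMor.isProper_toSpec n K

theorem hasRelDim_toSpec : Cyc.HasRelDim (CohB1.ProjSpace.toSpec n K) n := by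
  haveI := Horrocks.isIntegral_projSpace (k := K) (n := n)
  intro y T hT
  let c := CohB1.ProjSpace.toSpec n K
  have hr : Set.range (c.fiberι y) = Set.univ := by
    rw [Scheme.Hom.range_fiberι]
    exact Set.eq_univ_of_forall fun x => Subsingleton.elim _ _
  let H := (c.fiberι y).isEmbedding.toHomeomorph.trans ((Homeomorph.setCongr hr).trans (Homeomorph.Set.univ _))
  haveI : IrreducibleSpace ↥(c.fiber y) := H.symm.surjective.irreducibleSpace H.symm.continuous
  rw [irreducibleComponents_eq_singleton, Set.mem_singleton_iff] at hT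
  subst hT
  rw [← S10829.result K n, IsHomeomorph.topologicalKrullDim_eq _ ((Homeomorph.Set.univ _).trans H).isHomeomorph]

/-- A hyperplane. -/
theorem exists_hyperplane (n : ℕ) {O : (CohB1.ProjSpace (n + 1) K).Modules}
    (e : O ≅ Twist.twistProjSpace (n + 1) K 1) : ∃ (s : Γ(O, (⊤ : (CohB1.ProjSpace (n + 1) K).Opens)))
      (ι : CohB1.ProjSpace n K ⟶ CohB1.ProjSpace (n + 1) K), IsClosedImmersion ι ∧ Cyc.IsZeroSchemeOf ι O s ∧
      ι ≫ CohB1.ProjSpace.toSpec (n + 1) K = CohB1.ProjSpace.toSpec n K ∧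
      Nonempty ((Scheme.Modules.pullback ι).obj O ≅ Twist.twistProjSpace n K 1) := by
  let a : Fin (n + 2) → K := fun i => if i = 0 then 1 else 0
  have hj : a 0 ≠ 0 := by simp [a]
  let s₀ := ProjMor.sec1 (ProjMor.linForms_mem (n + 1) K a)
  let L := Twist.twistProjSpace (n + 1) K 1
  have hL : PicF.IsInvertible L :=
    GrT.isInvertible_twist (ProjMor.exists_notMem (ProjMor.genDegOne_projSpace (n + 1) K)) 1
  obtain ⟨r, hr, τ, hτ⟩ := ProjMor.exists_projSpace (CohB1.ProjSpace.toSpec n K)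
    (GrT.isInvertible_twist (ProjMor.exists_notMem (ProjMor.genDegOne_projSpace n K)) 1) (HypIso.emb a 0)
    (HypIso.generatedBy a 0)
  haveI := HypIso.isClosedImmersion a 0 r hr τ hτ
  let I := PicF2.zeroScheme L (TMul.homOf s₀)
  have hker : r.ker = I := by
    refine HypIso.ker_eq a 0 hj r hr τ hτ _ fun i => ?_
    have he : TMul.IsGen (res L le_top (ProjMor.sec1 (HypIso.X_mem₁ (k := K) i)) :
        Γ(L, Proj.basicOpen (CohB1.polyGrading (n + 1) K) (MvPolynomial.X i))) := by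
      have := (TMul.isGen_genLocus (TMul.homOf (ProjMor.sec1 (HypIso.X_mem₁ (k := K) i)))).res
        (ProjMor.genLocus_sec1 (ProjMor.genDegOne_projSpace (n + 1) K) (HypIso.X_mem₁ i)).ge
      rwa [TMul.val_homOf, QC.res_res] at this
    rw [← show ProjMor.linForms (n + 1) K a = ∑ l, a l • MvPolynomial.X l from Fintype.linearCombination_apply _ _ _]
    refine ZeroSch.ideal_zeroScheme_eq_span (TMul.homOf s₀) hL _ he ?_
    rw [TMul.val_homOf]
    exact ProjMor.res_sec1 (HypIso.X_mem₁ i) (ProjMor.linForms_mem (n + 1) K a)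
  have hk : I.subschemeι.ker = r.ker := I.ker_subschemeι.trans hker.symm
  haveI := IsClosedImmersion.isIso_lift I.subschemeι r hk
  have hz := isZeroSchemeOf_moduleIso e.symm
    (CycK0.isZeroSchemeOf_iso (asIso (IsClosedImmersion.lift I.subschemeι r hk.le))
      (isZeroSchemeOf_zeroScheme hL s₀))
  rw [asIso_hom, IsClosedImmersion.lift_fac] at hz
  exact ⟨_, r, inferInstance, hz, hr, ⟨(Scheme.Modules.pullback r).mapIso e ≪≫ τ⟩⟩

set_option maxHeartbeats 1000000 in
/-- The degree of the top power of the twisting sheaf is one. -/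
theorem degree : ∀ (n : ℕ) (O : (CohB1.ProjSpace n K).Modules), Nonempty (O ≅ Twist.twistProjSpace n K 1) →
    ∀ (δ : CohB1.ProjSpace n K → ℤ) (k : ℤ), Cyc.DeltaCompat (CohB1.ProjSpace.toSpec n K) δ (fun _ => k) →
    ∀ (t : ℕ → (ξ : CohB1.ProjSpace n K) → Cyc.secFibre O ξ), (∀ i ξ, t i ξ ≠ 0) →
    deg (CohB1.ProjSpace.toSpec n K) δ k (Cyc.c1PowFun δ O t n
      (Cyc.pullFun (CohB1.ProjSpace.toSpec n K) δ (fun _ => k) n fun _ => 1)) = 1 := by
  intro n
  induction n with
  | zero =>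
    intro O _ δ k hδ t _
    let c := CohB1.ProjSpace.toSpec 0 K
    haveI : IsIso c := ProjMor.isIso_toSpec_zero K
    let x₀ : CohB1.ProjSpace 0 K := c.homeomorph.symm default
    have hd : ∀ x, δ x = k := fun x => by
      obtain ⟨m, hm, hx⟩ := hδ x
      have h0 : Dual3.resTrdeg c x = 0 := CycK0.resTr_closed c x
      have : (m : Cardinal.{u}) = 0 := hm.symm.trans h0
      rw [Nat.cast_eq_zero.1 this, Nat.cast_zero, add_zero] at hx
      exact hx
    have hlen : Cyc.pullFun c δ (fun _ => k) (0 : ℕ) (fun _ => 1) x₀ = 1 := by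
      unfold Cyc.pullFun
      rw [if_pos (by rw [hd x₀, Nat.cast_zero, add_zero]), one_mul,
        IsLocalRing.map_maximalIdeal_of_surjective (c.stalkMap x₀).hom (c.stalkMap_surjective x₀)]
      haveI := isSimpleModule_iff_isCoatom.2 (IsLocalRing.maximalIdeal.isMaximal ((CohB1.ProjSpace 0 K).presheaf.stalk x₀)).out
      rw [Module.length_eq_one]
      rfl
    show deg c δ k (Cyc.pullFun c δ (fun _ => k) (0 : ℕ) fun _ => 1) = 1
    rw [deg, finsum_eq_single _ x₀ fun x hx => absurd (c.homeomorph.injective (Subsingleton.elim _ _)) hx, hlen, one_mul]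
    have hδ' : δ = fun x => k := funext hd
    rw [hδ']
    exact S1918.mapCoeff_closed c (fun _ => k) x₀
  | succ n ih =>
    intro O hO δ k hδ t ht
    obtain ⟨e⟩ := hO
    let c := CohB1.ProjSpace.toSpec (n + 1) K
    let c' := CohB1.ProjSpace.toSpec n K
    haveI := Horrocks.isIntegral_projSpace (k := K) (n := n + 1)
    haveI := Horrocks.isIntegral_projSpace (k := K) (n := n)
    have hP := isSetup_over_field c hδ
    haveI := hP.1
    have hO : PicF.IsInvertible O := fun x => by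
      obtain ⟨U, hx, ⟨φ⟩⟩ :=
        GrT.isInvertible_twist (ProjMor.exists_notMem (ProjMor.genDegOne_projSpace (n + 1) K)) 1 x
      exact ⟨U, hx, ⟨(Scheme.Modules.restrictFunctor U.ι).mapIso e ≪≫ φ⟩⟩
    obtain ⟨s, ι, hι, hZ, hιc, eH⟩ := exists_hyperplane n e
    let η := genericPoint (CohB1.ProjSpace (n + 1) K)
    have hηι : η ∉ Set.range ι := fun h => by
      have hs : Set.range ι = Set.univ := Set.univ_subset_iff.1 ((genericPoint_spec _).symm.subset.trans
        (closure_minimal (Set.singleton_subset_iff.2 h) ι.isClosedEmbedding.isClosed_range))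
      have hd := IsHomeomorph.topologicalKrullDim_eq _ (ι.isEmbedding.toHomeomorph.trans
        ((Homeomorph.setCongr hs).trans (Homeomorph.Set.univ _))).isHomeomorph
      rw [S10829.result, S10829.result, Nat.cast_inj] at hd
      omega
    have hreg : ∀ x, Function.Injective
        (fun a : (CohB1.ProjSpace (n + 1) K).presheaf.stalk x => a • (O.presheaf.germ ⊤ x trivial) s) := fun x => by
      obtain ⟨A, g, hx, hg, f, hf⟩ := CycK0.exists_coefficient hO s x
      have hf0 : f ≠ 0 := fun h0 => hηι ((CycK0.mem_genPrime_iff_mem_range hZ (genericPoint_specializes x) hg hx hf).1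
        (by rw [h0]; exact Ideal.zero_mem _))
      intro a b hab
      have h' : (a * f) • mgerm O hx g = (b * f) • mgerm O hx g := by
        rw [mul_smul, mul_smul, ← hf]; exact hab
      exact mul_right_cancel₀ hf0 ((RefDiv.bijective_germ_of_isGen hg hx).1 h')
    let δH : CohB1.ProjSpace n K → ℤ := fun d => δ (ι d)
    have hδH : Cyc.DeltaCompat c' δH (fun _ => k) := by
      have := CycK0.deltaCompat_closed_comp ι c hδ
      rwa [hιc] at this
    haveI : Flat c := AlgSpLib.flat_of_field c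
    haveI : Flat (ι ≫ c) := AlgSpLib.flat_of_field _
    let w : (ξ : CohB1.ProjSpace (n + 1) K) → Cyc.secFibre O ξ := t 0
    let gs := Cyc.gysinChoice O s w
    have hgs : ∀ ξ, gs ξ ≠ 0 := CycK0.gysinChoice_ne_zero (ht 0)
    obtain ⟨one, hone⟩ := CycK0.exists_cycle_affine (fun _ : pt => (1 : ℤ)) fun _ => Set.toFinite _
    have honek : one ∈ Cyc.Zk pt (fun _ => k) (k - 1 + 1) := fun y hy => absurd (by ring) hy
    obtain ⟨F, hF⟩ := CycK0.exists_cycle_affine (Cyc.pullFun c δ (fun _ => k) (n + 1 : ℕ) ⇑one) fun {U} hU =>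
      CycSec.finite_pullFun_cycle c hP.2.2 (fun x hx => ((CycDim.delta_le c hδ hasRelDim_toSpec x).2).2 hx) one hU
    have hFlev : ∀ x, F x ≠ 0 → δ x = k + (n + 1 : ℕ) ∧ x = η := fun x hx => by
      rw [hF] at hx
      have h1 : δ x = k + ((n + 1 : ℕ) : ℤ) := by
        by_contra h
        exact hx (if_neg h)
      exact ⟨h1, (((CycDim.delta_le c hδ hasRelDim_toSpec x).2).1 h1 η (Subsingleton.elim _ _)
        (genericPoint_specializes x)).symm⟩
    have hFk : F ∈ Cyc.Zk _ δ (k + n + 1) := fun x hx => by_contra fun h => hx (by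
      rw [(hFlev x h).1]; push_cast; ring)
    obtain ⟨γ₀, hγ₀⟩ := CycK0.secFin hP hO F (t 0) (ht 0)
    obtain ⟨γ₁, hγ₁⟩ := CycK0.secFin hP hO F gs hgs
    have lev : ∀ (γ : AlgebraicCycle _ ℤ) (v : (ξ : CohB1.ProjSpace (n + 1) K) → Cyc.secFibre O ξ),
        ⇑γ = Cyc.c1CapFun δ O ⇑F v → γ ∈ Cyc.Zk _ δ (k + n) := fun γ v hv =>
      CycK0.cap_mem (fun x hx => by rw [(hFlev x hx).1]; push_cast; ring) hv
    have hr : Cyc.RatEquiv δ (k + n) γ₀ γ₁ :=
      C1Cap.ratEquiv_cap δ hO (k + n) F hFk (t 0) gs (fun x _ => ht 0 x) (fun x _ => hgs x) γ₀ γ₁ hγ₀ hγ₁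
    obtain ⟨a', b', ea, eb, -, -, hr'⟩ :=
      exists_c1Pow_ratEquiv hP hO (fun i => t (i + 1)) (fun i => ht _) γ₀ γ₁ (lev _ _ hγ₀) (lev _ _ hγ₁) hr n
    rw [show k + (n : ℤ) - (n : ℤ) = k by ring] at hr'
    have e1 : Cyc.pullFun c δ (fun _ => k) (n + 1 : ℕ) (fun _ => 1) = ⇑F := by rw [hF, hone]
    rw [c1PowFun_succ', e1, ← hγ₀, ← ea,
      deg_eq_of_ratEquiv c hδ a' b' hr', eb]
    -- the first cap is the hyperplane
    let G := Cyc.pullFun c' δH (fun _ => k) n fun _ => 1
    have hin : ∀ d, γ₁ (ι d) = G d := fun d => by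
      rw [hγ₁, hF]
      have := CycK0.gysin_pullFun_eq hP (isSetup_pt k) c n hasRelDim_toSpec hδ hO s hreg ι hZ
        (by rw [hιc]; exact hasRelDim_toSpec) (k - 1) one honek w d
      push_cast at this ⊢
      rw [this, hιc, hone]
    have hout : ∀ x, γ₁ x ≠ 0 → x ∈ Set.range ι := fun x hx => by
      rw [hγ₁] at hx
      obtain ⟨ξ, hξ⟩ : ∃ ξ, F ξ * Cyc.secDivFun δ O ξ (gs ξ) x ≠ 0 := by
        by_contra! h
        exact hx (finsum_eq_zero_of_forall_eq_zero h)
      by_contra hxi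
      obtain ⟨hsp, hdx⟩ := CycSec.secDivFun_support (right_ne_zero_of_mul hξ)
      obtain ⟨-, rfl⟩ := hFlev ξ (left_ne_zero_of_mul hξ)
      obtain ⟨A, g, hxA, hg, f, hf⟩ := CycK0.exists_coefficient hO s x
      refine right_ne_zero_of_mul hξ ?_
      have hηA : η ∈ A := hsp.mem_open A.2 hxA
      have hgc : gs η = CycDim.spz hsp f • (Submodule.Quotient.mk (mgerm O hηA g) : Cyc.secFibre O η) := by
        have h1 := congrArg (RefStalk.msp O hsp) hf
        rw [RefStalk.msp_smul, RefStalk.msp_germ O hsp hxA g] at h1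
        rw [← Submodule.Quotient.mk_smul, ← h1, RefStalk.msp_germ O hsp (show x ∈ (⊤ : Scheme.Opens _) from trivial) s]
        show Cyc.gysinChoice O s w η = _
        unfold Cyc.gysinChoice
        exact if_pos fun h => hηι (by rw [hZ.1]; exact h)
      rw [Cyc.secDivFun, dif_pos ⟨hsp, hdx⟩, C1Cap.secOrdAt_eq hg hsp hxA hgc]
      exact (C1Cap.ordAt_unit hsp (CycK0.isUnit_of_notMem hZ hxi hxA hf))
    let tH : ℕ → (ξ : CohB1.ProjSpace n K) → Cyc.secFibre ((Scheme.Modules.pullback ι).obj O) ξ :=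
      fun i ξ => CycSec.secPull ι ξ (t (i + 1) (ι ξ))
    have hlev : ∀ x, γ₁ x ≠ 0 → δ x = k + n := fun x hx => by_contra fun h => hx (lev _ _ hγ₁ x h)
    have hb : ∀ d, Cyc.c1PowFun δ O (fun i => t (i + 1)) n ⇑γ₁ (ι d) = Cyc.c1PowFun δH _ tH n G d := fun d => by
      rw [c1PowFun_pre ι hO _ hlev (fun ξ x _ _ θ hθ hθ0 =>
        hθ.mem_closed ι.isClosedEmbedding.isClosed_range (hout θ hθ0)) n d,
        show (fun z => γ₁ (ι z)) = G from funext hin]
    refine Eq.trans ?_ (ih _ eH δH k hδH tH fun i ξ => CycSec.secPull_ne_zero ι hO ξ (ht _ _))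
    unfold deg
    refine Eq.trans ?_ (finsum_congr fun d => congrArg (· * _) (hb d))
    refine Eq.trans ?_ (Eq.trans (finsum_mem_range (g := ι) ι.isEmbedding.injective (f := fun x =>
      Cyc.c1PowFun δ O (fun i => t (i + 1)) n ⇑γ₁ x * (AlgebraicCycle.mapCoeff c δ (fun _ => k) x : ℤ))) ?_)
    · rw [← finsum_mem_univ]
      refine finsum_mem_inter_support_eq _ _ _ (Set.ext fun x => ⟨fun h => ⟨?_, h.2⟩, fun h => ⟨trivial, h.2⟩⟩)
      obtain ⟨-, θ, hθ, hθ0⟩ := c1PowFun_level _ hlev n x (left_ne_zero_of_mul h.2)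
      exact hθ.mem_closed ι.isClosedEmbedding.isClosed_range (hout θ hθ0)
    · refine finsum_congr fun d => congrArg (_ * ·) ?_
      rw [← hιc]
      unfold AlgebraicCycle.mapCoeff
      rw [CycDeg.residueDegree_comp, CycDeg.residueDegree_eq_one ι (CycPush.residueFieldMap_surjective_pre ι d), mul_one]

end Groth.Agent.CycPB
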