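import Groth.Agent.CycPB.Compat
import Groth.Agent.CycPB.Span
import Groth.Agent.S1922
import Groth.Agent.QCGen.RestrictLoc
import Groth.Agent.CurveRR.Tensor

/-!
Chern classes as operations: existence, linearity and commutation.
-/

set_option autoImplicit false
set_option linter.unusedSectionVars false
set_option linter.style.haveILetI false
set_option backward.isDefEq.respectTransparency false
set_option backward.isDefEq.respectTransparency.types false

universe u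

open CategoryTheory CategoryTheory.Limits AlgebraicGeometry TopologicalSpace Opposite
open Groth.Agent.EquidimPt (IsFibMax)
open Groth.Agent.WeakAssLib (mgerm)
open Groth.Agent.CycSec (secPull secPull_ne_zero)

noncomputable section

namespace Groth.Agent.CycPB

variable {X Y P Q : Scheme.{u}} {δ : X → ℤ} {δP : P → ℤ} {k : ℤ}

lemma RZ.eq {a b : X → ℤ} (h : RZ δ k a) (e : a = b) : RZ δ k b := e ▸ h

lemma RZ.neg_diff {a b : X → ℤ} (h : RZ δ k fun x => a x - b x) : RZ δ k fun x => b x - a x :=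
  (h.smul (-1)).eq (funext fun x => by ring)

lemma RZ.trans {a b c : X → ℤ} (h : RZ δ k fun x => a x - b x) (h' : RZ δ k fun x => b x - c x) :
    RZ δ k fun x => a x - c x :=
  (h.add h').eq (funext fun x => sub_add_sub_cancel _ _ _)

lemma RZ.refl (a : X → ℤ) : RZ δ k fun x => a x - a x :=
  RZ.zero.eq (funext fun x => (sub_self _).symm)

/-- Caps are linear on cycles. -/
lemma Cy.cap_sub [IsLocallyNoetherian X] {a b : X → ℤ} {l : ℤ} (ha : Cy δ l a) (hb : Cy δ l b) {L : X.Modules}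
    (v : (x : X) → Cyc.secFibre L x) (x : X) :
    Cyc.c1CapFun δ L (fun x => a x - b x) v x = Cyc.c1CapFun δ L a v x - Cyc.c1CapFun δ L b v x := by
  obtain ⟨A, rfl, -⟩ := ha
  obtain ⟨B, rfl, -⟩ := hb
  exact CycK0.c1CapFun_sub_apply (fun _ => rfl) (C1Cap.finite_gen A x) (C1Cap.finite_gen B x)

/-- The cap is independent of the sections. -/
theorem cap_change (hX : Cyc.IsSetup X δ) {L : X.Modules} (hL : PicF.IsInvertible L)
    {v v' : (x : X) → Cyc.secFibre L x} (hv : ∀ x, v x ≠ 0) (hv' : ∀ x, v' x ≠ 0) {a : X → ℤ} (ha : Cy δ (k + 1) a) :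
    RZ δ k fun x => Cyc.c1CapFun δ L a v x - Cyc.c1CapFun δ L a v' x := by
  obtain ⟨C, hC, hCk⟩ := ha.cap hX hL hv
  obtain ⟨C', hC', hCk'⟩ := ha.cap hX hL hv'
  obtain ⟨A, rfl, hA⟩ := ha
  rw [← hC, ← hC']
  exact RZ.of_ratEquiv hCk hCk' (C1Cap.ratEquiv_cap δ hL k A hA v v' (fun ξ _ => hv ξ) (fun ξ _ => hv' ξ) C C' hC hC')

/-- Two caps commute. -/
theorem cap_comm (hX : Cyc.IsSetup X δ) {L N : X.Modules} (hL : PicF.IsInvertible L) (hN : PicF.IsInvertible N)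
    {v : (x : X) → Cyc.secFibre L x} {w : (x : X) → Cyc.secFibre N x} (hv : ∀ x, v x ≠ 0) (hw : ∀ x, w x ≠ 0)
    {a : X → ℤ} (ha : Cy δ (k + 2) a) :
    RZ δ k fun x => Cyc.c1CapFun δ L (Cyc.c1CapFun δ N a w) v x - Cyc.c1CapFun δ N (Cyc.c1CapFun δ L a v) w x := by
  have ha' : Cy δ (k + 1 + 1) a := by rwa [add_assoc]
  obtain ⟨C, hC, hCk⟩ := (ha'.cap hX hN hw).cap hX hL hv
  obtain ⟨C', hC', hCk'⟩ := (ha'.cap hX hL hv).cap hX hN hw
  obtain ⟨A, rfl, hA⟩ := ha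
  rw [← hC, ← hC']
  exact RZ.of_ratEquiv hCk hCk' (S1922.result X δ hX L N hL hN k A hA v v w w hv hv hw hw C C' hC hC')

/-- Powers are independent of the sections. -/
theorem pow_change (hX : Cyc.IsSetup X δ) {L : X.Modules} (hL : PicF.IsInvertible L)
    {t t' : ℕ → (x : X) → Cyc.secFibre L x} (ht : ∀ i x, t i x ≠ 0) (ht' : ∀ i x, t' i x ≠ 0) {a : X → ℤ}
    (ha : Cy δ k a) : ∀ m : ℕ, RZ δ (k - m) fun x => Cyc.c1PowFun δ L t m a x - Cyc.c1PowFun δ L t' m a x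
  | 0 => RZ.refl _
  | m + 1 => by
    haveI := hX.1
    have el : k - ((m + 1 : ℕ) : ℤ) + 1 = k - m := by push_cast; ring
    have h1 : Cy δ (k - ((m + 1 : ℕ) : ℤ) + 1) (Cyc.c1PowFun δ L t m a) := by rw [el]; exact ha.pow hX hL ht m
    have h1' : Cy δ (k - ((m + 1 : ℕ) : ℤ) + 1) (Cyc.c1PowFun δ L t' m a) := by rw [el]; exact ha.pow hX hL ht' m
    have h2 := cap_change hX hL (ht m) (ht' m) h1
    have h3 : RZ δ (k - ((m + 1 : ℕ) : ℤ) + 1) fun x => Cyc.c1PowFun δ L t m a x - Cyc.c1PowFun δ L t' m a x := by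
      rw [el]; exact pow_change hX hL ht ht' ha m
    have h4 := (h3.cap hX hL (ht' m)).eq (funext fun x => h1.cap_sub h1' (t' m) x)
    exact h2.trans h4

/-- A cap commutes with powers. -/
theorem cap_pow_comm (hX : Cyc.IsSetup X δ) {L N : X.Modules} (hL : PicF.IsInvertible L) (hN : PicF.IsInvertible N)
    {v : (x : X) → Cyc.secFibre L x} (hv : ∀ x, v x ≠ 0) {t : ℕ → (x : X) → Cyc.secFibre N x}
    (ht : ∀ i x, t i x ≠ 0) {a : X → ℤ} (ha : Cy δ (k + 1) a) : ∀ m : ℕ, RZ δ (k - m) fun x =>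
      Cyc.c1CapFun δ L (Cyc.c1PowFun δ N t m a) v x - Cyc.c1PowFun δ N t m (Cyc.c1CapFun δ L a v) x
  | 0 => RZ.refl _
  | m + 1 => by
    haveI := hX.1
    have el : k - ((m + 1 : ℕ) : ℤ) + 1 = k - m := by push_cast; ring
    have el2 : k - ((m + 1 : ℕ) : ℤ) + 2 = k + 1 - m := by push_cast; ring
    have hb : Cy δ (k - ((m + 1 : ℕ) : ℤ) + 2) (Cyc.c1PowFun δ N t m a) := by rw [el2]; exact ha.pow hX hN ht m
    have h1 := cap_comm hX hL hN hv (ht m) hb
    have hb' : Cy δ (k - ((m + 1 : ℕ) : ℤ) + 1 + 1) (Cyc.c1PowFun δ N t m a) := by rwa [add_assoc]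
    have h2 : Cy δ (k - ((m + 1 : ℕ) : ℤ) + 1) (Cyc.c1CapFun δ L (Cyc.c1PowFun δ N t m a) v) := hb'.cap hX hL hv
    have h2' : Cy δ (k - ((m + 1 : ℕ) : ℤ) + 1) (Cyc.c1PowFun δ N t m (Cyc.c1CapFun δ L a v)) := by
      rw [el]; exact (ha.cap hX hL hv).pow hX hN ht m
    have h3 : RZ δ (k - ((m + 1 : ℕ) : ℤ) + 1) fun x =>
        Cyc.c1CapFun δ L (Cyc.c1PowFun δ N t m a) v x - Cyc.c1PowFun δ N t m (Cyc.c1CapFun δ L a v) x := by
      rw [el]; exact cap_pow_comm hX hL hN hv ht ha m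
    exact h1.trans ((h3.cap hX hN (ht m)).eq (funext fun x => h2.cap_sub h2' (t m) x))

lemma pullFun_smul (π : Q ⟶ X) (δQ : Q → ℤ) (c : ℤ) (e : ℤ) (a : X → ℤ) :
    Cyc.pullFun π δQ δ c (fun x => e * a x) = fun y => e * Cyc.pullFun π δQ δ c a y := by
  funext y
  unfold Cyc.pullFun
  split
  · exact mul_assoc _ _ _
  · rw [mul_zero]

lemma pullFun_add (π : Q ⟶ X) (δQ : Q → ℤ) (c : ℤ) (a b : X → ℤ) :
    Cyc.pullFun π δQ δ c (fun x => a x + b x) = fun y => Cyc.pullFun π δQ δ c a y + Cyc.pullFun π δQ δ c b y := by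
  funext y
  unfold Cyc.pullFun
  split
  · exact add_mul _ _ _
  · rw [add_zero]

/-- The projective bundle of a zero module is empty. -/
theorem isEmpty_of_rank_zero {p : P ⟶ X} {E : X.Modules} {O : P.Modules} {q : (Scheme.Modules.pullback p).obj E ⟶ O}
    (hPB : KRR.IsProjBundle p E O q) (hE : FlatMod.IsFinLocFreeOfRank 0 E) : IsEmpty P := by
  refine ⟨fun x => ?_⟩
  haveI := hPB.epi
  obtain ⟨U, hxU, ⟨e⟩⟩ := CurveRR.Multi.isFinLocFreeOfRank_pullback p hE x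
  have hz : IsZero (((Scheme.Modules.pullback p).obj E).restrict U.ι) :=
    IsZero.of_iso (by
      rw [IsZero.iff_id_eq_zero]
      exact Sigma.hom_ext _ _ fun i => i.elim0) e
  have hO0 : IsZero (O.restrict U.ι) := by
    rw [IsZero.iff_id_eq_zero]
    refine (cancel_epi ((Scheme.Modules.restrictFunctor U.ι).map q)).1 ?_
    exact hz.eq_of_src _ _
  obtain ⟨A, g, hxA, hg⟩ := TMul.exists_isGen (PBundle.isInvertible hPB) x
  haveI := CurveRR.subsingleton_stalk fun hx => (QCGen.isZero_restrict_iff_support O U).1 hO0 hx hxU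
  have h1 := (RefDiv.bijective_germ_of_isGen hg hxA).1 (a₁ := 1) (a₂ := 0) (Subsingleton.elim _ _)
  exact one_ne_zero h1

/-- A family of cycles satisfying the relation which defines Chern classes. -/
def Rel (p : P ⟶ X) (δ : X → ℤ) (δP : P → ℤ) (O : P.Modules) (r : ℕ) (k : ℤ) (c : Fin (r + 1) → X → ℤ) : Prop :=
  (∀ j : Fin (r + 1), Cy δ (k - ((j : ℕ) : ℤ)) (c j)) ∧
    ∀ t : ℕ → (ξ : P) → Cyc.secFibre O ξ, (∀ i ξ, t i ξ ≠ 0) → 1 ≤ r →
      RZ δP (k - 1) fun y => ∑ i : Fin (r + 1), term p δP δ O t r i (c (Fin.rev i)) y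

variable {p : P ⟶ X} [IsProper p] {O : P.Modules} {E : X.Modules} {q : (Scheme.Modules.pullback p).obj E ⟶ O}
  {r : ℕ}

/-- The ambient hypotheses. -/
structure Bundle (p : P ⟶ X) (δ : X → ℤ) (δP : P → ℤ) (E : X.Modules) (O : P.Modules) (r : ℕ) : Prop where
  setup : Cyc.IsSetup X δ
  setupP : Cyc.IsSetup P δP
  compat : Cyc.DeltaCompat p δP δ
  proj : ∃ q : (Scheme.Modules.pullback p).obj E ⟶ O, KRR.IsProjBundle p E O q
  rank : FlatMod.IsFinLocFreeOfRank r E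

omit [IsProper p] in
lemma Bundle.invertible (hB : Bundle p δ δP E O r) : PicF.IsInvertible O :=
  let ⟨_, h⟩ := hB.proj; PBundle.isInvertible h

lemma Bundle.fibres (hB : Bundle p δ δP E O r) : (1 ≤ r → Flat p) ∧ ∀ n, r = n + 1 → HasPnFibres p O n :=
  let ⟨_, h⟩ := hB.proj; fibres_of_isProjBundle h hB.rank

lemma Bundle.relDim (hB : Bundle p δ δP E O r) {n : ℕ} (e : r = n + 1) : Cyc.HasRelDim p n :=
  hasRelDim_of_hasPnFibres (hB.fibres.2 n e)

lemma Bundle.cy_term (hB : Bundle p δ δP E O r) {t : ℕ → (ξ : P) → Cyc.secFibre O ξ} (ht : ∀ i ξ, t i ξ ≠ 0)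
    (hr : 1 ≤ r) (i : Fin (r + 1)) {a : X → ℤ} (ha : Cy δ (k - ((Fin.rev i : Fin (r + 1)) : ℕ)) a) :
    Cy δP (k - 1) (term p δP δ O t r i a) := by
  obtain ⟨n, rfl⟩ : ∃ n, r = n + 1 := ⟨r - 1, by omega⟩
  refine Cy.term hB.setup hB.setupP hB.compat (hB.relDim rfl) hB.invertible ht i ?_
  have hlt := i.2
  rwa [show k - ((Fin.rev i : Fin (n + 1 + 1)) : ℕ) = k - ((n + 1 : ℕ) : ℤ) + (i : ℕ) by
    simp only [Fin.val_rev]; omega] at ha

lemma term_smul (t : ℕ → (ξ : P) → Cyc.secFibre O ξ) (i : ℕ) (e : ℤ) (a : X → ℤ) :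
    term p δP δ O t r i (fun x => e * a x) = fun y => e * term p δP δ O t r i a y := by
  funext y
  unfold term
  rw [pullFun_smul, c1PowFun_smul]
  exact mul_left_comm _ _ _

lemma Bundle.term_add (hB : Bundle p δ δP E O r) {t : ℕ → (ξ : P) → Cyc.secFibre O ξ} (ht : ∀ i ξ, t i ξ ≠ 0)
    (hr : 1 ≤ r) (i : ℕ) {a b : X → ℤ} {l : ℤ} (ha : Cy δ l a) (hb : Cy δ l b) :
    term p δP δ O t r i (fun x => a x + b x) = fun y => term p δP δ O t r i a y + term p δP δ O t r i b y := by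
  obtain ⟨n, rfl⟩ : ∃ n, r = n + 1 := ⟨r - 1, by omega⟩
  haveI := hB.setup.1
  funext y
  unfold term
  rw [show ((n + 1 : ℕ) : ℤ) - 1 = n by push_cast; ring, pullFun_add,
    (ha.pull hB.setupP hB.compat (hB.relDim rfl)).pow_add hB.setupP hB.invertible ht
      (hb.pull hB.setupP hB.compat (hB.relDim rfl)) i]
  exact mul_add _ _ _

theorem Rel.add (hB : Bundle p δ δP E O r) {c d : Fin (r + 1) → X → ℤ} (hc : Rel p δ δP O r k c)
    (hd : Rel p δ δP O r k d) : Rel p δ δP O r k fun j x => c j x + d j x := by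
  refine ⟨fun j => (hc.1 j).add (hd.1 j), fun t ht hr => ?_⟩
  refine ((hc.2 t ht hr).add (hd.2 t ht hr)).eq (funext fun y => ?_)
  rw [← Finset.sum_add_distrib]
  exact Finset.sum_congr rfl fun i _ => (congrFun (hB.term_add ht hr i (hc.1 _) (hd.1 _)) y).symm

theorem Rel.smul (e : ℤ) {c : Fin (r + 1) → X → ℤ} (hc : Rel p δ δP O r k c) :
    Rel p δ δP O r k fun j x => e * c j x := by
  refine ⟨fun j => (hc.1 j).smul e, fun t ht hr => ?_⟩
  refine ((hc.2 t ht hr).smul e).eq (funext fun y => ?_)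
  rw [Finset.mul_sum]
  exact Finset.sum_congr rfl fun i _ => (congrFun (term_smul (δ := δ) (δP := δP) (p := p) t i e _) y).symm

theorem Rel.sub (hB : Bundle p δ δP E O r) {c d : Fin (r + 1) → X → ℤ} (hc : Rel p δ δP O r k c)
    (hd : Rel p δ δP O r k d) : Rel p δ δP O r k fun j x => c j x - d j x := by
  have h := hc.add hB (hd.smul (-1))
  simpa only [neg_one_mul, ← sub_eq_add_neg] using h

theorem Rel.zero (hB : Bundle p δ δP E O r) : Rel p δ δP O r k fun _ _ => 0 := by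
  refine ⟨fun _ => Cy.zero, fun t ht hr => RZ.zero.eq (funext fun y => ?_)⟩
  refine (Finset.sum_eq_zero fun i _ => ?_).symm
  have h := congrFun (term_smul (δ := δ) (δP := δP) (p := p) (r := r) t (i : ℕ) 0 fun _ => 0) y
  simpa using h

theorem Rel.sum (hB : Bundle p δ δP E O r) {ι : Type*} (s : Finset ι) {f : ι → Fin (r + 1) → X → ℤ}
    (h : ∀ i ∈ s, Rel p δ δP O r k (f i)) : Rel p δ δP O r k fun j x => ∑ i ∈ s, f i j x := by
  classical
  induction s using Finset.induction_on with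
  | empty => simpa using (Rel.zero (k := k) hB)
  | insert i s hi ih =>
    simp only [Finset.sum_insert hi]
    exact (h i (Finset.mem_insert_self i s)).add hB (ih fun j hj => h j (Finset.mem_insert_of_mem hj))

/-- A family whose leading member is rationally zero is rationally zero. -/
theorem Rel.rz (hB : Bundle p δ δP E O r) {c : Fin (r + 1) → X → ℤ} (hc : Rel p δ δP O r k c) (h0 : RZ δ k (c 0))
    (j : Fin (r + 1)) : RZ δ (k - ((j : ℕ) : ℤ)) (c j) := by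
  obtain ⟨t, ht⟩ := exists_sections hB.invertible
  exact chern_unique hB.setup hB.setupP hB.compat hB.invertible hB.fibres.1 hB.fibres.2 c hc.1 h0 (fun _ => t)
    (fun _ => ht) (fun hr => hc.2 _ (fun _ => ht) hr) j

theorem Rel.unique (hB : Bundle p δ δP E O r) {c d : Fin (r + 1) → X → ℤ} (hc : Rel p δ δP O r k c)
    (hd : Rel p δ δP O r k d) (h0 : RZ δ k fun x => c 0 x - d 0 x) (j : Fin (r + 1)) :
    RZ δ (k - ((j : ℕ) : ℤ)) fun x => c j x - d j x :=
  Rel.rz hB (hc.sub hB hd) h0 j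

/-- The relation for one choice of sections suffices. -/
theorem Rel.of_one (hB : Bundle p δ δP E O r) {c : Fin (r + 1) → X → ℤ}
    (hc : ∀ j : Fin (r + 1), Cy δ (k - ((j : ℕ) : ℤ)) (c j)) (t₀ : ℕ → (ξ : P) → Cyc.secFibre O ξ)
    (ht₀ : ∀ i ξ, t₀ i ξ ≠ 0)
    (h : 1 ≤ r → RZ δP (k - 1) fun y => ∑ i : Fin (r + 1), term p δP δ O t₀ r i (c (Fin.rev i)) y) :
    Rel p δ δP O r k c := by
  refine ⟨hc, fun t ht hr => ?_⟩
  have h2 : RZ δP (k - 1) fun y => ∑ i : Fin (r + 1),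
      (term p δP δ O t r i (c (Fin.rev i)) y - term p δP δ O t₀ r i (c (Fin.rev i)) y) := by
    refine RZ.sum Finset.univ fun i _ => ?_
    obtain ⟨n, rfl⟩ : ∃ n, r = n + 1 := ⟨r - 1, by omega⟩
    haveI := hB.setup.1
    have hlt := i.2
    have h1 := (pow_change hB.setupP hB.invertible ht ht₀
      ((hc (Fin.rev i)).pull hB.setupP hB.compat (hB.relDim rfl)) (i : ℕ)).smul ((-1 : ℤ) ^ (i : ℕ))
    rw [show k - ((Fin.rev i : Fin (n + 1 + 1)) : ℕ) + n - ((i : ℕ) : ℤ) = k - 1 by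
      simp only [Fin.val_rev]; omega] at h1
    refine h1.eq (funext fun y => ?_)
    unfold term
    rw [show ((n + 1 : ℕ) : ℤ) - 1 = n by push_cast; ring]
    exact mul_sub _ _ _
  refine (h2.add (h hr)).eq (funext fun y => ?_)
  rw [← Finset.sum_add_distrib]
  exact Finset.sum_congr rfl fun i _ => sub_add_cancel _ _

theorem Rel.of_chern (hB : Bundle p δ δP E O r) {α : AlgebraicCycle X ℤ} {γ : Fin (r + 1) → AlgebraicCycle X ℤ}
    (hγ : Cyc.IsChernCap p δ δP O r k α γ) : Rel p δ δP O r k fun j => ⇑(γ j) :=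
  ⟨fun j => Cy.mk (hγ.2.1 j), fun t ht hr => chern_rel hB.setup hB.setupP hB.compat hB.invertible hB.fibres.2 hγ t ht hr⟩

theorem Rel.isChernCap (hB : Bundle p δ δP E O r) {γ : Fin (r + 1) → AlgebraicCycle X ℤ}
    (h : Rel p δ δP O r k fun j => ⇑(γ j)) (hk : ∀ j : Fin (r + 1), γ j ∈ Cyc.Zk X δ (k - ((j : ℕ) : ℤ))) :
    Cyc.IsChernCap p δ δP O r k (γ 0) γ := by
  refine ⟨rfl, hk, fun t ht β hβ => ?_⟩
  by_cases hr : 1 ≤ r
  · exact RZ.ratEquivZero ((h.2 t ht hr).eq (funext fun y => (hβ y).symm))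
  · obtain ⟨q, hq⟩ := hB.proj
    obtain rfl : r = 0 := by omega
    haveI := isEmpty_of_rank_zero hq hB.rank
    exact CycRat.ratEquivZero_zero fun y => isEmptyElim y

/-- Chern classes exist. -/
theorem exists_rel (hB : Bundle p δ δP E O r) {a : X → ℤ} (ha : Cy δ k a) :
    ∃ c : Fin (r + 1) → X → ℤ, Rel p δ δP O r k c ∧ c 0 = a := by
  obtain ⟨t, ht⟩ := exists_sections hB.invertible
  rcases Nat.eq_zero_or_pos r with rfl | hr
  · exact ⟨fun _ => a, ⟨fun j => by rw [show ((j : ℕ) : ℤ) = 0 by omega, sub_zero]; exact ha,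
      fun _ _ h => absurd h (by omega)⟩, rfl⟩
  obtain ⟨n, rfl⟩ : ∃ n, r = n + 1 := ⟨r - 1, by omega⟩
  haveI := hB.setup.1
  let T : ℕ → (ξ : P) → Cyc.secFibre O ξ := fun _ => t
  have hT : Cy δP (k - 1) (term p δP δ O T (n + 1) (Fin.last (n + 1) : Fin (n + 1 + 1)) a) :=
    hB.cy_term (fun _ => ht) hr _ (by rw [Fin.rev_last]; simpa using ha)
  obtain ⟨C, hC, hCk⟩ := hT
  obtain ⟨α, hα, hrel⟩ := span (k := k - (n + 1 : ℕ)) hB.setup hB.setupP hB.compat (hB.fibres.2 n rfl) hB.invertible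
    (fun _ => T) (fun _ _ => ht) C (by rw [show k - ((n + 1 : ℕ) : ℤ) + n = k - 1 by push_cast; ring]; exact hCk)
  rw [show k - ((n + 1 : ℕ) : ℤ) + n = k - 1 by push_cast; ring] at hrel
  let c : Fin (n + 1 + 1) → X → ℤ := Fin.cases a fun j x => -((-1 : ℤ) ^ ((Fin.rev j : Fin (n + 1)) : ℕ)) * α (Fin.rev j) x
  refine ⟨c, Rel.of_one hB (fun j => ?_) T (fun _ => ht) (fun _ => ?_), rfl⟩
  · refine Fin.cases ?_ (fun i => ?_) j
    · simpa [c] using ha
    · have := (hα (Fin.rev i)).smul (-((-1 : ℤ) ^ ((Fin.rev i : Fin (n + 1)) : ℕ)))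
      have hlt := i.2
      rw [show k - ((n + 1 : ℕ) : ℤ) + ((Fin.rev i : Fin (n + 1)) : ℕ) = k - (((i.succ : Fin (n + 1 + 1)) : ℕ) : ℤ) by
        simp only [Fin.val_rev, Fin.val_succ]; omega] at this
      simpa [c] using this
  · refine hrel.eq (funext fun y => ?_)
    rw [Fin.sum_univ_castSucc (n := n + 1), Fin.rev_last, hC]
    show term p δP δ O T (n + 1) (Fin.last (n + 1) : Fin (n + 1 + 1)) a y - _ =
      _ + term p δP δ O T (n + 1) (Fin.last (n + 1) : Fin (n + 1 + 1)) (c 0) y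
    rw [show c 0 = a from rfl, sub_eq_add_neg, ← Finset.sum_neg_distrib, add_comm (Finset.sum _ _) (term p δP δ O T (n + 1) _ a y)]
    refine congrArg _ (Finset.sum_congr rfl fun i _ => ?_)
    rw [Fin.rev_castSucc]
    show -_ = term p δP δ O T (n + 1) (i : ℕ)
      (fun x => -((-1 : ℤ) ^ ((Fin.rev (Fin.rev i) : Fin (n + 1)) : ℕ)) * α (Fin.rev (Fin.rev i)) x) y
    rw [Fin.rev_rev, term_smul]
    unfold term
    rw [show ((n + 1 : ℕ) : ℤ) - 1 = n by push_cast; ring]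
    beta_reduce
    rw [neg_mul, ← mul_assoc, ← pow_add, ← two_mul, pow_mul,
      neg_one_sq, one_pow, one_mul]

/-- Chern tuples exist. -/
theorem exists_chernCap (hB : Bundle p δ δP E O r) {α : AlgebraicCycle X ℤ} (hα : α ∈ Cyc.Zk X δ k) :
    ∃ γ : Fin (r + 1) → AlgebraicCycle X ℤ, Cyc.IsChernCap p δ δP O r k α γ := by
  obtain ⟨c, hc, h0⟩ := exists_rel hB (Cy.mk hα)
  choose γ hγ hγk using hc.1
  have h : Rel p δ δP O r k fun j => ⇑(γ j) := by simpa only [hγ] using hc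
  have e0 : γ 0 = α := DFunLike.coe_injective ((hγ 0).trans h0)
  exact ⟨γ, e0 ▸ h.isChernCap hB hγk⟩

omit [IsProper p] in
/-- Base change of the ambient hypotheses. -/
theorem Bundle.baseChange (hB : Bundle p δ δP E O r) {δY : Y → ℤ} {δQ : Q → ℤ} (hY : Cyc.IsSetup Y δY) (f : Y ⟶ X)
    (hf : Cyc.DeltaCompat f δY δ) (π : Q ⟶ Y) (f' : Q ⟶ P) (hsq : IsPullback f' π p f) (hQ : Cyc.IsSetup Q δQ)
    (hπ : Cyc.DeltaCompat π δQ δY) :
    Bundle π δY δQ ((Scheme.Modules.pullback f).obj E) ((Scheme.Modules.pullback f').obj O) r :=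
  ⟨hY, hQ, hπ, let ⟨_, h⟩ := hB.proj; ⟨_, PBundle.of_isPullback h hsq⟩,
    CurveRR.Multi.isFinLocFreeOfRank_pullback f hB.rank⟩

set_option maxHeartbeats 1000000 in
/-- Flat pull back of the relation. -/
theorem Rel.pull (hB : Bundle p δ δP E O r) {δY : Y → ℤ} {δQ : Q → ℤ} (hY : Cyc.IsSetup Y δY) (f : Y ⟶ X) [Flat f]
    [LocallyOfFiniteType f] {e : ℕ} (he : Cyc.HasRelDim f e) (hf : Cyc.DeltaCompat f δY δ) (π : Q ⟶ Y) [IsProper π]
    (f' : Q ⟶ P) (hsq : IsPullback f' π p f) (hQ : Cyc.IsSetup Q δQ) (hπ : Cyc.DeltaCompat π δQ δY)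
    {c : Fin (r + 1) → X → ℤ} (hc : Rel p δ δP O r k c) :
    Rel π δY δQ ((Scheme.Modules.pullback f').obj O) r (k + e) fun j => Cyc.pullFun f δY δ e (c j) := by
  haveI := hB.setup.1
  haveI := hB.setupP.1
  haveI := hY.1
  haveI := hQ.1
  have hB' := hB.baseChange hY f hf π f' hsq hQ hπ
  obtain ⟨t, ht⟩ := exists_sections hB.invertible
  refine Rel.of_one hB' (fun j => ?_) (fun _ ξ => secPull f' ξ (t (f' ξ)))
    (fun _ ξ => secPull_ne_zero f' hB.invertible ξ (ht _)) fun hr => ?_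
  · have := (hc.1 j).pullR hY f hf he
    rwa [show k - ((j : ℕ) : ℤ) + e = k + e - ((j : ℕ) : ℤ) by ring] at this
  haveI : Flat f' := MorphismProperty.of_isPullback hsq.flip ‹_›
  haveI : LocallyOfFiniteType f' := MorphismProperty.of_isPullback hsq.flip ‹_›
  have hf' : Cyc.DeltaCompat f' δQ δP := deltaCompat_square hsq.w hf hB.compat hπ
  have hc' : Cyc.HasRelDim f' e := (S9358.result f p π f' hsq.flip e).2.2 he
  obtain ⟨n, rfl⟩ : ∃ n, r = n + 1 := ⟨r - 1, by omega⟩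
  have hn := hB.relDim rfl
  have hn' := hB'.relDim rfl
  haveI := hB.fibres.1 hr
  haveI := hB'.fibres.1 hr
  have h := (hc.2 (fun _ => t) (fun _ => ht) hr).pullR hB.setupP hQ f' hf' hc'
  rw [show k - 1 + (e : ℤ) = k + e - 1 by ring] at h
  refine h.eq (funext fun y => ?_)
  rw [show Cyc.pullFun f' δQ δP e (fun y => ∑ i : Fin (n + 1 + 1),
      term p δP δ O (fun _ => t) (n + 1) i (c (Fin.rev i)) y) y = ∑ i : Fin (n + 1 + 1),
      Cyc.pullFun f' δQ δP e (term p δP δ O (fun _ => t) (n + 1) i (c (Fin.rev i))) y by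
    unfold Cyc.pullFun
    split
    · exact Finset.sum_mul _ _ _
    · exact Finset.sum_const_zero.symm]
  refine Finset.sum_congr rfl fun i _ => ?_
  unfold term
  rw [congrFun (pullFun_smul f' δQ e ((-1 : ℤ) ^ (i : ℕ)) _) y, show ((n + 1 : ℕ) : ℤ) - 1 = n by push_cast; ring,
    pullFun_c1Pow hB.setupP hQ f' hf' hc' hB.invertible (fun _ => t) (fun _ => ht)
      ((hc.1 (Fin.rev i)).pull hB.setupP hB.compat hn) i]
  have hcf : ∀ x, IsFibMax f x → δY x = δ (f x) + e := fun x hx => ((CycDim.delta_le f hf he x).2).2 hx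
  have hcf' : ∀ x, IsFibMax f' x → δQ x = δP (f' x) + e := fun x hx => ((CycDim.delta_le f' hf' hc' x).2).2 hx
  have hcp : ∀ x, IsFibMax p x → δP x = δ (p x) + n := fun x hx => ((CycDim.delta_le p hB.compat hn x).2).2 hx
  have hcp' : ∀ x, IsFibMax π x → δQ x = δY (π x) + n := fun x hx => ((CycDim.delta_le π hπ hn' x).2).2 hx
  rw [← CycPull.pullFun_comp p f' hQ.2.2 hcp hcf', ← CycPull.pullFun_comp f π hQ.2.2 hcf hcp', add_comm (n : ℤ),
    hsq.w]

set_option maxHeartbeats 1000000 in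
/-- Caps preserve the relation. -/
theorem Rel.cap (hB : Bundle p δ δP E O r) {L : X.Modules} (hL : PicF.IsInvertible L)
    {v : (x : X) → Cyc.secFibre L x} (hv : ∀ x, v x ≠ 0) {c : Fin (r + 1) → X → ℤ}
    (hc : Rel p δ δP O r (k + 1) c) : Rel p δ δP O r k fun j => Cyc.c1CapFun δ L (c j) v := by
  haveI := hB.setup.1
  haveI := hB.setupP.1
  have hlev : ∀ j : Fin (r + 1), Cy δ (k - ((j : ℕ) : ℤ) + 1) (c j) := fun j => by
    have := hc.1 j
    rwa [show k + 1 - ((j : ℕ) : ℤ) = k - ((j : ℕ) : ℤ) + 1 by ring] at this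
  obtain ⟨t, ht⟩ := exists_sections hB.invertible
  let T : ℕ → (ξ : P) → Cyc.secFibre O ξ := fun _ => t
  refine Rel.of_one hB (fun j => (hlev j).cap hB.setup hL hv) T (fun _ => ht) fun hr => ?_
  obtain ⟨n, rfl⟩ : ∃ n, r = n + 1 := ⟨r - 1, by omega⟩
  haveI := hB.fibres.1 hr
  have hn := hB.relDim rfl
  let L' := (Scheme.Modules.pullback p).obj L
  have hL' : PicF.IsInvertible L' := PicLoc.isInvertible_pullback p hL
  let v' : (ξ : P) → Cyc.secFibre L' ξ := fun ξ => secPull p ξ (v (p ξ))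
  have hv' : ∀ ξ, v' ξ ≠ 0 := fun ξ => secPull_ne_zero p hL ξ (hv _)
  have hcp : ∀ x, IsFibMax p x → δP x = δ (p x) + n := fun x hx => ((CycDim.delta_le p hB.compat hn x).2).2 hx
  have hTk : ∀ i : Fin (n + 1 + 1), Cy δP (k - 1 + 1) (term p δP δ O T (n + 1) i (c (Fin.rev i))) := fun i => by
    have := hB.cy_term (k := k + 1) (t := T) (fun _ => ht) hr i (hc.1 _)
    rwa [show k + 1 - 1 = k - 1 + 1 by ring] at this
  have h0 : RZ δP (k - 1 + 1) fun y => ∑ i : Fin (n + 1 + 1), term p δP δ O T (n + 1) i (c (Fin.rev i)) y := by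
    have := hc.2 T (fun _ => ht) hr
    rwa [show k + 1 - 1 = k - 1 + 1 by ring] at this
  have h1 := h0.cap hB.setupP hL' hv'
  have hΨ : ∀ i : Fin (n + 1 + 1), RZ δP (k - 1) fun y =>
      Cyc.c1CapFun δP L' (term p δP δ O T (n + 1) i (c (Fin.rev i))) v' y -
        term p δP δ O T (n + 1) i (Cyc.c1CapFun δ L (c (Fin.rev i)) v) y := fun i => by
    have hlt := i.2
    have hp' : Cy δP (k - ((Fin.rev i : Fin (n + 1 + 1)) : ℕ) + n + 1) (Cyc.pullFun p δP δ n (c (Fin.rev i))) := by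
      rw [show k - ((Fin.rev i : Fin (n + 1 + 1)) : ℕ) + (n : ℤ) + 1 =
        k - ((Fin.rev i : Fin (n + 1 + 1)) : ℕ) + 1 + n by ring]
      exact (hlev (Fin.rev i)).pull hB.setupP hB.compat hn
    have h2 := (cap_pow_comm hB.setupP hL' hB.invertible hv' (t := T) (fun _ => ht) hp' (i : ℕ)).smul ((-1 : ℤ) ^ (i : ℕ))
    rw [show k - ((Fin.rev i : Fin (n + 1 + 1)) : ℕ) + (n : ℤ) - ((i : ℕ) : ℤ) = k - 1 by
      simp only [Fin.val_rev]; omega] at h2
    refine h2.eq (funext fun y => ?_)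
    unfold term
    rw [show ((n + 1 : ℕ) : ℤ) - 1 = n by push_cast; ring, mul_sub]
    refine congrArg₂ (· - ·) ?_ ?_
    · show _ * ∑ᶠ ξ, _ = ∑ᶠ ξ, _
      rw [mul_finsum]
      exact finsum_congr fun ξ => (mul_assoc _ _ _).symm
    · obtain ⟨A, hA, -⟩ := hlev (Fin.rev i)
      rw [← hA, CycSec.pullFun_c1CapFun p hB.setupP.2.2 hB.setup.2.2 hcp hL A v hv]
  refine (h1.sub (RZ.sum Finset.univ fun i _ => hΨ i)).eq (funext fun y => ?_)
  rw [Finset.sum_sub_distrib]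
  have hlin : Cyc.c1CapFun δP L' (fun y => ∑ i : Fin (n + 1 + 1), term p δP δ O T (n + 1) i (c (Fin.rev i)) y) v' y =
      ∑ i : Fin (n + 1 + 1), Cyc.c1CapFun δP L' (term p δP δ O T (n + 1) i (c (Fin.rev i))) v' y :=
    congrFun (pow_sum hB.setupP hL' (t := fun _ => v') (fun _ => hv') Finset.univ (fun i _ => hTk i) 1) y
  rw [hlin, sub_sub_cancel]

/-- Powers preserve the relation. -/
theorem Rel.pow (hB : Bundle p δ δP E O r) {L : X.Modules} (hL : PicF.IsInvertible L)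
    {t : ℕ → (x : X) → Cyc.secFibre L x} (ht : ∀ i x, t i x ≠ 0) {c : Fin (r + 1) → X → ℤ}
    (hc : Rel p δ δP O r k c) : ∀ m : ℕ, Rel p δ δP O r (k - m) fun j => Cyc.c1PowFun δ L t m (c j)
  | 0 => by show Rel p δ δP O r (k - ((0 : ℕ) : ℤ)) c; simpa using hc
  | m + 1 => by
    have h := Rel.pow hB hL ht hc m
    rw [show k - (m : ℤ) = k - ((m + 1 : ℕ) : ℤ) + 1 by push_cast; ring] at h
    exact h.cap hB hL (ht m)

end Groth.Agent.CycPB
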