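import Groth.Agent.CycPB.Classes
import Groth.Agent.CycPB.Compat
import Groth.Agent.SerrePn.Local
import Groth.Agent.NegTwist.Connected
import Groth.Agent.S1863
import Groth.Agent.S1918

/-!
Every cycle on a projective space over a field is a multiple of a linear subspace up to rational equivalence.
-/

set_option autoImplicit false
set_option linter.unusedSectionVars false
set_option linter.style.haveILetI false
set_option backward.isDefEq.respectTransparency false
set_option backward.isDefEq.respectTransparency.types false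

universe u

open CategoryTheory CategoryTheory.Limits AlgebraicGeometry TopologicalSpace Opposite
open Groth.Agent.QC (res)
open Groth.Agent.CycDeg (dl)

noncomputable section

namespace Groth.Agent.CycPB

variable {K : Type u} [Field K] {X : Scheme.{u}}

local notation "pt'" => Spec (CommRingCat.of K)

/-- A hyperplane and its affine complement. -/
theorem exists_hyperplane_compl (n : ℕ) {O : (CohB1.ProjSpace (n + 1) K).Modules}
    (e : O ≅ Twist.twistProjSpace (n + 1) K 1) : ∃ (s : Γ(O, (⊤ : (CohB1.ProjSpace (n + 1) K).Opens)))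
      (ι : CohB1.ProjSpace n K ⟶ CohB1.ProjSpace (n + 1) K), IsClosedImmersion ι ∧ Cyc.IsZeroSchemeOf ι O s ∧
      ι ≫ CohB1.ProjSpace.toSpec (n + 1) K = CohB1.ProjSpace.toSpec n K ∧
      Nonempty ((Scheme.Modules.pullback ι).obj O ≅ Twist.twistProjSpace n K 1) ∧
      ∀ x, x ∈ Set.range ι ↔ x ∉ Proj.basicOpen (CohB1.polyGrading (n + 1) K) (MvPolynomial.X 0) := by
  let a : Fin (n + 2) → K := Pi.single 0 1
  have hj : a 0 ≠ 0 := by simp [a]
  let s₀ := ProjMor.sec1 (ProjMor.linForms_mem (n + 1) K a)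
  let L := Twist.twistProjSpace (n + 1) K 1
  have hL : PicF.IsInvertible L :=
    GrT.isInvertible_twist (ProjMor.exists_notMem (ProjMor.genDegOne_projSpace (n + 1) K)) 1
  obtain ⟨r, hr, τ, hτ⟩ := ProjMor.exists_projSpace (CohB1.ProjSpace.toSpec n K)
    (GrT.isInvertible_twist (ProjMor.exists_notMem (ProjMor.genDegOne_projSpace n K)) 1) (HypIso.emb a 0)
    (HypIso.generatedBy a 0)
  haveI := HypIso.isClosedImmersion a 0 r hr τ hτ
  let I := PicF2.zeroScheme L (TMul.homOf s₀)
  have hker : r.ker = I := by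
    refine HypIso.ker_eq a 0 hj r hr τ hτ _ fun i => ?_
    have he : TMul.IsGen (res L le_top (ProjMor.sec1 (HypIso.X_mem₁ (k := K) i)) :
        Γ(L, Proj.basicOpen (CohB1.polyGrading (n + 1) K) (MvPolynomial.X i))) := by
      have := (TMul.isGen_genLocus (TMul.homOf (ProjMor.sec1 (HypIso.X_mem₁ (k := K) i)))).res
        (ProjMor.genLocus_sec1 (ProjMor.genDegOne_projSpace (n + 1) K) (HypIso.X_mem₁ i)).ge
      rwa [TMul.val_homOf, QC.res_res] at this
    rw [← show ProjMor.linForms (n + 1) K a = ∑ l, a l • MvPolynomial.X l from Fintype.linearCombination_apply _ _ _]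
    refine ZeroSch.ideal_zeroScheme_eq_span (TMul.homOf s₀) hL _ he ?_
    rw [TMul.val_homOf]
    exact ProjMor.res_sec1 (HypIso.X_mem₁ i) (ProjMor.linForms_mem (n + 1) K a)
  have hk : I.subschemeι.ker = r.ker := I.ker_subschemeι.trans hker.symm
  haveI := IsClosedImmersion.isIso_lift I.subschemeι r hk
  have hz := isZeroSchemeOf_moduleIso e.symm
    (CycK0.isZeroSchemeOf_iso (asIso (IsClosedImmersion.lift I.subschemeι r hk.le))
      (isZeroSchemeOf_zeroScheme hL s₀))
  rw [asIso_hom, IsClosedImmersion.lift_fac] at hz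
  refine ⟨_, r, inferInstance, hz, hr, ⟨(Scheme.Modules.pullback r).mapIso e ≪≫ τ⟩, fun x => ?_⟩
  have h1 : Set.range r = (I.support : Set (CohB1.ProjSpace (n + 1) K)) := by
    rw [← hker, Scheme.Hom.support_ker, IsClosed.closure_eq r.isClosedEmbedding.isClosed_range]
  rw [h1, NegTwist.coe_support_zeroScheme hL, Set.mem_compl_iff, SetLike.mem_coe]
  refine not_congr ?_
  show x ∈ CohB1.genLocus (Twist.twist (CohB1.polyGrading (n + 1) K) 1)
    (TMul.homOf (ProjMor.sec1 (ProjMor.linForms_mem (n + 1) K a))) ↔ _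
  rw [ProjMor.genLocus_sec1 (ProjMor.genDegOne_projSpace (n + 1) K)]
  simp only [a, ProjMor.linForms_single]

/-- Standard charts of projective space are affine spaces. -/
theorem exists_chart_iso (n : ℕ) : ∃ φ : Spec (CommRingCat.of (MvPolynomial (Fin n) K)) ⟶
    (Proj.basicOpen (CohB1.polyGrading n K) (MvPolynomial.X 0) : (CohB1.ProjSpace n K).Opens).toScheme, IsIso φ := by
  obtain ⟨hU, ⟨e⟩⟩ := SerrePn.exists_chart K n 0
  exact ⟨Spec.map e.symm.toCommRingCatIso.hom ≫ hU.isoSpec.inv, inferInstance⟩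

/-- Shifting dimension functions. -/
theorem ratEquivZero_shift {δ δ' : X → ℤ} (c : ℤ) (h : ∀ x, δ' x = δ x + c) {l : ℤ} {α : AlgebraicCycle X ℤ}
    (hα : Cyc.RatEquivZero δ l α) : Cyc.RatEquivZero δ' (l + c) α := by
  obtain ⟨ι, ξ, f, h1, h2, h3, h4⟩ := hα
  refine ⟨ι, ξ, f, fun i => by rw [h, h1]; ring, h2, h3, fun x => (h4 x).trans (finsum_congr fun i => ?_)⟩
  unfold Cyc.divFun
  have e : δ' x + 1 = δ' (ξ i) ↔ δ x + 1 = δ (ξ i) := by rw [h, h]; omega
  by_cases h5 : ξ i ⤳ x ∧ δ x + 1 = δ (ξ i)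
  · rw [dif_pos h5, dif_pos ⟨h5.1, e.2 h5.2⟩]
  · rw [dif_neg h5, dif_neg fun h6 => h5 ⟨h6.1, e.1 h6.2⟩]

/-- The class of a point. -/
def ptF (w : X) : X → ℤ := ⇑(CycRat.pt w)

lemma ptF_apply (w x : X) [Decidable (x = w)] : ptF w x = if x = w then 1 else 0 := CycRat.pt_apply w x

lemma cy_ptF (δ : X → ℤ) (w : X) : Cy δ (δ w) (ptF w) := ⟨CycRat.pt w, rfl, fun x hx => by
  classical
  rw [CycRat.pt_apply, if_neg fun h : x = w => hx (by rw [h])]⟩

lemma pushF_ptF {P : Scheme.{u}} (j : P ⟶ X) [IsClosedImmersion j] (δ : X → ℤ) (v : P) :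
    pushF j (fun z => δ (j z)) δ (ptF v) = ptF (j v) := funext fun y => by
  classical
  rw [ptF_apply]
  by_cases hy : y = j v
  · subst hy
    rw [if_pos rfl]
    unfold pushF
    rw [show (j ⁻¹' {j v} : Set P) = {v} from Set.ext fun z =>
      ⟨fun h => j.isClosedEmbedding.injective h, fun h => by rw [Set.mem_singleton_iff.1 h]; rfl⟩,
      finsum_mem_singleton, ptF_apply, if_pos rfl, one_mul]
    exact_mod_cast S1918.mapCoeff_closed j δ v
  · rw [if_neg hy]
    refine finsum_mem_eq_zero_of_forall_eq_zero fun z hz => ?_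
    rw [ptF_apply, if_neg fun h : z = v => hy (by rw [← h]; exact hz.symm), zero_mul]

lemma pushF_smul {P : Scheme.{u}} (j : P ⟶ X) [IsProper j] (δP : P → ℤ) (δ : X → ℤ) (c : ℤ) (a : P → ℤ) :
    pushF j δP δ (fun z => c * a z) = fun y => c * pushF j δP δ a y := funext fun y => by
  unfold pushF
  rw [mul_finsum_mem]
  exact finsum_mem_congr rfl fun z _ => mul_assoc _ _ _

lemma pushF_sub' {P : Scheme.{u}} (j : P ⟶ X) [IsProper j] {δP : P → ℤ} (δ : X → ℤ) {l : ℤ} {a b : P → ℤ}
    (ha : Cy δP l a) (hb : Cy δP l b) :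
    pushF j δP δ (fun z => a z - b z) = fun y => pushF j δP δ a y - pushF j δP δ b y := by
  have h : ∀ y, pushF j δP δ (fun z => (a z - b z) + b z) y = pushF j δP δ (fun z => a z - b z) y + pushF j δP δ b y :=
    fun y => by
      have := pushF_sum j (δ := δ) Finset.univ (f := fun i : Bool => if i then (fun z => a z - b z) else b)
        (fun i _ => by cases i <;> [exact hb; exact ha.sub hb]) y
      simpa using this
  funext y
  have h2 : pushF j δP δ a y = pushF j δP δ (fun z => a z - b z) y + pushF j δP δ b y := by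
    rw [← h y]
    simp only [sub_add_cancel]
  rw [h2, add_sub_cancel_right]

set_option maxHeartbeats 1000000 in
/-- Points are multiples of linear subspaces. -/
theorem exists_linear : ∀ (n : ℕ) (O : (CohB1.ProjSpace n K).Modules), Nonempty (O ≅ Twist.twistProjSpace n K 1) →
    ∀ (δ : CohB1.ProjSpace n K → ℤ) (k : ℤ), Cyc.DeltaCompat (CohB1.ProjSpace.toSpec n K) δ (fun _ => k) →
    ∀ (t : ℕ → (ξ : CohB1.ProjSpace n K) → Cyc.secFibre O ξ), (∀ i ξ, t i ξ ≠ 0) → ∀ w,
    ∃ (a : ℤ) (m : ℕ), m ≤ n ∧ δ w = k + n - m ∧ RZ δ (δ w) fun x => ptF w x - a * Cyc.c1PowFun δ O t m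
      (Cyc.pullFun (CohB1.ProjSpace.toSpec n K) δ (fun _ => k) n fun _ => 1) x := by
  classical
  intro n
  induction n with
  | zero =>
    intro O _ δ k hδ t _ w
    let c := CohB1.ProjSpace.toSpec 0 K
    haveI : IsIso c := ProjMor.isIso_toSpec_zero K
    have hd : ∀ x, δ x = k := fun x => by
      obtain ⟨m, hm, hx⟩ := hδ x
      have h0 : Dual3.resTrdeg c x = 0 := CycK0.resTr_closed c x
      have : (m : Cardinal.{u}) = 0 := hm.symm.trans h0
      rw [Nat.cast_eq_zero.1 this, Nat.cast_zero, add_zero] at hx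
      exact hx
    refine ⟨1, 0, le_rfl, by rw [hd]; simp, ?_⟩
    refine Eq.mp (congrArg (RZ δ (δ w)) (funext fun x => ?_)) RZ.zero
    have hlen : Cyc.pullFun c δ (fun _ => k) (0 : ℕ) (fun _ => 1) x = 1 := by
      unfold Cyc.pullFun
      rw [if_pos (by rw [hd x, Nat.cast_zero, add_zero]), one_mul,
        IsLocalRing.map_maximalIdeal_of_surjective (c.stalkMap x).hom (c.stalkMap_surjective x)]
      haveI := isSimpleModule_iff_isCoatom.2
        (IsLocalRing.maximalIdeal.isMaximal ((CohB1.ProjSpace 0 K).presheaf.stalk x)).out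
      rw [Module.length_eq_one]
      rfl
    show (0 : ℤ) = ptF w x - 1 * Cyc.pullFun c δ (fun _ => k) (0 : ℕ) (fun _ => 1) x
    rw [hlen, ptF_apply, if_pos (c.homeomorph.injective (Subsingleton.elim _ _))]
    rfl
  | succ n ih =>
    intro O hO δ k hδ t ht
    obtain ⟨e⟩ := hO
    let c := CohB1.ProjSpace.toSpec (n + 1) K
    let c' := CohB1.ProjSpace.toSpec n K
    haveI := Horrocks.isIntegral_projSpace (k := K) (n := n + 1)
    have hP := isSetup_over_field c hδ
    haveI := hP.1
    have hO : PicF.IsInvertible O := fun x => by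
      obtain ⟨U, hx, ⟨φ⟩⟩ :=
        GrT.isInvertible_twist (ProjMor.exists_notMem (ProjMor.genDegOne_projSpace (n + 1) K)) 1 x
      exact ⟨U, hx, ⟨(Scheme.Modules.restrictFunctor U.ι).mapIso e ≪≫ φ⟩⟩
    obtain ⟨s, ι, hι, hZ, hιc, eH, hcompl⟩ := exists_hyperplane_compl n e
    let η := genericPoint (CohB1.ProjSpace (n + 1) K)
    haveI : Flat c := AlgSpLib.flat_of_field c
    haveI : Flat (ι ≫ c) := AlgSpLib.flat_of_field _
    let δH : CohB1.ProjSpace n K → ℤ := fun d => δ (ι d)
    have hδH : Cyc.DeltaCompat c' δH (fun _ => k) := by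
      have := CycK0.deltaCompat_closed_comp ι c hδ
      rwa [hιc] at this
    have hH := CycK0.isSetup_closed ι hP
    haveI := hH.1
    let G := Cyc.pullFun c δ (fun _ => k) (n + 1 : ℕ) fun _ : pt' => 1
    have hG1 : Cy (fun _ : pt' => k) k fun _ : pt' => 1 := by
      obtain ⟨one, hone⟩ := CycK0.exists_cycle_affine (fun _ : pt' => (1 : ℤ)) fun _ => Set.toFinite _
      exact ⟨one, hone, fun y hy => absurd rfl hy⟩
    have hG : Cy δ (k + (n + 1 : ℕ)) G := hG1.pull hP hδ hasRelDim_toSpec
    have hbd : ∀ x, k ≤ δ x ∧ δ x ≤ k + (n + 1 : ℕ) ∧ (δ x = k + (n + 1 : ℕ) → x = η) := fun x => by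
      obtain ⟨m, -, hx⟩ := hδ x
      have h1 := CycDim.delta_le c hδ hasRelDim_toSpec x
      refine ⟨?_, h1.1, fun h => ?_⟩
      · change δ x = k + (m : ℤ) at hx
        omega
      · exact ((h1.2).1 h η (Subsingleton.elim _ _) (genericPoint_specializes x)).symm
    -- points of the hyperplane
    have onH : ∀ v, ∃ (a : ℤ) (m : ℕ), m ≤ n + 1 ∧ δ (ι v) = k + (n + 1 : ℕ) - m ∧
        RZ δ (δ (ι v)) fun x => ptF (ι v) x - a * Cyc.c1PowFun δ O t m G x := fun v => by
      obtain ⟨s', hs'⟩ := exists_sections hO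
      let tH : ℕ → (ξ : CohB1.ProjSpace n K) → Cyc.secFibre ((Scheme.Modules.pullback ι).obj O) ξ :=
        fun i ξ => CycSec.secPull ι ξ (t (i + 1) (ι ξ))
      obtain ⟨a, m, hm, hv, hr⟩ := ih _ eH δH k hδH tH (fun i ξ => CycSec.secPull_ne_zero ι hO ξ (ht _ _)) v
      refine ⟨a, m + 1, by omega, by change δH v = _; rw [hv]; push_cast; ring, ?_⟩
      let GH := Cyc.pullFun c' δH (fun _ => k) n fun _ : pt' => 1
      have hGH : Cy δH (k + n) GH := hG1.pull hH hδH hasRelDim_toSpec
      have hpow := hGH.pow hH (PicLoc.isInvertible_pullback ι hO) (t := tH)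
        (fun i ξ => CycSec.secPull_ne_zero ι hO ξ (ht _ _)) m
      have hl : δH v = δ (ι v) := rfl
      rw [← hv] at hpow
      have h1 := hr.push ι hP hH (CycPush.deltaCompat_preimmersion ι δ)
      rw [pushF_sub' ι δ (cy_ptF δH v) (hpow.smul a)] at h1
      rw [pushF_ptF ι δ v, pushF_smul, pushF_c1Pow hP hH ι (CycPush.deltaCompat_preimmersion ι δ) hO
        (fun i => t (i + 1)) (fun i => ht _) hGH m] at h1
      -- the hyperplane is the first Chern class
      let gs := Cyc.gysinChoice O s (t 0)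
      have hgs : ∀ ξ, gs ξ ≠ 0 := CycK0.gysinChoice_ne_zero (ht 0)
      have hηι : η ∉ Set.range ι := fun h => by
        have hs : Set.range ι = Set.univ := Set.univ_subset_iff.1 ((genericPoint_spec _).symm.subset.trans
          (closure_minimal (Set.singleton_subset_iff.2 h) ι.isClosedEmbedding.isClosed_range))
        haveI := Horrocks.isIntegral_projSpace (k := K) (n := n)
        have hd := IsHomeomorph.topologicalKrullDim_eq _ (ι.isEmbedding.toHomeomorph.trans
          ((Homeomorph.setCongr hs).trans (Homeomorph.Set.univ _))).isHomeomorph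
        rw [S10829.result, S10829.result, Nat.cast_inj] at hd
        omega
      have key : pushF ι δH δ GH = Cyc.c1CapFun δ O G gs := funext fun x => by
        have hreg : ∀ x, Function.Injective
            (fun a : (CohB1.ProjSpace (n + 1) K).presheaf.stalk x => a • (O.presheaf.germ ⊤ x trivial) s) := fun x => by
          obtain ⟨A, g, hx, hg, f, hf⟩ := CycK0.exists_coefficient hO s x
          have hf0 : f ≠ 0 := fun h0 => hηι ((CycK0.mem_genPrime_iff_mem_range hZ (genericPoint_specializes x) hg hx hf).1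
            (by rw [h0]; exact Ideal.zero_mem _))
          intro a b hab
          have h' : (a * f) • WeakAssLib.mgerm O hx g = (b * f) • WeakAssLib.mgerm O hx g := by
            rw [mul_smul, mul_smul, ← hf]; exact hab
          exact mul_right_cancel₀ hf0 ((RefDiv.bijective_germ_of_isGen hg hx).1 h')
        obtain ⟨one, hone, honek⟩ := hG1
        have hone' : one ∈ Cyc.Zk pt' (fun _ => k) (k - 1 + 1) := fun y hy => absurd (by ring) hy
        by_cases hx : x ∈ Set.range ι
        · obtain ⟨d, rfl⟩ := hx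
          have h2 := CycK0.gysin_pullFun_eq hP (isSetup_pt k) c n hasRelDim_toSpec hδ hO s hreg ι hZ
            (by rw [hιc]; exact hasRelDim_toSpec) (k - 1) one hone' (t 0) d
          rw [hone, hιc] at h2
          push_cast at h2
          show _ = Cyc.c1CapFun δ O G gs (ι d)
          refine Eq.trans ?_ h2.symm
          unfold pushF
          rw [show (ι ⁻¹' {ι d} : Set (CohB1.ProjSpace n K)) = {d} from Set.ext fun z =>
            ⟨fun h => ι.isClosedEmbedding.injective h, fun h => by rw [Set.mem_singleton_iff.1 h]; rfl⟩,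
            finsum_mem_singleton, show (AlgebraicCycle.mapCoeff ι δH δ d : ℤ) = 1 by
              exact_mod_cast S1918.mapCoeff_closed ι δ d, mul_one]
        · refine Eq.trans (finsum_mem_eq_zero_of_forall_eq_zero fun z hz => absurd ⟨z, hz⟩ hx) ?_
          symm
          refine finsum_eq_zero_of_forall_eq_zero fun ξ => ?_
          by_cases hξ : G ξ = 0
          · rw [hξ, zero_mul]
          obtain ⟨F, hF, hFk⟩ := hG
          have hξη : ξ = η := (hbd ξ).2.2 (by_contra fun h => hξ (by rw [← hF]; exact hFk ξ h))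
          subst hξη
          by_contra hne
          obtain ⟨hsp, hdx⟩ := CycSec.secDivFun_support (right_ne_zero_of_mul hne)
          obtain ⟨A, g, hxA, hg, f, hf⟩ := CycK0.exists_coefficient hO s x
          refine right_ne_zero_of_mul hne ?_
          have hηA : η ∈ A := hsp.mem_open A.2 hxA
          have hgc : gs η = CycDim.spz hsp f • (Submodule.Quotient.mk (WeakAssLib.mgerm O hηA g) : Cyc.secFibre O η) := by
            have h1 := congrArg (RefStalk.msp O hsp) hf
            rw [RefStalk.msp_smul, RefStalk.msp_germ O hsp hxA g] at h1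
            rw [← Submodule.Quotient.mk_smul, ← h1, RefStalk.msp_germ O hsp (show x ∈ (⊤ : Scheme.Opens _) from trivial) s]
            show Cyc.gysinChoice O s (t 0) η = _
            unfold Cyc.gysinChoice
            exact if_pos fun h => hηι (by rw [hZ.1]; exact h)
          rw [Cyc.secDivFun, dif_pos ⟨hsp, hdx⟩, C1Cap.secOrdAt_eq hg hsp hxA hgc]
          exact C1Cap.ordAt_unit hsp (CycK0.isUnit_of_notMem hZ hx hxA hf)
      rw [key] at h1
      -- change of sections
      obtain ⟨F, hF, hFk⟩ := hG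
      obtain ⟨γ₀, hγ₀⟩ := CycK0.secFin hP hO F (t 0) (ht 0)
      obtain ⟨γ₁, hγ₁⟩ := CycK0.secFin hP hO F gs hgs
      have hFk' : F ∈ Cyc.Zk _ δ (k + n + 1) := fun x hx => hFk x fun e => hx (by rw [e]; push_cast; ring)
      have lev : ∀ (γ : AlgebraicCycle _ ℤ) (u : (ξ : CohB1.ProjSpace (n + 1) K) → Cyc.secFibre O ξ),
          ⇑γ = Cyc.c1CapFun δ O ⇑F u → γ ∈ Cyc.Zk _ δ (k + n) := fun γ u hu =>
        CycK0.cap_mem (fun x hx => by_contra fun h => hx (hFk' x h)) hu
      have h2 := RZ.of_ratEquiv (lev _ _ hγ₁) (lev _ _ hγ₀)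
        (C1Cap.ratEquiv_cap δ hO (k + n) F hFk' gs (t 0) (fun x _ => hgs x) (fun x _ => ht 0 x) γ₁ γ₀ hγ₁ hγ₀)
      have h3 := ((h2.pow hP hO (t := fun i => t (i + 1)) (fun i => ht _) m)).smul a
      rw [show k + (n : ℤ) - m = δ (ι v) from hv.symm] at h3
      refine Eq.mp (congrArg (RZ δ _) (funext fun x => ?_)) (h1.add h3)
      rw [c1PowFun_succ', ← hF, ← hγ₀, ← hγ₁]
      have hsub := congrFun (Cy.pow_add hP hO (t := fun i => t (i + 1)) (fun i => ht _)
        (a := fun x => γ₁ x - γ₀ x) (b := ⇑γ₀) (RZ.cy h2) ⟨_, rfl, lev _ _ hγ₀⟩ m) x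
      simp only [sub_add_cancel] at hsub
      linear_combination -a * hsub
    intro w
    obtain ⟨hlo, hhi, htop⟩ := hbd w
    by_cases hwH : w ∈ Set.range ι
    · obtain ⟨v, rfl⟩ := hwH
      exact onH v
    by_cases hw : δ w = k + (n + 1 : ℕ)
    · refine ⟨1, 0, by omega, by simpa using hw, ?_⟩
      have hwη := htop hw
      subst hwη
      refine Eq.mp (congrArg (RZ δ _) (funext fun x => ?_)) RZ.zero
      show (0 : ℤ) = ptF η x - 1 * G x
      rw [ptF_apply, one_mul]
      obtain ⟨F, hF, hFk⟩ := hG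
      by_cases hx : x = η
      · subst hx
        rw [if_pos rfl]
        have : G η = 1 := by
          show (if δ η = k + ((n + 1 : ℕ) : ℤ) then (1 : ℤ) * _ else 0) = 1
          rw [if_pos hw, one_mul]
          have hl : Module.length ((CohB1.ProjSpace (n + 1) K).presheaf.stalk η)
              ((CohB1.ProjSpace (n + 1) K).presheaf.stalk η ⧸ Ideal.map (c.stalkMap η).hom
                (IsLocalRing.maximalIdeal ((pt').presheaf.stalk (c η)))) = 1 := by
            have hm0 : Ideal.map (c.stalkMap η).hom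
                (IsLocalRing.maximalIdeal ((pt').presheaf.stalk (c η))) = ⊥ := by
              rw [IsLocalRing.isField_iff_maximalIdeal_eq.1 ?_, Ideal.map_bot]
              exact MonoSmooth.isField_stalk_Spec K (c η)
            refine (Submodule.quotEquivOfEqBot _ hm0).length_eq.trans ?_
            haveI : IsSimpleModule ((CohB1.ProjSpace (n + 1) K).presheaf.stalk η)
                ((CohB1.ProjSpace (n + 1) K).presheaf.stalk η) :=
              isSimpleModule_self_iff_isUnit.2 ⟨inferInstance, fun z hz => ((Field.toIsField (CohB1.ProjSpace (n + 1) K).functionField).mul_inv_cancel hz).elim fun b hb => IsUnit.of_mul_eq_one _ hb⟩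
            exact Module.length_eq_one _ _
          rw [hl]
          rfl
        rw [this, sub_self]
      · rw [if_neg hx, ← hF, hFk x fun e => hx ((hbd x).2.2 e), sub_self]
    -- points of the affine complement
    obtain ⟨φ, hφ⟩ := exists_chart_iso (K := K) (n + 1)
    let U : (CohB1.ProjSpace (n + 1) K).Opens := Proj.basicOpen (CohB1.polyGrading (n + 1) K) (MvPolynomial.X 0)
    have hwU : w ∈ U := not_not.1 fun h => hwH ((hcompl w).2 h)
    obtain ⟨u, hu⟩ := φ.homeomorph.surjective (⟨w, hwU⟩ : U)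
    haveI : LocallyOfFiniteType (U.ι ≫ c) := inferInstance
    have hdU : ∀ z : U.toScheme, δ (U.ι z) = dl U.toScheme z + k := by
      have h1 := Bivar.deltaCompat_comp U.ι c _ δ (fun _ => k) (CycPush.deltaCompat_preimmersion U.ι δ) hδ
      have h2 : Cyc.DeltaCompat (U.ι ≫ c) (fun z => dl U.toScheme z + k) (fun _ => k) := fun z => by
        obtain ⟨m, hm, hz⟩ := CycDeg.deltaCompat_zero (U.ι ≫ c) z
        exact ⟨m, hm, by show dl _ z + k = k + (m : ℤ); simp only [zero_add] at hz; omega⟩
      exact fun z => CycPush.deltaCompat_unique _ h1 h2 z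
    have huw : δ w = dl _ u + k := by
      rw [← CycLine.dl_iso φ u, ← hdU, show φ u = (⟨w, hwU⟩ : U) from hu]
      rfl
    have h0 := CycLine.ratEquivZero_iso φ (CycLine.affine_pt K (n + 1) u (by omega))
      (β := CycRat.pt (φ u)) fun v => by
        rw [CycRat.pt_apply, CycRat.pt_apply]
        by_cases hv : v = u
        · rw [hv, if_pos rfl, if_pos rfl]
        · rw [if_neg hv, if_neg (show ¬ φ v = φ u from fun h' => hv (φ.homeomorph.injective h'))]
    have h1 := ratEquivZero_shift (δ' := fun z => δ (U.ι z)) k hdU h0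
    rw [← huw] at h1
    obtain ⟨γ, hγk, hγU, hγ⟩ := S1863.result _ δ hP U (δ w) (CycRat.pt w) 0
      (fun x hx => by rw [CycRat.pt_apply, if_neg fun h : x = w => hx (by rw [h])]) (fun _ _ => rfl)
      (CycRat.pt (φ u)) 0 (fun z => by
        rw [CycRat.pt_apply, CycRat.pt_apply, show φ u = (⟨w, hwU⟩ : U) from hu]
        by_cases hz : z = (⟨w, hwU⟩ : U)
        · rw [hz, if_pos rfl]; exact (if_pos (rfl : U.ι (⟨w, hwU⟩ : U) = w)).symm
        · rw [if_neg hz, if_neg fun h : U.ι z = w => hz (Subtype.ext h)]) (fun _ => rfl)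
      (by show Cyc.RatEquivZero _ _ (CycRat.pt (φ u) - 0); rw [sub_zero]; exact h1)
    haveI : CompactSpace (CohB1.ProjSpace (n + 1) K) := QuasiCompact.compactSpace_of_compactSpace c
    have hfin : (Function.support ⇑γ).Finite :=
      (γ.locallyFiniteSupport.finite_inter_support_of_isCompact isCompact_univ).subset fun x hx => ⟨trivial, hx⟩
    obtain ⟨m, hm⟩ : ∃ m : ℕ, δ w = k + (n + 1 : ℕ) - m :=
      ⟨(k + (n + 1 : ℕ) - δ w).toNat, by rw [Int.toNat_of_nonneg (by omega)]; ring⟩
    have hex : ∀ x ∈ hfin.toFinset, ∃ a : ℤ, RZ δ (δ w) fun y => ptF x y - a * Cyc.c1PowFun δ O t m G y := by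
      intro x hx
      have hx0 : γ x ≠ 0 := hfin.mem_toFinset.1 hx
      obtain ⟨v, rfl⟩ := (hcompl x).2 fun hxU => hx0 (hγU x hxU)
      obtain ⟨a, m', -, hv, hr⟩ := onH v
      have hd : δ (ι v) = δ w := by_contra fun h => hx0 (hγk _ h)
      rw [hd] at hr hv
      obtain rfl : m' = m := by omega
      exact ⟨a, hr⟩
    choose! a ha using hex
    refine ⟨∑ x ∈ hfin.toFinset, γ x * a x, m, by omega, hm, ?_⟩
    have h2 := (RZ.sum hfin.toFinset fun x hx => (ha x hx).smul (γ x))
    have h3 : RZ δ (δ w) fun y => ptF w y - γ y :=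
      RZ.of_ratEquiv (A := CycRat.pt w) (B := γ)
        (fun x hx => by rw [CycRat.pt_apply, if_neg fun h : x = w => hx (by rw [h])]) hγk
        (by simpa only [zero_add] using hγ)
    refine Eq.mp (congrArg (RZ δ _) (funext fun y => ?_)) (h3.add h2)
    have hsum : γ y = ∑ x ∈ hfin.toFinset, γ x * ptF x y := by
      simp only [ptF_apply, mul_ite, mul_one, mul_zero, Finset.sum_ite_eq]
      by_cases hy : γ y = 0
      · rw [if_neg fun h => hfin.mem_toFinset.1 h hy, hy]
      · rw [if_pos (hfin.mem_toFinset.2 hy)]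
    rw [hsum, Finset.sum_mul]
    simp only [mul_sub, Finset.sum_sub_distrib, mul_assoc]
    ring

end Groth.Agent.CycPB
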