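import Groth.Agent.CycPB.ChernExt
import Groth.Agent.VBTwo.Ext
import Groth.Agent.W7Strat.Frame
import Groth.Agent.Nagata.Bundles
import Mathlib.Algebra.Category.ModuleCat.Free
import Mathlib.CategoryTheory.Abelian.Refinements

/-!
Chern classes of a module with a filtration by invertible modules.
-/

set_option autoImplicit false
set_option linter.unusedSectionVars false
set_option linter.style.haveILetI false
set_option backward.isDefEq.respectTransparency false
set_option backward.isDefEq.respectTransparency.types false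

universe u

open CategoryTheory CategoryTheory.Limits AlgebraicGeometry TopologicalSpace Opposite
open Groth.Agent.QC (res)

noncomputable section

namespace Groth.Agent.CycPB

variable {X P : Scheme.{u}} {δ : X → ℤ} {δP : P → ℤ} {k : ℤ}

/-- Ranks add in extensions. -/
theorem isFinLocFreeOfRank_middle {S : ShortComplex X.Modules} (hS : S.ShortExact) {a b : ℕ}
    (h₁ : FlatMod.IsFinLocFreeOfRank a S.X₁) (h₃ : FlatMod.IsFinLocFreeOfRank b S.X₃) :
    FlatMod.IsFinLocFreeOfRank (a + b) S.X₂ := by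
  haveI := hS.mono_f
  haveI := hS.epi_g
  have hl1 := Nagata.isFinLocFree_of_rank' h₁
  have hl3 := Nagata.isFinLocFree_of_rank' h₃
  have hq2 := LocFree.isQCoh_of_isFinLocFree (VBTwo.isFinLocFree_middle hS hl1 hl3)
  have hq1 := LocFree.isQCoh_of_isFinLocFree hl1
  have hq3 := LocFree.isQCoh_of_isFinLocFree hl3
  refine W7Strat.isFinLocFreeOfRank_of_frames fun x => ?_
  obtain ⟨U₁, hU₁, hx₁, ⟨b₁⟩⟩ := exists_basis h₁ x
  obtain ⟨U₃, hU₃, hx₃, ⟨b₃⟩⟩ := exists_basis h₃ x
  obtain ⟨V, hV, hxV, hVU⟩ := exists_isAffineOpen_mem_and_subset (show x ∈ U₁ ⊓ U₃ from ⟨hx₁, hx₃⟩)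
  have hF : ∀ {M : X.Modules} {n : ℕ} {U : X.Opens}, Coh.IsQCoh M → IsAffineOpen U → V ≤ U →
      Module.Basis (Fin n) Γ(X, U) Γ(M, U) → Nonempty (Module.Basis (Fin n) Γ(X, V) Γ(M, V)) :=
    fun {M n U} hq hU hle B => by
      have hB : TMul.IsFrame fun i => B i := PBundle.isFrame_of_bijective hq hU (by
        rw [show (fun a : Fin n → Γ(X, U) => ∑ i, a i • B i) = B.equivFun.symm from
          funext fun a => (B.equivFun_symm_apply a).symm]
        exact B.equivFun.symm.bijective)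
      exact ⟨Module.Basis.ofEquivFun (hB.equiv hle).symm⟩
  obtain ⟨B₁⟩ := hF hq1 hU₁ (fun y hy => (hVU hy).1) b₁
  obtain ⟨B₃⟩ := hF hq3 hU₃ (fun y hy => (hVU hy).2) b₃
  let f := QC.appₗ S.f V
  let g := QC.appₗ S.g V
  have hfg : g.comp f = 0 := LinearMap.ext fun m => by
    show S.g.app V (S.f.app V m) = 0
    exact congr($(S.zero).app V m)
  let C : ShortComplex (ModuleCat.{u} Γ(X, V)) := ShortComplex.mk (ModuleCat.ofHom f) (ModuleCat.ofHom g)
    (ModuleCat.hom_ext hfg)
  have hC : C.ShortExact :=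
    { exact := (ShortComplex.moduleCat_exact_iff C).2 fun m hm =>
        Groth.Agent.SiteCoh.sections_exact (CohQC.seq_shortExact hS) V m hm
      mono_f := (ModuleCat.mono_iff_injective _).2 ((QC.mono_iff_app_injective S.f).1 inferInstance V)
      epi_g := (ModuleCat.epi_iff_surjective _).2 (QC.app_surjective_of_epi hV hq2 hq3 S.g) }
  let B₂ : Module.Basis (Fin (a + b)) Γ(X, V) Γ(S.X₂, V) := (ModuleCat.Basis.ofShortExact hC B₁ B₃).reindex finSumFinEquiv
  refine ⟨V, fun i => B₂ i, hxV, PBundle.isFrame_of_bijective hq2 hV ?_⟩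
  rw [show (fun c : Fin (a + b) → Γ(X, V) => ∑ i, c i • B₂ i) = B₂.equivFun.symm from
    funext fun c => (B₂.equivFun_symm_apply c).symm]
  exact B₂.equivFun.symm.bijective

/-- A sub quotient sequence passes to the quotient by a smaller submodule. -/
theorem shortExact_coker {C : Type*} [Category C] [Abelian C] {A B M D : C} (f : A ⟶ B) (g : B ⟶ M) (h : M ⟶ D)
    {w : g ≫ h = 0} (hS : (ShortComplex.mk g h w).ShortExact) :
    ∃ (g' : cokernel f ⟶ cokernel (f ≫ g)) (h' : cokernel (f ≫ g) ⟶ D) (w' : g' ≫ h' = 0),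
      (ShortComplex.mk g' h' w').ShortExact := by
  haveI : Mono g := hS.mono_f
  haveI : Epi h := hS.epi_g
  let g' : cokernel f ⟶ cokernel (f ≫ g) :=
    cokernel.desc f (g ≫ cokernel.π (f ≫ g)) (by rw [← Category.assoc, cokernel.condition])
  let h' : cokernel (f ≫ g) ⟶ D := cokernel.desc (f ≫ g) h (by rw [Category.assoc, w, comp_zero])
  have e1 : cokernel.π f ≫ g' = g ≫ cokernel.π (f ≫ g) := cokernel.π_desc _ _ _
  have e2 : cokernel.π (f ≫ g) ≫ h' = h := cokernel.π_desc _ _ _
  have w' : g' ≫ h' = 0 := (cancel_epi (cokernel.π f)).1 (by rw [← Category.assoc, e1, Category.assoc, e2, w, comp_zero])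
  haveI : Epi h' := epi_of_epi_fac e2
  haveI : Mono g' := Preadditive.mono_of_cancel_zero _ fun {W} z hz => by
    obtain ⟨W₁, π₁, hπ₁, y, hy⟩ := surjective_up_to_refinements_of_epi (cokernel.π f) z
    have h0 : (y ≫ g) ≫ cokernel.π (f ≫ g) = 0 := by
      rw [Category.assoc, ← e1, ← Category.assoc, ← hy, Category.assoc, hz, comp_zero]
    obtain ⟨W₂, π₂, hπ₂, v, hv⟩ := (ShortComplex.exact_cokernel (f ≫ g)).exact_up_to_refinements (y ≫ g) h0
    have h1 : π₂ ≫ y = v ≫ f := (cancel_mono g).1 (by simpa only [Category.assoc] using hv)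
    haveI := hπ₁
    haveI := hπ₂
    rw [← cancel_epi π₁, ← cancel_epi π₂, hy, ← Category.assoc, h1, Category.assoc, cokernel.condition]
    simp
  refine ⟨g', h', w', { exact := ShortComplex.exact_of_g_is_cokernel _ (CokernelCofork.IsColimit.ofπ' _ _
    fun {W} v hv => ?_) }⟩
  change g' ≫ v = 0 at hv
  have hv' : g ≫ cokernel.π (f ≫ g) ≫ v = 0 := by
    rw [← Category.assoc, ← e1, Category.assoc, hv, comp_zero]
  refine ⟨hS.exact.desc _ hv', (cancel_epi (cokernel.π (f ≫ g))).1 ?_⟩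
  show _ ≫ h' ≫ _ = _
  rw [← Category.assoc, e2]
  exact hS.exact.g_desc _ hv'

/-- A filtration by invertible modules. -/
structure Filt (E : X.Modules) (r : ℕ) (L : Fin r → X.Modules) where
  M : Fin (r + 1) → X.Modules
  zero : IsZero (M 0)
  top : M (Fin.last r) ≅ E
  a : ∀ i : Fin r, M (Fin.castSucc i) ⟶ M (Fin.succ i)
  b : ∀ i : Fin r, M (Fin.succ i) ⟶ L i
  comp : ∀ i, a i ≫ b i = 0
  exact : ∀ i, (ShortComplex.mk (a i) (b i) (comp i)).ShortExact

/-- The quotient by the first step. -/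
theorem exists_refilt {E : X.Modules} {m : ℕ} {L : Fin (m + 1) → X.Modules} (hL : ∀ i, PicF.IsInvertible (L i))
    (F : Filt E (m + 1) L) :
    ∃ (G : X.Modules) (f : L 0 ⟶ E) (g : E ⟶ G) (w : f ≫ g = 0),
      (ShortComplex.mk f g w).ShortExact ∧ FlatMod.IsFinLocFreeOfRank m G ∧
        Nonempty (Filt G m fun i => L (Fin.succ i)) := by
  let u : ∀ i : Fin (m + 1), F.M (Fin.succ 0) ⟶ F.M (Fin.succ i) :=
    Fin.induction (motive := fun i => F.M (Fin.succ 0) ⟶ F.M (Fin.succ i)) (𝟙 _)
      fun i v => v ≫ F.a (Fin.succ i)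
  have hm : ∀ i, Mono (u i) := Fin.induction (motive := fun i => Mono (u i))
    (by show Mono (𝟙 _); infer_instance) fun i hi => by
      haveI := hi
      haveI : Mono (F.a (Fin.succ i)) := (F.exact (Fin.succ i)).mono_f
      show Mono (u (Fin.castSucc i) ≫ F.a (Fin.succ i))
      exact mono_comp _ _
  let N : Fin (m + 1) → X.Modules := fun i => cokernel (u i)
  have hstep : ∀ i : Fin m, ∃ (g' : N (Fin.castSucc i) ⟶ N (Fin.succ i)) (h' : N (Fin.succ i) ⟶ L (Fin.succ i))
      (w : g' ≫ h' = 0), (ShortComplex.mk g' h' w).ShortExact := fun i =>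
    shortExact_coker (u (Fin.castSucc i)) (F.a (Fin.succ i)) (F.b (Fin.succ i)) (F.exact (Fin.succ i))
  choose a b w hex using hstep
  have hb0 : IsIso (F.b 0) :=
    (F.exact 0).isIso_g_iff.2 (show IsZero (F.M (Fin.castSucc 0)) from F.zero)
  haveI := hb0
  haveI : Mono (u (Fin.last m)) := hm _
  have hN0 : IsZero (N 0) := by
    show IsZero (cokernel (𝟙 (F.M (Fin.succ 0))))
    exact isZero_cokernel_of_epi _
  let f : L 0 ⟶ E := inv (F.b 0) ≫ u (Fin.last m) ≫ F.top.hom
  haveI : Mono f := mono_comp _ _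
  let g : E ⟶ N (Fin.last m) := F.top.inv ≫ cokernel.π (u (Fin.last m))
  have hfg : f ≫ g = 0 := by simp [f, g]
  have hS : (ShortComplex.mk f g hfg).ShortExact := by
    have h0 : (ShortComplex.mk (u (Fin.last m)) (cokernel.π _) (cokernel.condition _)).ShortExact :=
      { exact := ShortComplex.exact_cokernel _ }
    let e₁ : F.M (Fin.succ 0) ≅ L 0 := asIso (F.b 0)
    let e₂ : F.M (Fin.succ (Fin.last m)) ≅ E := F.top
    exact ShortComplex.shortExact_of_iso
      (ShortComplex.isoMk (S₁ := ShortComplex.mk (u (Fin.last m)) (cokernel.π _) (cokernel.condition _))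
        (S₂ := ShortComplex.mk f g hfg) e₁ e₂ (Iso.refl _)
        (show F.b 0 ≫ inv (F.b 0) ≫ u (Fin.last m) ≫ F.top.hom = u (Fin.last m) ≫ F.top.hom by simp)
        (show F.top.hom ≫ F.top.inv ≫ cokernel.π (u (Fin.last m)) = cokernel.π (u (Fin.last m)) ≫ 𝟙 _ by simp)) h0
  have hrk : ∀ i : Fin (m + 1), FlatMod.IsFinLocFreeOfRank (i : ℕ) (N i) := fun i => by
    induction i using Fin.induction with
    | zero =>
      intro x
      refine ⟨⊤, trivial, ⟨?_⟩⟩
      have hfree : IsZero (FlatMod.freeMod (↑(⊤ : X.Opens)) ((0 : Fin (m + 1)) : ℕ)) := by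
        rw [IsZero.iff_id_eq_zero]
        exact Sigma.hom_ext _ _ fun i => i.elim0
      exact ((Scheme.Modules.restrictFunctor (⊤ : X.Opens).ι).map_isZero hN0).iso hfree
    | succ i hi =>
      rw [show ((Fin.succ i : Fin (m + 1)) : ℕ) = (Fin.castSucc i : ℕ) + 1 by simp]
      exact isFinLocFreeOfRank_middle (hex i) hi (CurveRR.isFinLocFreeOfRank_one (hL _))
  exact ⟨_, f, g, hfg, hS, by simpa using hrk (Fin.last m), ⟨⟨N, hN0, Iso.refl _, a, b, w, hex⟩⟩⟩

set_option maxHeartbeats 800000 in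
/-- Chern classes of a module with a filtration by invertible modules. -/
theorem rel_filt : ∀ (r : ℕ) {P : Scheme.{u}} {p : P ⟶ X} [IsProper p] {δP : P → ℤ} {O : P.Modules} {E : X.Modules}
    (_ : Bundle p δ δP E O r) {L : Fin r → X.Modules} (_ : ∀ i, PicF.IsInvertible (L i)) (_ : Filt E r L)
    {t : (i : Fin r) → (ξ : X) → Cyc.secFibre (L i) ξ} (_ : ∀ i ξ, t i ξ ≠ 0) {k : ℤ}
    (κ : Finset (Fin r) → X → ℤ) (_ : Cy δ k (κ ∅))
    (_ : ∀ (I : Finset (Fin r)) (i : Fin r), (∀ i' ∈ I, i' < i) →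
      κ (insert i I) = Cyc.c1CapFun δ (L i) (κ I) (t i))
    {c : Fin (r + 1) → X → ℤ} (_ : Rel p δ δP O r k c) (_ : RZ δ k fun x => c 0 x - κ ∅ x) (n : Fin (r + 1)),
    RZ δ (k - ((n : ℕ) : ℤ)) fun x => c n x - ∑ I ∈ Finset.powersetCard n Finset.univ, κ I x
  | 0, P, p, _, δP, O, E, hB, L, hL, hFilt, t, ht, k, κ, hκ0, hκ, c, hc, h0, n => by
    obtain rfl : n = 0 := Subsingleton.elim (α := Fin 1) _ _
    rw [show k - (((0 : Fin (0 + 1)) : ℕ) : ℤ) = k by simp]
    refine h0.eq (funext fun x => ?_)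
    simp
  | m + 1, P, p, _, δP, O, E, hB, L, hL, hFilt, t, ht, k, κ, hκ0, hκ, c, hc, h0, n => by
    classical
    obtain ⟨G, f, g, w, hS, hG, ⟨hFilt'⟩⟩ := exists_refilt hL hFilt
    obtain ⟨q, hq⟩ := hB.proj
    obtain ⟨Z, ι, hι, N, hN, s, hZ, ⟨qZ, hqZ⟩, -⟩ := exists_subBundle hq (hL 0) f g w hS
    haveI := hι
    haveI := hB.setupP.1
    let δZ : Z → ℤ := fun d => δP (ι d)
    have hBZ : Bundle (ι ≫ p) δ δZ G ((Scheme.Modules.pullback ι).obj O) m :=
      ⟨hB.setup, CycK0.isSetup_closed ι hB.setupP, CycK0.deltaCompat_closed_comp ι p hB.compat, ⟨qZ, hqZ⟩, hG⟩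
    obtain ⟨d, hd, hd0⟩ := exists_rel hBZ hκ0
    have hd' : Rel (ι ≫ p) δ δZ ((Scheme.Modules.pullback ι).obj O) m (k - 1)
        fun j => Cyc.c1CapFun δ (L 0) (d j) (t 0) :=
      Rel.cap hBZ (hL 0) (ht 0) (by rwa [sub_add_cancel])
    let e : Fin m ↪ Fin (m + 1) := ⟨Fin.succ, Fin.succ_injective _⟩
    have hlt : ∀ {I : Finset (Fin m)} {i : Fin m}, (∀ i' ∈ I, i' < i) → ∀ i' ∈ I.map e, i' < Fin.succ i := by
      intro I i h i' hi'
      obtain ⟨v, hv, rfl⟩ := Finset.mem_map.1 hi'
      exact Fin.succ_lt_succ_iff.2 (h v hv)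
    have hκ1 : κ (insert 0 ∅) = Cyc.c1CapFun δ (L 0) (κ ∅) (t 0) := hκ ∅ 0 fun i' hi' => by simp at hi'
    have h1 := rel_filt m hBZ (fun i => hL (Fin.succ i)) hFilt' (fun i => ht (Fin.succ i))
      (fun I => κ (I.map e)) (by simpa using hκ0)
      (fun I i hi => by
        show κ ((insert i I).map e) = _
        rw [Finset.map_insert]
        exact hκ _ _ (hlt hi))
      hd (RZ.zero.eq (funext fun x => by simp [hd0]))
    have h2 := rel_filt m hBZ (fun i => hL (Fin.succ i)) hFilt' (fun i => ht (Fin.succ i))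
      (fun I => κ (insert 0 (I.map e)))
      (by
        show Cy δ (k - 1) (κ (insert 0 ((∅ : Finset (Fin m)).map e)))
        rw [Finset.map_empty, hκ1]
        exact Cy.cap hB.setup (hL 0) (ht 0) (by rwa [sub_add_cancel]))
      (fun I i hi => by
        show κ (insert 0 ((insert i I).map e)) = _
        rw [Finset.map_insert, Finset.insert_comm]
        refine hκ _ _ fun i' hi' => ?_
        rcases Finset.mem_insert.1 hi' with rfl | hi'
        · exact Fin.succ_pos _
        · exact hlt hi _ hi')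
      hd' (RZ.zero.eq (funext fun x => by
        show 0 = Cyc.c1CapFun δ (L 0) (d 0) (t 0) x - κ (insert 0 ((∅ : Finset (Fin m)).map e)) x
        rw [Finset.map_empty, hκ1, hd0, sub_self]))
    have hext := rel_of_ext hB hBZ (hL 0) f g w hS (ht 0) hd
    have hu := Rel.unique hB hc hext (h0.eq (funext fun x => by
      simp only [Fin.cases_zero, add_zero]
      rw [show (0 : Fin (m + 1 + 1)) = Fin.castSucc 0 from rfl, Fin.snoc_castSucc, hd0]))
    have hsplit : ∀ (l : ℕ) (x : X), ∑ I ∈ Finset.powersetCard (l + 1) (Finset.univ : Finset (Fin (m + 1))), κ I x =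
        (∑ I ∈ Finset.powersetCard (l + 1) (Finset.univ : Finset (Fin m)), κ (I.map e) x) +
          ∑ I ∈ Finset.powersetCard l (Finset.univ : Finset (Fin m)), κ (insert 0 (I.map e)) x := by
      intro l x
      have h0e : ∀ I : Finset (Fin m), (0 : Fin (m + 1)) ∉ I.map e := fun I h => by
        obtain ⟨v, -, hv⟩ := Finset.mem_map.1 h
        exact Fin.succ_ne_zero v hv
      rw [Fin.univ_succ, Finset.cons_eq_insert, Finset.powersetCard_succ_insert (h0e _), Finset.sum_union,
        Finset.sum_image, Finset.powersetCard_map, Finset.powersetCard_map, Finset.sum_map, Finset.sum_map]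
      · rfl
      · intro A hA B hB' hAB
        have hA' : (0 : Fin (m + 1)) ∉ A := fun h => h0e _ (Finset.mem_powersetCard.1 hA |>.1 h)
        have hB'' : (0 : Fin (m + 1)) ∉ B := fun h => h0e _ (Finset.mem_powersetCard.1 hB' |>.1 h)
        rw [← Finset.erase_insert hA', ← Finset.erase_insert hB'']
        exact congrArg (fun S => Finset.erase S 0) hAB
      · rw [Finset.disjoint_left]
        intro A hA hA'
        obtain ⟨B, -, rfl⟩ := Finset.mem_image.1 hA'
        exact h0e _ ((Finset.mem_powersetCard.1 hA).1 (Finset.mem_insert_self _ _))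
    induction n using Fin.cases with
    | zero =>
      rw [show k - (((0 : Fin (m + 1 + 1)) : ℕ) : ℤ) = k by simp]
      refine h0.eq (funext fun x => ?_)
      simp
    | succ i =>
      have hl : k - (((Fin.succ i : Fin (m + 1 + 1)) : ℕ) : ℤ) = k - 1 - ((i : ℕ) : ℤ) := by simp; ring
      have hB2 : RZ δ (k - (((Fin.succ i : Fin (m + 1 + 1)) : ℕ) : ℤ)) fun x =>
          Cyc.c1CapFun δ (L 0) (d i) (t 0) x -
            ∑ I ∈ Finset.powersetCard i (Finset.univ : Finset (Fin m)), κ (insert 0 (I.map e)) x := by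
        rw [hl]; exact h2 i
      induction i using Fin.lastCases with
      | last =>
        refine ((hu _).add hB2).eq (funext fun x => ?_)
        rw [Fin.succ_last, Fin.snoc_last, zero_add, ← Fin.succ_last, Fin.cases_succ]
        simp only [Fin.val_succ, Fin.val_last]
        rw [hsplit m x, Finset.powersetCard_eq_empty.2 (by simp : _ < m + 1), Finset.sum_empty, zero_add]
        ring
      | cast j =>
        have hA := h1 (Fin.succ j)
        have hj : (Fin.succ (Fin.castSucc j) : Fin (m + 1 + 1)) = Fin.castSucc (Fin.succ j) := Fin.succ_castSucc j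
        rw [show k - (((Fin.succ j : Fin (m + 1)) : ℕ) : ℤ) =
          k - (((Fin.succ (Fin.castSucc j) : Fin (m + 1 + 1)) : ℕ) : ℤ) by simp] at hA
        refine (((hu _).add hA).add hB2).eq (funext fun x => ?_)
        rw [Fin.cases_succ, hj, Fin.snoc_castSucc]
        simp only [Fin.val_succ, Fin.val_castSucc]
        rw [hsplit]
        ring

end Groth.Agent.CycPB
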