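import Groth.Agent.PBundle.Basic
import Groth.Agent.QC.PullSect
import Groth.Agent.W7Adic.Embed
import Groth.Agent.CurveRR.Multi

/-!
Being a projective bundle is local on the base.
-/

set_option autoImplicit false
set_option linter.style.haveILetI false
set_option linter.unusedSectionVars false
set_option backward.isDefEq.respectTransparency false
set_option backward.isDefEq.respectTransparency.types false

universe u

open CategoryTheory CategoryTheory.Limits AlgebraicGeometry TopologicalSpace Opposite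
open Groth.Agent.QC (res res_res res_self app_res)

noncomputable section

namespace Groth.Agent.CycPB

open PBundle (bc bcQuot)

variable {X P P₂ S' T T' : Scheme.{u}} {E : X.Modules} {O : P.Modules} {p : P ⟶ X}
  {q : (Scheme.Modules.pullback p).obj E ⟶ O}

lemma epi_bc (q : (Scheme.Modules.pullback p).obj E ⟶ O) [Epi q] (h : T ⟶ P) {g : T ⟶ X} (hg : h ≫ p = g)
    {L : T.Modules} (e : (Scheme.Modules.pullback h).obj O ⟶ L) [Epi e] : Epi (bc q h hg e) := by
  haveI : (Scheme.Modules.pullback h).PreservesEpimorphisms :=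
    CategoryTheory.Functor.preservesEpimorphisms_of_adjunction (Scheme.Modules.pullbackPushforwardAdjunction h)
  dsimp only [PBundle.bc]
  infer_instance

/-- Solutions over an open in which a bundle is known. -/
theorem univ_of_factor {b : S' ⟶ X} {a : P₂ ⟶ P} {π₂ : P₂ ⟶ S'} (sq : IsPullback a π₂ p b)
    (h₂ : KRR.IsProjBundle π₂ ((Scheme.Modules.pullback b).obj E) ((Scheme.Modules.pullback a).obj O) (bcQuot q sq))
    {g : T ⟶ X} (g' : T ⟶ S') (hg' : g' ≫ b = g) {L : T.Modules} (hL : FlatMod.IsFinLocFreeOfRank 1 L)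
    (s : (Scheme.Modules.pullback g).obj E ⟶ L) [Epi s] :
    (∃ (h : T ⟶ P) (hg : h ≫ p = g) (e : (Scheme.Modules.pullback h).obj O ≅ L), bc q h hg e.hom = s) ∧
      ∀ (h h' : T ⟶ P) (hg : h ≫ p = g) (hh' : h' ≫ p = g) (e : (Scheme.Modules.pullback h).obj O ≅ L)
        (e' : (Scheme.Modules.pullback h').obj O ≅ L), bc q h hg e.hom = s → bc q h' hh' e'.hom = s → h = h' := by
  subst hg'
  have hcan : (Scheme.Modules.pullbackComp π₂ b).inv.app E ≫ bcQuot q sq = bc q a sq.w (𝟙 _) := by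
    rw [bcQuot, ← Category.assoc, Iso.inv_hom_id_app, Category.id_comp]
  have key : ∀ (k : T ⟶ P₂) (hk : k ≫ π₂ = g')
      (f : (Scheme.Modules.pullback k).obj ((Scheme.Modules.pullback a).obj O) ⟶ L) (hw : (k ≫ a) ≫ p = g' ≫ b),
      (Scheme.Modules.pullbackComp g' b).inv.app E ≫ bc (bcQuot q sq) k hk f =
        bc q (k ≫ a) hw ((Scheme.Modules.pullbackComp k a).inv.app O ≫ f) := fun k hk f hw => by
    rw [PBundle.comp_bc, hcan, PBundle.bc_comp' q a sq.w k]
    congr 1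
    simp
  let s' := (Scheme.Modules.pullbackComp g' b).hom.app E ≫ s
  haveI : Epi s' := epi_comp _ _
  refine ⟨?_, ?_⟩
  · obtain ⟨k, hk, f, hf⟩ := PBundle.exists_hom h₂ g' hL s'
    refine ⟨k ≫ a, by rw [Category.assoc, sq.w, ← Category.assoc, hk],
      ((Scheme.Modules.pullbackComp k a).app O).symm ≪≫ f, ?_⟩
    refine (key k hk f.hom _).symm.trans ?_
    rw [hf, ← Category.assoc, Iso.inv_hom_id_app, Category.id_comp]
  · intro h h' hg hg₂ e e' he he'
    obtain ⟨k, rfl, hk⟩ : ∃ k, k ≫ a = h ∧ k ≫ π₂ = g' := ⟨sq.lift h g' hg, sq.lift_fst _ _ _, sq.lift_snd _ _ _⟩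
    obtain ⟨k', rfl, hk'⟩ : ∃ k, k ≫ a = h' ∧ k ≫ π₂ = g' :=
      ⟨sq.lift h' g' hg₂, sq.lift_fst _ _ _, sq.lift_snd _ _ _⟩
    have conv : ∀ (k : T ⟶ P₂) (hk : k ≫ π₂ = g') (hw : (k ≫ a) ≫ p = g' ≫ b)
        (e : (Scheme.Modules.pullback (k ≫ a)).obj O ≅ L), bc q (k ≫ a) hw e.hom = s →
          bc (bcQuot q sq) k hk ((Scheme.Modules.pullbackComp k a).app O ≪≫ e).hom = s' := by
      intro k hk hw e he
      refine (cancel_epi ((Scheme.Modules.pullbackComp g' b).inv.app E)).1 ?_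
      refine (key k hk _ hw).trans ?_
      rw [← Category.assoc ((Scheme.Modules.pullbackComp g' b).inv.app E), Iso.inv_hom_id_app, Category.id_comp]
      refine Eq.trans ?_ he
      congr 1
      simp
    rw [PBundle.hom_unique h₂ hL s' hk hk' ((Scheme.Modules.pullbackComp k a).app O ≪≫ e)
      ((Scheme.Modules.pullbackComp k' a).app O ≪≫ e') (conv k hk hg e he) (conv k' hk' hg₂ e' he')]

/-- Restricting a solution. -/
theorem restrict_sol {W : Scheme.{u}} {g : T ⟶ X} {L : T.Modules} (s : (Scheme.Modules.pullback g).obj E ⟶ L)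
    (ι : W ⟶ T) (h : W ⟶ P) (hg : h ≫ p = ι ≫ g)
    (e : (Scheme.Modules.pullback h).obj O ≅ (Scheme.Modules.pullback ι).obj L)
    (he : bc q h hg e.hom = bc s ι rfl (𝟙 _)) (j : T' ⟶ W) (m : T' ⟶ T) (hm : j ≫ ι = m) :
    ∃ (hg₂ : (j ≫ h) ≫ p = m ≫ g)
      (e' : (Scheme.Modules.pullback (j ≫ h)).obj O ≅ (Scheme.Modules.pullback m).obj L),
      bc q (j ≫ h) hg₂ e'.hom = bc s m rfl (𝟙 _) := by
  subst hm
  have hg₂ : (j ≫ h) ≫ p = (j ≫ ι) ≫ g := by rw [Category.assoc, hg, Category.assoc]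
  refine ⟨hg₂, ((Scheme.Modules.pullbackComp j h).app O).symm ≪≫ (Scheme.Modules.pullback j).mapIso e ≪≫
    (Scheme.Modules.pullbackComp j ι).app L, ?_⟩
  have h1 := PBundle.bc_comp' q h hg j (g₂ := (j ≫ ι) ≫ g) (by rw [Category.assoc]) e.hom
    ((Scheme.Modules.pullbackComp j ι).hom.app L)
  rw [he, PBundle.bc_comp' s ι rfl j] at h1
  refine h1.symm.trans ?_
  congr 1
  simp

/-- A morphism of modules which vanishes after restriction to the pieces of a cover vanishes. -/
theorem eq_zero_of_cover {M N : T.Modules} (f : M ⟶ N) (h : ∀ x : T, ∃ (U : T.Opens), x ∈ U ∧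
    (Scheme.Modules.pullback U.ι).map f = 0) : f = 0 := by
  refine Scheme.Modules.hom_ext _ _ fun V => ?_
  ext m
  refine QC.section_eq_of_locally fun x hx => ?_
  obtain ⟨U, hxU, hU⟩ := h x
  have h0 : (Scheme.Modules.restrictFunctor U.ι).map f = 0 := by
    have := NatIso.naturality_1 (Scheme.Modules.restrictFunctorIsoPullback U.ι).symm f
    rw [← this, hU, zero_comp, comp_zero]
  let W : (U : Scheme.{u}).Opens := U.ι ⁻¹ᵁ V
  have hle : U.ι ''ᵁ W ≤ V := U.ι.image_preimage_le V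
  refine ⟨U.ι ''ᵁ W, hle, ⟨⟨x, hxU⟩, hx, rfl⟩, ?_⟩
  rw [app_res, app_res]
  exact congr(($h0).app W (res M hle m))

/-- Being a projective bundle is local on the base. -/
theorem isProjBundle_of_cover (hO : PicF.IsInvertible O) [Epi q]
    (hcov : ∀ y : X, ∃ (S' P₂ : Scheme.{u}) (b : S' ⟶ X) (_ : IsOpenImmersion b) (a : P₂ ⟶ P) (π₂ : P₂ ⟶ S')
      (sq : IsPullback a π₂ p b), y ∈ Set.range b ∧
      KRR.IsProjBundle π₂ ((Scheme.Modules.pullback b).obj E) ((Scheme.Modules.pullback a).obj O) (bcQuot q sq)) :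
    KRR.IsProjBundle p E O q where
  invertible := CurveRR.isFinLocFreeOfRank_one hO
  epi := inferInstance
  univ T g L hL s hs := by
    haveI := hs
    choose S' P₂ b hb a π₂ sq hmem hloc using fun x : T => hcov (g x)
    let W : T → T.Opens := fun x => g ⁻¹ᵁ (b x).opensRange
    have hW : ∀ x, x ∈ W x := fun x => hmem x
    have hcv : IsOpenCover W :=
      IsOpenCover.mk (top_le_iff.1 fun x _ => Opens.mem_iSup.2 ⟨x, hW x⟩)
    let 𝒰 := T.openCoverOfIsOpenCover W hcv
    have hfac : ∀ x, Set.range ((W x).ι ≫ g) ⊆ Set.range (b x) := fun x => by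
      rintro _ ⟨w, rfl⟩
      exact w.2
    let g' : ∀ x, (W x : Scheme.{u}) ⟶ S' x := fun x => IsOpenImmersion.lift (b x) ((W x).ι ≫ g) (hfac x)
    have hg' : ∀ x, g' x ≫ b x = (W x).ι ≫ g := fun x => IsOpenImmersion.lift_fac _ _ _
    have hrk : ∀ {T' : Scheme.{u}} (j : T' ⟶ T), FlatMod.IsFinLocFreeOfRank 1 ((Scheme.Modules.pullback j).obj L) :=
      fun j => CurveRR.Multi.isFinLocFreeOfRank_pullback j hL
    have hep : ∀ {T' : Scheme.{u}} (j : T' ⟶ T), Epi (bc s j rfl (𝟙 ((Scheme.Modules.pullback j).obj L))) :=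
      fun j => epi_bc s j rfl _
    choose h hg e he using fun x => haveI := hep (W x).ι; (univ_of_factor (sq x) (hloc x) (g' x) (hg' x)
      (hrk (W x).ι) (bc s (W x).ι rfl (𝟙 _))).1
    have hcomp : ∀ (i j : T), pullback.fst (W i).ι (W j).ι ≫ h i = pullback.snd (W i).ι (W j).ι ≫ h j := by
      intro i j
      let m := pullback.fst (W i).ι (W j).ι ≫ (W i).ι
      haveI := hep m
      obtain ⟨h1, e1, he1⟩ := restrict_sol s (W i).ι (h i) (hg i) (e i) (he i) (pullback.fst _ _) m rfl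
      obtain ⟨h2, e2, he2⟩ := restrict_sol s (W j).ι (h j) (hg j) (e j) (he j) (pullback.snd (W i).ι (W j).ι) m
        pullback.condition.symm
      refine (univ_of_factor (sq i) (hloc i) (pullback.fst (W i).ι (W j).ι ≫ g' i) ?_ (hrk m)
        (bc s m rfl (𝟙 _))).2 _ _ h1 h2 e1 e2 he1 he2
      rw [Category.assoc, hg', ← Category.assoc]
    let H : T ⟶ P := 𝒰.glueMorphisms h hcomp
    have hH : ∀ x, (W x).ι ≫ H = h x := fun x => 𝒰.ι_glueMorphisms h hcomp x
    have hHp : H ≫ p = g := 𝒰.hom_ext _ _ fun x => by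
      show (W x).ι ≫ H ≫ p = (W x).ι ≫ g
      rw [← Category.assoc, hH, hg]
    let qH := bc q H hHp (𝟙 _)
    haveI : Epi qH := epi_bc q H hHp _
    have hk : kernel.ι qH ≫ s = 0 := by
      refine eq_zero_of_cover _ fun x => ⟨W x, hW x, ?_⟩
      obtain ⟨e₂, he₂⟩ : ∃ e₂ : (Scheme.Modules.pullback (W x).ι).obj ((Scheme.Modules.pullback H).obj O) ⟶
          (Scheme.Modules.pullback (W x).ι).obj L, bc qH (W x).ι rfl e₂ = bc s (W x).ι rfl (𝟙 _) := by
        have hgen : ∀ (h₀ : (W x : Scheme.{u}) ⟶ P) (hh : (W x).ι ≫ H = h₀) (hg₀ : h₀ ≫ p = (W x).ι ≫ g)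
            (e₀ : (Scheme.Modules.pullback h₀).obj O ≅ (Scheme.Modules.pullback (W x).ι).obj L),
            bc q h₀ hg₀ e₀.hom = bc s (W x).ι rfl (𝟙 _) →
            ∃ e₂, bc qH (W x).ι rfl e₂ = bc s (W x).ι rfl (𝟙 _) := by
          intro h₀ hh hg₀ e₀ he₀
          subst hh
          refine ⟨(Scheme.Modules.pullbackComp (W x).ι H).hom.app O ≫ e₀.hom, ?_⟩
          rw [PBundle.bc_comp' q H hHp]
          refine Eq.trans ?_ he₀
          congr 1
          simp
        exact hgen (h x) (hH x) (hg x) (e x) (he x)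
      have h1 : (Scheme.Modules.pullback (W x).ι).map qH ≫ e₂ = (Scheme.Modules.pullback (W x).ι).map s := by
        have := he₂
        dsimp only [PBundle.bc] at this
        rw [cancel_epi, cancel_epi, Category.comp_id] at this
        exact this
      rw [Functor.map_comp, ← h1, ← Category.assoc, ← Functor.map_comp, kernel.condition]
      simp
    have hex : (ShortComplex.mk (kernel.ι qH) qH (kernel.condition qH)).Exact := ShortComplex.exact_kernel qH
    let eL : (Scheme.Modules.pullback H).obj O ⟶ L := hex.desc s hk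
    have heL : qH ≫ eL = s := hex.g_desc s hk
    haveI : Epi eL := epi_of_epi_fac heL
    haveI := W7Adic.isIso_of_epi_invertible (PicLoc.isInvertible_pullback H hO)
      (ZeroSch.isInvertible_of_rankOne hL) eL
    refine ⟨H, ⟨hHp, asIso eL, ?_⟩, ?_⟩
    · refine Eq.trans ?_ heL
      show bc q H hHp eL = bc q H hHp (𝟙 _) ≫ eL
      simp [PBundle.bc]
    · rintro h' ⟨hg₂, e', he'⟩
      refine 𝒰.hom_ext _ _ fun x => ?_
      show (W x).ι ≫ h' = (W x).ι ≫ H
      have hs0 : ∀ (h₀ : T ⟶ P) (hg₀ : h₀ ≫ p = g) (e₀ : (Scheme.Modules.pullback h₀).obj O ≅ L),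
          bc q h₀ hg₀ e₀.hom = s →
          ∃ (hp : ((W x).ι ≫ h₀) ≫ p = (W x).ι ≫ g)
            (e₁ : (Scheme.Modules.pullback ((W x).ι ≫ h₀)).obj O ≅ (Scheme.Modules.pullback (W x).ι).obj L),
            bc q ((W x).ι ≫ h₀) hp e₁.hom = bc s (W x).ι rfl (𝟙 _) := by
        intro h₀ hg₀ e₀ he₀
        have hp : ((W x).ι ≫ h₀) ≫ p = (W x).ι ≫ g := by rw [Category.assoc, hg₀]
        refine ⟨hp, ((Scheme.Modules.pullbackComp (W x).ι h₀).app O).symm ≪≫
          (Scheme.Modules.pullback (W x).ι).mapIso e₀, ?_⟩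
        rw [← he₀, PBundle.bc_comp' q h₀ hg₀]
        congr 1
      obtain ⟨h1, e1, he1⟩ := hs0 h' hg₂ e' he'
      obtain ⟨h2, e2, he2⟩ := hs0 H hHp (asIso eL) (by
        refine Eq.trans ?_ heL
        show bc q H hHp eL = bc q H hHp (𝟙 _) ≫ eL
        simp [PBundle.bc])
      haveI := hep (W x).ι
      exact (univ_of_factor (sq x) (hloc x) (g' x) (hg' x) (hrk (W x).ι) (bc s (W x).ι rfl (𝟙 _))).2 _ _ h1 h2 e1 e2
        he1 he2

end Groth.Agent.CycPB
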