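import Groth.Agent.CycPB.ProjChart
import Groth.Agent.CycPB.ProjGlue
import Groth.Agent.SymAlg.ProjProper
import Groth.Agent.S8284
import Groth.Agent.S5732
import Groth.Agent.Nagata.Bundles

/-!
Projective bundles of locally free modules exist.
-/

set_option autoImplicit false
set_option linter.style.haveILetI false
set_option linter.unusedSectionVars false
set_option backward.isDefEq.respectTransparency false
set_option backward.isDefEq.respectTransparency.types false

universe u

open CategoryTheory CategoryTheory.Limits AlgebraicGeometry TopologicalSpace Opposite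

noncomputable section

namespace Groth.Agent.CycPB

variable {X : Scheme.{u}}

/-- The projective bundle of a locally free module of positive rank: projective and proper. -/
theorem exists_projBundle {E : X.Modules} {n : ℕ} (hE : FlatMod.IsFinLocFreeOfRank (n + 1) E) :
    ∃ (P : Scheme.{u}) (p : P ⟶ X) (O : P.Modules) (q : (Scheme.Modules.pullback p).obj E ⟶ O),
      KRR.IsProjBundle p E O q ∧ IsProper p ∧ RelProj.IsProjective p := by
  have hl := Nagata.isFinLocFree_of_rank' hE
  have hq : Coh.IsQCoh E := LocFree.isQCoh_of_isFinLocFree hl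
  have hft : CohB1.IsFT E := LocFree.isFT_of_isFinLocFree hl
  haveI : E.IsQuasicoherent := hq
  obtain ⟨𝒮, j, hj⟩ := SymAlg.exists_isGrSymAlg hq
  obtain ⟨P, p, chart, hP⟩ := RelProjLib.exists_isRelProj 𝒮
  obtain ⟨O, lam, hO1⟩ := S8284.result 𝒮 p chart hP 1
  have hO1' := (RelTilde.isRelTwist_iff 𝒮 1 O lam).mp hO1
  have hO : PicF.IsInvertible O := RelTilde.isInvertible_of_isGenDegOne hO1' (SymAlg.isGenDegOne_sym hj)
  obtain ⟨φ, hφ⟩ := SymAlg.exists_isFund hj hP hO1'
  have hφ' : ∀ (U : X.Opens) (hU : IsAffineOpen U) (e : Γ(E, U))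
      (y : ↥(RelProj.emb p chart U hU ⁻¹ᵁ (p ⁻¹ᵁ U))),
      GrTwist.val (V := RelProj.emb p chart U hU ⁻¹ᵁ (p ⁻¹ᵁ U))
          ((lam U hU).app (p ⁻¹ᵁ U) ((φ.app U) e)) y =
        algebraMap (𝒮.presheaf.obj (op U)) (GrTwist.Loc (𝒮.deg U hU) y.1)
          ((j.app U) e : 𝒮.presheaf.obj (op U)) := fun U hU e y =>
    (hφ U hU e y).trans (Localization.mk_one_eq_algebraMap _)
  haveI := S5732.result E hq 𝒮 j hj p chart hP O lam hO1 φ hφ'
  have hproj : RelProj.IsProjective p :=
    SymAlg.isProjective_of_closedImm_bundle hq hft hj hP (𝟙 P) (Category.id_comp p)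
  refine ⟨P, p, O, _, isProjBundle_of_cover (q :=
      ((Scheme.Modules.pullbackPushforwardAdjunction p).homEquiv E O).symm φ) hO fun y => ?_,
    (SymAlg.isQuasiProjective_and_isProper hproj).2, hproj⟩
  obtain ⟨U, hU, hyU, ⟨b⟩⟩ := exists_basis hE y
  obtain ⟨Φ, sq, h⟩ := isProjBundle_chart hq hj hP hO hφ' hU b
  exact ⟨_, _, hU.fromSpec, inferInstance, Φ, _, sq, by rw [hU.range_fromSpec]; exact hyU, h⟩

end Groth.Agent.CycPB
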