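import Groth.Agent.PBundle.Free
import Groth.Agent.W7Strat.Frame
import Groth.Agent.CycPB.RelBundle
import Groth.Agent.PBundle.FrameTools
import Groth.Agent.W7Adic.Embed
import Groth.Agent.S3573
import Groth.Agent.Nagata.Bundles

/-!
The relative Proj of the symmetric algebra over an affine open on which the module is free is the
projective bundle of that module.
-/

set_option autoImplicit false
set_option linter.style.haveILetI false
set_option linter.unusedSectionVars false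
set_option backward.isDefEq.respectTransparency false
set_option backward.isDefEq.respectTransparency.types false

universe u

open CategoryTheory CategoryTheory.Limits AlgebraicGeometry TopologicalSpace Opposite
open Groth.Agent.QC (res res_res res_self app_res)

noncomputable section

namespace Groth.Agent.CycPB

/-- Projective space over a ring is the projective bundle of the free module. -/
theorem isProjBundle_projSpace (n : ℕ) (R : Type u) [CommRing R] :
    KRR.IsProjBundle (CohB1.ProjSpace.toSpec n R) (FlatMod.freeMod (Spec (CommRingCat.of R)) (n + 1))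
      (Twist.twistProjSpace n R 1)
      (PBundle.mk (CohB1.ProjSpace.toSpec n R) fun i => ProjUP.coord n R i) where
  invertible := CurveRR.isFinLocFreeOfRank_one (CohFinite.isInvertible_twist n _ 1)
  epi := PBundle.epi_of_generatedBy _ _ (CohFinite.isInvertible_twist n _ 1) (by
    rw [show PBundle.sec (CohB1.ProjSpace.toSpec n R) (PBundle.mk (CohB1.ProjSpace.toSpec n R)
      fun i => ProjUP.coord n R i) = fun i => ProjUP.coord n R i from funext (PBundle.sec_mk _ _)]
    refine ProjMor.generatedBy_of_mem_genLocus _ fun p => ?_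
    obtain ⟨i, hi⟩ := CohFinite.cov_X n R p
    refine ⟨i.down, ?_⟩
    rw [show ProjUP.coord n R i.down = ProjMor.sec1 (MvPolynomial.isHomogeneous_X R i.down) from
      (ProjMor.sec1_eq_globalOf _).symm]
    change p ∈ CohB1.genLocus (Twist.twist (CohB1.polyGrading n R) 1) _
    rw [ProjMor.genLocus_sec1 (ProjMor.genDegOne_projSpace n _) (MvPolynomial.isHomogeneous_X R i.down)]
    exact (ProjectiveSpectrum.mem_basicOpen _ _ _).mpr hi)
  univ T g L hL s hs := by
    let O := Twist.twistProjSpace n R 1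
    have hLi := ZeroSch.isInvertible_of_rankOne hL
    obtain ⟨r, hr, τ, hτ⟩ := ProjMor.exists_projSpace (R := R) g hLi (PBundle.sec g s)
      (PBundle.generatedBy_of_epi g s)
    refine ⟨r, ⟨hr, τ, PBundle.ext_sec g fun i => ?_⟩, ?_⟩
    · rw [PBundle.sec_bc, PBundle.sec_mk, hτ i]
    · rintro r' ⟨hg', e', he'⟩
      refine (S3573.result n r r' (hr.trans hg'.symm) (τ ≪≫ e'.symm) fun i => ?_).symm
      have h := PBundle.sec_bc (PBundle.mk (CohB1.ProjSpace.toSpec n R) fun i => ProjUP.coord n R i) r' hg' e'.hom i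
      rw [he', PBundle.sec_mk] at h
      change e'.inv.app ⊤ (τ.hom.app ⊤ _) = _
      rw [hτ i, h]
      exact congr(($(e'.hom_inv_id)).app _ (ProjUP.pullSec r' O (ProjUP.coord n R i)))

/-- An isomorphism of the quotient modules. -/
theorem isProjBundle_of_targetIso {X P : Scheme.{u}} {E : X.Modules} {O O' : P.Modules} {p : P ⟶ X}
    {q : (Scheme.Modules.pullback p).obj E ⟶ O} (hP : KRR.IsProjBundle p E O q) (e : O ≅ O') :
    KRR.IsProjBundle p E O' (q ≫ e.hom) where
  invertible := Nagata.isFinLocFreeOfRank_of_iso e hP.invertible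
  epi := haveI := hP.epi; epi_comp _ _
  univ T g L hL s hs := by
    obtain ⟨h, ⟨hg, f, hf⟩, hu⟩ := hP.univ T g L hL s hs
    refine ⟨h, ⟨hg, ((Scheme.Modules.pullback h).mapIso e).symm ≪≫ f, ?_⟩, fun h' ⟨hg', f', hf'⟩ =>
      hu h' ⟨hg', (Scheme.Modules.pullback h').mapIso e ≪≫ f', ?_⟩⟩
    · refine Eq.trans ?_ hf
      simp only [Functor.map_comp, Category.assoc, Iso.trans_hom, Iso.symm_hom, Functor.mapIso_inv]
      simp [← Functor.map_comp_assoc]
    · refine Eq.trans ?_ hf'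
      simp only [Functor.map_comp, Category.assoc, Iso.trans_hom, Functor.mapIso_hom]

variable {X P : Scheme.{u}} {E : X.Modules} {𝒮 : RelProj.QCGrAlg X} {j : E ⟶ 𝒮.toModule}

/-- Coordinates on the algebra over an open where the module is free. -/
theorem exists_polyIso (hq : Coh.IsQCoh E) (hS : RelProj.IsGrSymAlg E 𝒮 j) {U : X.Opens} (hU : IsAffineOpen U)
    {n : ℕ} (b : Module.Basis (Fin (n + 1)) Γ(X, U) Γ(E, U)) :
    ∃ ψ : 𝒮.deg U hU →+*ᵍ CohB1.polyGrading n Γ(X, U),
      (∀ d, Set.BijOn ψ (𝒮.deg U hU d) (CohB1.polyGrading n Γ(X, U) d)) ∧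
      (∀ c, ψ ((𝒮.str.app (op U)).hom c) = MvPolynomial.C c) ∧
      ∀ i, ψ (j.app U (b i) : 𝒮.presheaf.obj (op U)) = MvPolynomial.X i := by
  classical
  obtain ⟨γ, hγ, hj⟩ := SymAlg.exists_affineIso hq hS.1
  let V : X.AffineZariskiSite := ⟨U, hU⟩
  let e : MvPolynomial (Fin (n + 1)) Γ(X, U) →+* 𝒮.presheaf.obj (op U) :=
    (γ.inv.app (op V)).hom.comp (SymmetricAlgebra.equivMvPolynomial b).symm.toRingEquiv.toRingHom
  have hC : ∀ c, e (MvPolynomial.C c) = (𝒮.str.app (op U)).hom c := fun c => by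
    show (γ.inv.app (op V)).hom ((SymmetricAlgebra.equivMvPolynomial b).symm (algebraMap _ _ c)) = _
    rw [AlgEquiv.commutes]
    have h2 : 𝒮.str.app (op U) ≫ γ.hom.app (op V) = (SymAlg.symStr E).app (op V) := congr(($hγ).app (op V))
    have h1 : (γ.hom.app (op V)).hom ((𝒮.str.app (op U)).hom c) = ((SymAlg.symStr E).app (op V)).hom c := congr($h2 c)
    exact (congrArg (γ.inv.app (op V)).hom h1.symm).trans congr($(γ.hom_inv_id_app (op V)) _)
  let jb : Fin (n + 1) → 𝒮.presheaf.obj (op U) := fun i => j.app U (b i)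
  have hjb : ∀ i, jb i ∈ 𝒮.deg U hU 1 := fun i => hS.2 U hU (b i)
  have hX : ∀ i, e (MvPolynomial.X i) = jb i := fun i => by
    show (γ.inv.app (op V)).hom ((SymmetricAlgebra.equivMvPolynomial b).symm (MvPolynomial.X i)) = _
    rw [SymmetricAlgebra.equivMvPolynomial_symm_X, ← hj V]
  have hmem : ∀ {d : ℕ} {p : MvPolynomial (Fin (n + 1)) Γ(X, U)}, p ∈ CohB1.polyGrading n Γ(X, U) d →
      e p ∈ 𝒮.deg U hU d := fun {d p} hp => by
    rw [p.as_sum, map_sum]
    refine sum_mem fun m hm => ?_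
    have hd : ∑ i ∈ m.support, m i = d := by
      have := hp (MvPolynomial.mem_support_iff.1 hm)
      simpa [Finsupp.weight_apply, Finsupp.sum] using this
    rw [MvPolynomial.monomial_eq, map_mul, hC, Finsupp.prod, map_prod, ← hd]
    have h1 : (∏ i ∈ m.support, e (MvPolynomial.X i ^ m i)) ∈ 𝒮.deg U hU (∑ i ∈ m.support, m i) :=
      SetLike.prod_mem_graded _ _ _ fun i _ => by
        rw [map_pow, hX]
        simpa using SetLike.pow_mem_graded (m i) (hjb i)
    simpa only [zero_add] using SetLike.mul_mem_graded (𝒮.str_mem U hU _) h1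
  have hbij : Function.Bijective e := (ConcreteCategory.bijective_of_isIso (γ.inv.app (op V))).comp
    (SymmetricAlgebra.equivMvPolynomial b).symm.bijective
  let φ : CohB1.polyGrading n Γ(X, U) →+*ᵍ 𝒮.deg U hU := { e with map_mem := hmem }
  let E' := RingEquiv.ofBijective e hbij
  have hsurj : ∀ d (y : 𝒮.presheaf.obj (op U)), y ∈ 𝒮.deg U hU d → E'.symm y ∈ CohB1.polyGrading n Γ(X, U) d := by
    intro d y hy
    obtain ⟨x, hx⟩ : ∃ x, φ x = y := hbij.2 y
    have h1 : φ ((DirectSum.decompose (CohB1.polyGrading n Γ(X, U)) x d :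
        CohB1.polyGrading n Γ(X, U) d) : MvPolynomial (Fin (n + 1)) Γ(X, U)) = y := by
      rw [GradedRingHom.map_directSumDecompose, hx, DirectSum.decompose_of_mem_same _ hy]
    rw [← h1]
    show E'.symm (E' _) ∈ _
    rw [E'.symm_apply_apply]
    exact SetLike.coe_mem _
  refine ⟨{ E'.symm.toRingHom with map_mem := fun {i} y hy => hsurj i y hy }, fun d => ?_, fun c => ?_, fun i => ?_⟩
  · exact ⟨fun y hy => hsurj d y hy, E'.symm.injective.injOn, fun x hx => ⟨e x, hmem hx, E'.symm_apply_apply x⟩⟩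
  · exact E'.injective ((E'.apply_symm_apply _).trans (hC c).symm)
  · exact E'.injective ((E'.apply_symm_apply _).trans (hX i).symm)

set_option maxHeartbeats 1000000 in
/-- The chart over an open on which the module is free, with the coordinates. -/
theorem exists_coord_chart (hq : Coh.IsQCoh E) (hS : RelProj.IsGrSymAlg E 𝒮 j) {p : P ⟶ X}
    {chart : ∀ (U : X.Opens) (hU : IsAffineOpen U), (((p ⁻¹ᵁ U : P.Opens) : Scheme.{u}) ≅ Proj (𝒮.deg U hU))}
    (hP : RelProj.IsRelProj 𝒮 p chart) {O1 : P.Modules}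
    {lam : ∀ (U : X.Opens) (hU : IsAffineOpen U),
      O1 ⟶ (Scheme.Modules.pushforward (RelProj.emb p chart U hU)).obj (GrTwist.twist (𝒮.deg U hU) 1)}
    {φ : E ⟶ (Scheme.Modules.pushforward p).obj O1}
    (hφ : ∀ (U : X.Opens) (hU : IsAffineOpen U) (e : Γ(E, U))
      (y : ↥(RelProj.emb p chart U hU ⁻¹ᵁ (p ⁻¹ᵁ U))),
      GrTwist.val (V := RelProj.emb p chart U hU ⁻¹ᵁ (p ⁻¹ᵁ U))
          ((lam U hU).app (p ⁻¹ᵁ U) ((φ.app U) e)) y =
        algebraMap (𝒮.presheaf.obj (op U)) (GrTwist.Loc (𝒮.deg U hU) y.1)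
          ((j.app U) e : 𝒮.presheaf.obj (op U)))
    {U : X.Opens} (hU : IsAffineOpen U) {n : ℕ} (b : Module.Basis (Fin (n + 1)) Γ(X, U) Γ(E, U)) :
    ∃ (Φ : CohB1.ProjSpace n Γ(X, U) ⟶ P) (θ : O1 ⟶ (Scheme.Modules.pushforward Φ).obj
        (Twist.twistProjSpace n Γ(X, U) 1)),
      IsPullback Φ (CohB1.ProjSpace.toSpec n Γ(X, U)) p hU.fromSpec ∧
      ∀ (h : (⊤ : (CohB1.ProjSpace n Γ(X, U)).Opens) ≤ Φ ⁻¹ᵁ (p ⁻¹ᵁ U)) (i : Fin (n + 1)),
        res (Twist.twistProjSpace n Γ(X, U) 1) h (θ.app (p ⁻¹ᵁ U) (φ.app U (b i))) = ProjUP.coord n Γ(X, U) i := by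
  obtain ⟨ψ, hbij, hC, hX⟩ := exists_polyIso hq hS hU b
  let 𝒜 := CohB1.polyGrading n Γ(X, U)
  let ℬ := 𝒮.deg U hU
  have hψ : HomogeneousIdeal.irrelevant 𝒜 ≤ (HomogeneousIdeal.irrelevant ℬ).map ψ := by
    rw [HomogeneousIdeal.irrelevant_le]
    intro i hi y hy
    obtain ⟨x, hx, rfl⟩ := (hbij i).surjOn hy
    exact Ideal.mem_map_of_mem _ (HomogeneousIdeal.mem_irrelevant_of_mem _ hi hx)
  haveI : IsIso (Proj.map ψ hψ) := RelProjLib.isIso_map_of_bijOn ψ (fun d _ => hbij d) hψ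
  have hover : Proj.map ψ hψ ≫ Proj.toSpecZero ℬ ≫ Spec.map (𝒮.strZero U hU) =
      CohB1.ProjSpace.toSpec n Γ(X, U) := by
    show _ = Proj.toSpecZero 𝒜 ≫ Spec.map (CommRingCat.ofHom (algebraMap Γ(X, U) (𝒜 0)))
    rw [RelProjLib.map_toSpecZero_assoc ψ hψ, ← Spec.map_comp]
    congr 2
    exact CommRingCat.hom_ext (RingHom.ext fun c => Subtype.ext (hC c))
  have sq : IsPullback (RelProj.emb p chart U hU) (Proj.toSpecZero ℬ ≫ Spec.map (𝒮.strZero U hU)) p
      hU.fromSpec := by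
    refine (IsOpenImmersion.isPullback _ _ _ _ ?_ ?_).flip
    · have h := hP.chart_over U hU
      show ((chart U hU).inv ≫ (p ⁻¹ᵁ U).ι) ≫ p = (Proj.toSpecZero ℬ ≫ Spec.map (𝒮.strZero U hU)) ≫ hU.fromSpec
      rw [Category.assoc, ← h, Iso.inv_hom_id_assoc, Category.assoc]
    · rw [hU.opensRange_fromSpec]
      show _ = ((chart U hU).inv ≫ (p ⁻¹ᵁ U).ι).opensRange
      rw [Scheme.Hom.opensRange_comp_of_isIso, Scheme.Opens.opensRange_ι]
  refine ⟨Proj.map ψ hψ ≫ RelProj.emb p chart U hU,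
    lam U hU ≫ (Scheme.Modules.pushforward (RelProj.emb p chart U hU)).map (GrTwist.comap ψ hψ 1) ≫
      (Scheme.Modules.pushforwardComp (Proj.map ψ hψ) (RelProj.emb p chart U hU)).hom.app _, ?_, fun h i => ?_⟩
  · refine sq.of_iso (asIso (Proj.map ψ hψ)).symm (Iso.refl _) (Iso.refl _) (Iso.refl _) ?_ ?_ ?_ ?_
    · simp
    · simpa using ((Iso.inv_comp_eq (asIso (Proj.map ψ hψ))).2 hover.symm).symm
    · simp
    · simp
  · let V : (Proj ℬ).Opens := RelProj.emb p chart U hU ⁻¹ᵁ (p ⁻¹ᵁ U)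
    let t : Γ(GrTwist.twist ℬ 1, V) := (lam U hU).app (p ⁻¹ᵁ U) (φ.app U (b i))
    refine GrT.pt_ext 𝒜 𝒜 fun y => ?_
    have hy : ProjectiveSpectrum.comap ψ hψ y.1 ∈ V := h y.2
    have h1 : GrTwist.val (V := V) t ⟨ProjectiveSpectrum.comap ψ hψ y.1, hy⟩ = _ := hφ U hU (b i) ⟨_, hy⟩
    show GrTwist.locMap ψ hψ y.1 (GrTwist.val (V := V) t ⟨ProjectiveSpectrum.comap ψ hψ y.1, hy⟩) = _
    rw [h1, ← Localization.mk_one_eq_algebraMap]
    refine (GrTwist.locMap_mk ψ hψ _ _ _).trans ?_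
    exact congrArg₂ Localization.mk (hX i) (Subtype.ext (map_one ψ))

end Groth.Agent.CycPB
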