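import Groth.Agent.CycPB.HomInv
import Groth.Agent.SiteCoh.Cover
import Groth.Agent.DCohCpt.Sections

/-!
Injectivity of the pull back to an affine bundle.
-/

set_option autoImplicit false
set_option linter.unusedSectionVars false
set_option linter.style.haveILetI false
set_option backward.isDefEq.respectTransparency false
set_option backward.isDefEq.respectTransparency.types false

universe u

open CategoryTheory CategoryTheory.Limits AlgebraicGeometry TopologicalSpace Opposite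
open Scheme.AffineZariskiSite
open RelSpec (QCAlg)
open Groth.Agent.QC (res resO)
open Groth.Agent.WeakAssLib (mgerm)
open Groth.Agent.SymAlg

noncomputable section

namespace Groth.Agent.CycPB

/-- A morphism to a relative spectrum from ring maps on affine opens. -/
theorem exists_hom_of_affine {U S : Scheme.{u}} (q : U ⟶ S) (A : QCAlg S)
    (ω : ∀ V : S.Opens, IsAffineOpen V → (A.presheaf.obj (op V) ⟶ Γ(U, q ⁻¹ᵁ V)))
    (hnat : ∀ (V W : S.AffineZariskiSite) (i : W ⟶ V),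
      A.presheaf.map (homOfLE (toOpens_mono (leOfHom i))).op ≫ ω W.1 W.2 =
        ω V.1 V.2 ≫ U.presheaf.map (homOfLE (q.preimage_mono (toOpens_mono (leOfHom i)))).op)
    (hstr : ∀ (V : S.Opens) (hV : IsAffineOpen V), A.str.app (op V) ≫ ω V hV = q.app V) :
    ∃ h : AffAlg.over A.π q, ∀ (V : S.Opens) (hV : IsAffineOpen V),
      (RelSpecUP.toAlg A q h).1.app (op V) = ω V hV := by
  let B : TopCat.Sheaf CommRingCat.{u} S.carrier :=
    ⟨AffAlg.alg q, TopCat.Sheaf.pushforward_sheaf_of_sheaf q.base U.sheaf.property⟩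
  let ω₀ : (toOpensFunctor S).op ⋙ A.presheaf ⟶ (toOpensFunctor S).op ⋙ B.obj :=
    { app := fun V => ω V.unop.1 V.unop.2
      naturality := fun V W i => hnat V.unop W.unop i.unop }
  let Ω : A.presheaf ⟶ AffAlg.alg q :=
    Functor.IsCoverDense.restrictHomEquivHom (G := toOpensFunctor S)
      (K := Opens.grothendieckTopology S) (ℱ := A.presheaf) (ℱ' := B) ω₀
  have hΩ : ∀ (V : S.Opens) (hV : IsAffineOpen V), Ω.app (op V) = ω V hV := fun V hV =>
    NatTrans.congr_app ((Functor.IsCoverDense.restrictHomEquivHom (G := toOpensFunctor S)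
      (K := Opens.grothendieckTopology S) (ℱ := A.presheaf) (ℱ' := B)).symm_apply_apply ω₀) (op ⟨V, hV⟩)
  have hc : A.str ≫ Ω = q.c := by
    refine (Functor.IsCoverDense.restrictHomEquivHom (G := toOpensFunctor S)
      (K := Opens.grothendieckTopology S) (ℱ := S.presheaf) (ℱ' := B)).symm.injective ?_
    ext V : 2
    show A.str.app (op V.unop.1) ≫ Ω.app (op V.unop.1) = _
    rw [hΩ _ V.unop.2, hstr]
    rfl
  obtain ⟨h, hh⟩ := (RelSpecUP.toAlg_bijective A q).2 ⟨Ω, hc⟩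
  exact ⟨h, fun V hV => by rw [hh]; exact hΩ V hV⟩

/-- Morphisms to a relative spectrum agree if their algebra maps agree on affine opens. -/
theorem hom_ext_of_affine {U S : Scheme.{u}} (q : U ⟶ S) (A : QCAlg S) (h h' : AffAlg.over A.π q)
    (H : ∀ (V : S.Opens), IsAffineOpen V →
      (RelSpecUP.toAlg A q h).1.app (op V) = (RelSpecUP.toAlg A q h').1.app (op V)) : h = h' := by
  refine (RelSpecUP.toAlg_bijective A q).1 (Subtype.ext ?_)
  let B : TopCat.Sheaf CommRingCat.{u} S.carrier :=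
    ⟨AffAlg.alg q, TopCat.Sheaf.pushforward_sheaf_of_sheaf q.base U.sheaf.property⟩
  refine (Functor.IsCoverDense.restrictHomEquivHom (G := toOpensFunctor S)
    (K := Opens.grothendieckTopology S) (ℱ := A.presheaf) (ℱ' := B)).symm.injective ?_
  ext V : 2
  exact H V.unop.1 V.unop.2

variable {X : Scheme.{u}}

/-- The spectrum of the structure algebra is the base. -/
theorem isIso_unit_π (X : Scheme.{u}) : IsIso (QCAlg.unit X).π := by
  obtain ⟨g, hg, hgp⟩ := isIso_of_affine (𝟙 X) (QCAlg.unit X) (fun V hV => hV) (fun V _ => 𝟙 (X.presheaf.obj (op V)))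
    (fun V W i => rfl) (fun V hV => rfl) fun V hV => Function.bijective_id
  haveI := hg
  rw [show (QCAlg.unit X).π = inv g by rw [← IsIso.inv_hom_id_assoc g (QCAlg.unit X).π, hgp, Category.comp_id]]
  infer_instance

/-- A retraction of the trivial sub-bundle over an affine open. -/
theorem exists_retraction_e {S : ShortComplex X.Modules} (hS : S.ShortExact) (e : S.X₁ ≅ Coh.structureModule X)
    (hq2 : Coh.IsQCoh S.X₂) (hq3 : Coh.IsQCoh S.X₃) {V : X.Opens} (hV : IsAffineOpen V) {n : ℕ}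
    (b : Module.Basis (Fin n) Γ(X, V) Γ(S.X₃, V)) :
    ∃ r : Γ(S.X₂, V) →ₗ[Γ(X, V)] Γ(X, V),
      r (res S.X₂ le_top ((e.inv ≫ S.f).app ⊤ (show Γ(Coh.structureModule X, ⊤) from (1 : Γ(X, ⊤))))) = 1 := by
  haveI := hS.mono_f
  haveI := hS.epi_g
  let g := QC.appₗ S.g V
  let f := QC.appₗ (e.inv ≫ S.f) V
  haveI : Mono (e.inv ≫ S.f) := mono_comp _ _
  have hf : Function.Injective f := (QC.mono_iff_app_injective (e.inv ≫ S.f)).1 inferInstance V
  choose s hs using fun i => QC.app_surjective_of_epi hV hq2 hq3 S.g (b i)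
  let σ := b.constr Γ(X, V) s
  have hσ : g.comp σ = LinearMap.id := b.ext fun i => by
    rw [LinearMap.comp_apply, Module.Basis.constr_basis]
    exact hs i
  have hex : ∀ m, ∃ a : Γ(Coh.structureModule X, V), f a = m - σ (g m) := fun m => by
    have h0 : g (m - σ (g m)) = 0 := by
      rw [map_sub, show g (σ (g m)) = g m from LinearMap.congr_fun hσ (g m), sub_self]
    obtain ⟨c, hc⟩ := Groth.Agent.SiteCoh.sections_exact (CohQC.seq_shortExact hS) V _ h0
    refine ⟨e.hom.app V c, ?_⟩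
    show (e.inv ≫ S.f).app V (e.hom.app V c) = _
    have := congr($(e.hom_inv_id).app V c)
    exact (congrArg (S.f.app V) this).trans hc
  choose a ha using hex
  let r : Γ(S.X₂, V) →ₗ[Γ(X, V)] Γ(Coh.structureModule X, V) :=
    { toFun := a
      map_add' := fun x y => hf (by rw [map_add, ha, ha, ha, map_add, map_add]; abel)
      map_smul' := fun c x => hf (by
        rw [RingHom.id_apply, map_smul, ha, ha, map_smul, map_smul, smul_sub]) }
  refine ⟨r, hf ?_⟩
  show f (a _) = _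
  rw [ha]
  have h1 : res S.X₂ (le_top : V ≤ ⊤) ((e.inv ≫ S.f).app ⊤ (show Γ(Coh.structureModule X, ⊤) from (1 : Γ(X, ⊤)))) =
      f (show Γ(Coh.structureModule X, V) from (1 : Γ(X, V))) := by
    rw [QC.app_res]
    exact congrArg f (map_one (resO X (le_top : V ≤ ⊤)))
  rw [h1]
  have h2 : g (f (show Γ(Coh.structureModule X, V) from (1 : Γ(X, V)))) = 0 := by
    show S.g.app V ((e.inv ≫ S.f).app V _) = 0
    exact congr($(show (e.inv ≫ S.f) ≫ S.g = 0 by rw [Category.assoc, S.zero, comp_zero]).app V _)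
  rw [h2, map_zero, sub_zero]

variable {P : Scheme.{u}} {F : X.Modules} {𝒮 : RelProj.QCGrAlg X} {j : F ⟶ 𝒮.toModule}
  (hj : RelProj.IsGrSymAlg F 𝒮 j) {p : P ⟶ X}
  {ch : ∀ (U : X.Opens) (hU : IsAffineOpen U), ((p ⁻¹ᵁ U : P.Opens) : Scheme.{u}) ≅ Proj (𝒮.deg U hU)}
  (hP : RelProj.IsRelProj 𝒮 p ch) {O1 : P.Modules}
  {lam : ∀ (U : X.Opens) (hU : IsAffineOpen U), O1 ⟶ (RelTilde.Datum.self 𝒮).E p ch 1 U hU}
  (hO1 : (RelTilde.Datum.self 𝒮).IsTilde p ch 1 O1 lam)
  {φ : F ⟶ (Scheme.Modules.pushforward p).obj O1} (hφ : IsFund j lam φ)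

include hj hP in
/-- A retraction gives a point off the hyperplane in every fibre. -/
theorem exists_point_DjE (hF : Coh.IsQCoh F) (V : X.Opens) (hV : IsAffineOpen V) (eV : Γ(F, V))
    (r : Γ(F, V) →ₗ[Γ(X, V)] Γ(X, V)) (hr : r eV = 1) (y : X) (hy : y ∈ V) :
    ∃ x ∈ DjE p ch j V hV eV, p x = y := by
  obtain ⟨γF, hγF, hjF⟩ := exists_affineIso hF hj.1
  let μ : symObj F V →+* Γ(X, V) := symLift (RingHom.id _) r.toAddMonoidHom fun a m => r.map_smul a m
  let ψ : 𝒮.presheaf.obj (op V) →+* Γ(X, V) := μ.comp (γF.hom.app (op ⟨V, hV⟩)).hom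
  have hψs : ∀ a, ψ ((𝒮.str.app (op V)).hom a) = a := fun a =>
    (congrArg μ (γ_str γF hγF ⟨V, hV⟩ a)).trans (symLift_algebraMap ..)
  have hψ1 : ψ (jE j V eV) = 1 := by
    refine (congrArg (fun z => μ ((γF.hom.app (op ⟨V, hV⟩)).hom z)) (hjF ⟨V, hV⟩ eV)).trans ?_
    refine (congrArg μ ((γF.app (op (⟨V, hV⟩ : X.AffineZariskiSite))).inv_hom_id_apply _)).trans ?_
    exact (symLift_ι ..).trans hr
  obtain ⟨Θ, hΘ⟩ := exists_descend hj V hV eV (p := p) (ch := ch) ψ hψ1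
  have hDaff : IsAffineOpen (DjE p ch j V hV eV) :=
    (Proj.isAffineOpen_basicOpen (𝒮.deg V hV) (jE j V eV) (hj.2 V hV eV) one_pos).image_of_isOpenImmersion _
  have hle := DjE_le (p := p) (j := j) (ch := ch) V hV eV
  have hid : p.appLE V (DjE p ch j V hV eV) hle ≫ CommRingCat.ofHom Θ = 𝟙 _ := by
    refine CommRingCat.hom_ext (RingHom.ext fun a => ?_)
    show Θ (resO P hle ((p.app V).hom a)) = a
    rw [← bundleFn_str hP hj V hV eV a, hΘ, hψs]
  let z := hV.primeIdealOf ⟨y, hy⟩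
  refine ⟨hDaff.fromSpec (Spec.map (CommRingCat.ofHom Θ) z), ?_, ?_⟩
  · rw [← SetLike.mem_coe, ← hDaff.range_fromSpec]
    exact ⟨_, rfl⟩
  · rw [← Scheme.Hom.comp_apply, ← hV.SpecMap_appLE_fromSpec p hDaff hle, Scheme.Hom.comp_apply]
    show hV.fromSpec ((Spec.map (CommRingCat.ofHom Θ) ≫ Spec.map (p.appLE V (DjE p ch j V hV eV) hle)) z) = y
    rw [← Spec.map_comp, hid, Spec.map_id]
    exact hV.fromSpec_primeIdealOf ⟨y, hy⟩

set_option maxHeartbeats 1600000 in
include hj hP hO1 hφ in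
/-- The affine bundle as an open of the projective bundle. -/
theorem exists_iso_affBundle (hF : Coh.IsQCoh F) (e : Γ(F, (⊤ : X.Opens))) (U : P.Opens)
    (hU : ∀ x, x ∈ U ↔ (Submodule.Quotient.mk (mgerm O1 (show x ∈ p ⁻¹ᵁ ⊤ from trivial)
      (φ.app ⊤ e : Γ(O1, p ⁻¹ᵁ ⊤))) : Cyc.secFibre O1 x) ≠ 0)
    (AF : QCAlg X) (jF : F ⟶ AF.toModule) (hAF : RelSpec.IsSymAlg F AF jF)
    (A1 : QCAlg X) (j1 : Coh.structureModule X ⟶ A1.toModule) (hA1 : RelSpec.IsSymAlg (Coh.structureModule X) A1 j1)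
    (ψ : A1 ⟶ AF) (ε : A1 ⟶ QCAlg.unit X) (v v' : Γ(X, (⊤ : X.Opens))) (hv : v * v' = 1)
    (hψ1 : ∀ V : X.Opens, (ψ.hom.app (op V)).hom
      (j1.app V (show Γ(Coh.structureModule X, V) from (1 : Γ(X, V))) : A1.presheaf.obj (op V)) =
        (jF.app V (res F le_top e) : AF.presheaf.obj (op V)))
    (hε1 : ∀ V : X.Opens, (ε.hom.app (op V)).hom
      (j1.app V (show Γ(Coh.structureModule X, V) from (1 : Γ(X, V))) : A1.presheaf.obj (op V)) =
        resO X le_top v) :
    ∃ g : U.toScheme ⟶ pullback (QCAlg.specMap ψ) (QCAlg.specMap ε), IsIso g ∧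
      g ≫ pullback.fst (QCAlg.specMap ψ) (QCAlg.specMap ε) ≫ AF.π = U.ι ≫ p := by
  classical
  haveI : F.IsQuasicoherent := hF
  obtain ⟨γ, hγ, hjA⟩ := exists_affineIso hF hAF
  obtain ⟨γF, hγF, hjF⟩ := exists_affineIso hF hj.1
  have hD : ∀ (V : X.Opens) (hV : IsAffineOpen V), U ⊓ p ⁻¹ᵁ V = DjE p ch j V hV (res F (le_top : V ≤ ⊤) e) :=
    inf_preimage_eq hj hO1 hφ hF e U hU
  let bF : ∀ (V : X.Opens) (hV : IsAffineOpen V),
      𝒮.presheaf.obj (op V) →+* Γ(P, DjE p ch j V hV (res F (le_top : V ≤ ⊤) e)) :=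
    fun V hV => bundleFn hj V hV (res F (le_top : V ≤ ⊤) e)
  let st : ∀ (V : X.Opens) (hV : IsAffineOpen V),
      Γ(X, V) →+* Γ(P, DjE p ch j V hV (res F (le_top : V ≤ ⊤) e)) := fun V hV =>
    (resO P (DjE_le (ch := ch) V hV (res F (le_top : V ≤ ⊤) e))).comp (p.app V).hom
  have hbst : ∀ (V : X.Opens) (hV : IsAffineOpen V) (a : Γ(X, V)),
      bF V hV ((𝒮.str.app (op V)).hom a) = st V hV a :=
    fun V hV a => bundleFn_str hP hj V hV (res F (le_top : V ≤ ⊤) e) a
  have hje : ∀ (V : X.Opens) (a : Γ(X, V)) (m : Γ(F, V)),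
      jE j V (a • m) = (𝒮.str.app (op V)).hom a * jE j V m := fun V a m => Scheme.Modules.Hom.app_smul j a m
  obtain ⟨χ, hχa, hχι⟩ : ∃ χ : ∀ (V : X.Opens) (hV : IsAffineOpen V),
      symObj F V →+* Γ(P, DjE p ch j V hV (res F (le_top : V ≤ ⊤) e)),
      (∀ (V : X.Opens) (hV : IsAffineOpen V) a, χ V hV (algebraMap _ _ a) = st V hV a) ∧
      ∀ (V : X.Opens) (hV : IsAffineOpen V) m, χ V hV (SymmetricAlgebra.ι Γ(X, V) Γ(F, V) m) =
        st V hV (resO X le_top v) * bF V hV (jE j V m) := by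
    refine ⟨fun V hV => symLift (st V hV) (AddMonoidHom.mk' (fun m => st V hV (resO X le_top v) * bF V hV (jE j V m))
      fun a b => by rw [← mul_add, ← map_add (bF V hV)]; exact congrArg (fun z => _ * bF V hV z) (map_add (j.app V).hom a b))
      fun a m => by
        show _ * bF V hV (jE j V (a • m)) = st V hV a * (_ * bF V hV (jE j V m))
        rw [hje, map_mul, hbst]; ring, fun V hV a => ?_, fun V hV m => ?_⟩
    · exact symLift_algebraMap ..
    · exact symLift_ι ..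
  let q : U.toScheme ⟶ X := U.ι ≫ p
  have hDle : ∀ (V : X.Opens) (hV : IsAffineOpen V),
      q ⁻¹ᵁ V ≤ U.ι ⁻¹ᵁ DjE p ch j V hV (res F (le_top : V ≤ ⊤) e) := fun V hV => by
    refine le_trans ?_ (U.ι.preimage_mono (hD V hV).le)
    intro x hx
    exact ⟨x.2, hx⟩
  have hDeq : ∀ (V : X.Opens) (hV : IsAffineOpen V),
      q ⁻¹ᵁ V = U.ι ⁻¹ᵁ DjE p ch j V hV (res F (le_top : V ≤ ⊤) e) := fun V hV => by
    refine le_antisymm (hDle V hV) ?_
    refine le_trans (U.ι.preimage_mono (hD V hV).ge) ?_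
    intro x hx
    exact hx.2
  have hDU : ∀ (V : X.Opens) (hV : IsAffineOpen V),
      DjE p ch j V hV (res F (le_top : V ≤ ⊤) e) ≤ U.ι.opensRange := fun V hV =>
    ((hD V hV).ge.trans inf_le_left).trans U.opensRange_ι.ge
  let I : ∀ (V : X.Opens) (hV : IsAffineOpen V),
      Γ(P, DjE p ch j V hV (res F (le_top : V ≤ ⊤) e)) ⟶ Γ(U.toScheme, q ⁻¹ᵁ V) :=
    fun V hV => U.ι.appLE _ _ (hDle V hV)
  have hI : ∀ (V : X.Opens) (hV : IsAffineOpen V), Function.Bijective (I V hV).hom := fun V hV => by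
    have h2 : ∀ (O : U.toScheme.Opens) (h : O = U.ι ⁻¹ᵁ DjE p ch j V hV (res F (le_top : V ≤ ⊤) e)),
        Function.Bijective (U.ι.appLE _ O h.le).hom := by
      rintro O rfl
      rw [← Scheme.Hom.app_eq_appLE]
      exact RelTilde.bijective_app_of_le U.ι (hDU V hV)
    exact h2 _ (hDeq V hV)
  have hIst : ∀ (V : X.Opens) (hV : IsAffineOpen V) (a : Γ(X, V)), (I V hV).hom (st V hV a) = (q.app V).hom a :=
    fun V hV a => by
      show (U.ι.appLE _ _ (hDle V hV)).hom (resO P _ ((p.app V).hom a)) = ((U.ι ≫ p).app V).hom a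
      rw [Scheme.Hom.app_eq_appLE (U.ι ≫ p), Scheme.Hom.comp_appLE U.ι p]
      exact congr($(U.ι.map_appLE (hDle V hV) (homOfLE (DjE_le (ch := ch) V hV (res F (le_top : V ≤ ⊤) e))).op) ((p.app V).hom a))
  -- the map to the vector bundle
  obtain ⟨g1, hg1⟩ := exists_hom_of_affine q AF
    (fun V hV => γ.hom.app (op ⟨V, hV⟩) ≫ CommRingCat.ofHom (χ V hV) ≫ I V hV) (fun V₀ W₀ i₀ => by
      obtain ⟨V, hV⟩ := V₀
      obtain ⟨W, hW⟩ := W₀
      have h : W ≤ V := toOpens_mono (leOfHom i₀)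
      let V' : X.AffineZariskiSite := ⟨V, hV⟩
      let W' : X.AffineZariskiSite := ⟨W, hW⟩
      have hle : DjE p ch j W hW (res F (le_top : W ≤ ⊤) e) ≤ DjE p ch j V hV (res F (le_top : V ≤ ⊤) e) :=
        ((hD W hW).ge.trans (inf_le_inf le_rfl (p.preimage_mono h))).trans (hD V hV).le
      have hst : ∀ a, st W hW (resO X h a) = resO P hle (st V hV a) := fun a => by
        show resO P _ ((p.app W).hom (resO X h a)) = resO P hle (resO P _ ((p.app V).hom a))
        rw [show (p.app W).hom (resO X h a) = resO P (p.preimage_mono h) ((p.app V).hom a) from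
          congr($(p.naturality (homOfLE h).op) a), QC.resO_resO, QC.resO_resO]
      have hb : ∀ m, bF W hW (jE j W (res F h m)) = resO P hle (bF V hV (jE j V m)) := fun m => by
        have hg := isGen_fund hj hO1 hφ W hW (res F (le_top : W ≤ ⊤) e)
          (DjE_le (ch := ch) W hW (res F (le_top : W ≤ ⊤) e)) ((RelProj.emb p ch W hW).preimage_image_eq _).le
        refine (hg _ le_rfl).1 ?_
        simp only [QC.res_self]
        refine (res_phi_eq hO1 hj hφ W hW (res F (le_top : W ≤ ⊤) e) (res F h m)).symm.trans ?_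
        have h2 := congrArg (res O1 hle) (res_phi_eq hO1 hj hφ V hV (res F (le_top : V ≤ ⊤) e) m)
        rw [QC.res_smul, QC.res_res, QC.res_res] at h2
        have e1 : ∀ (m' : Γ(F, V)), res O1 (DjE_le (j := j) (ch := ch) W hW (res F (le_top : W ≤ ⊤) e))
            (φ.app W (res F h m') : Γ(O1, p ⁻¹ᵁ W)) =
              res O1 (hle.trans (DjE_le (j := j) (ch := ch) V hV (res F (le_top : V ≤ ⊤) e)))
                (φ.app V m' : Γ(O1, p ⁻¹ᵁ V)) := fun m' => by
          rw [← QC.app_res φ h m']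
          exact QC.res_res O1 _ (p.preimage_mono h) _
        rw [e1, h2, ← e1, show res F h (res F (le_top : V ≤ ⊤) e) = res F (le_top : W ≤ ⊤) e from
          QC.res_res F h le_top e]
      have key : ∀ z, χ W hW ((symRes F h).hom z) = resO P hle (χ V hV z) := by
        refine RingHom.congr_fun (f := (χ W hW).comp (symRes F h).hom) (g := (resO P hle).comp (χ V hV))
          (symHom_ext (fun a => ?_) fun m => ?_)
        · rw [RingHom.comp_apply, RingHom.comp_apply, symRes_algebraMap, hχa, hχa, hst]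
        · rw [RingHom.comp_apply, RingHom.comp_apply, symRes_ι, hχι, hχι, hb, map_mul, ← hst, QC.resO_resO]
      refine CommRingCat.hom_ext (RingHom.ext fun a => ?_)
      show (I W hW).hom (χ W hW ((γ.hom.app (op W')).hom ((AF.presheaf.map (homOfLE h).op).hom a))) =
        resO _ (q.preimage_mono h) ((I V hV).hom (χ V hV ((γ.hom.app (op V')).hom a)))
      rw [show (γ.hom.app (op W')).hom ((AF.presheaf.map (homOfLE h).op).hom a) =
        (symRes F h).hom ((γ.hom.app (op V')).hom a) from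
        congr($(γ.hom.naturality (X := op V') (Y := op W') i₀.op) a), key]
      exact ((congr($(U.ι.map_appLE (hDle W hW) (homOfLE hle).op) _))).trans
        (congr($(U.ι.appLE_map (hDle V hV) (homOfLE (q.preimage_mono h)).op) _)).symm)
    (fun V hV => CommRingCat.hom_ext (RingHom.ext fun a => by
      show (I V hV).hom (χ V hV ((γ.hom.app (op ⟨V, hV⟩)).hom ((AF.str.app (op V)).hom a))) = _
      rw [γ_str γ hγ ⟨V, hV⟩ a, hχa, hIst]))
  -- it lands in the affine bundle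
  obtain ⟨h0, hh0⟩ := (RelSpecUP.toAlg_bijective (QCAlg.unit X) q).2 ⟨q.c, Category.id_comp _⟩
  have hunit : ∀ {T : Scheme.{u}} (t : T ⟶ X) (h : AffAlg.over (QCAlg.unit X).π t),
      (RelSpecUP.toAlg (QCAlg.unit X) t h).1 = t.c := fun t h =>
    (Category.id_comp _).symm.trans (RelSpecUP.toAlg (QCAlg.unit X) t h).2
  have hw : g1.1 ≫ QCAlg.specMap ψ = h0.1 ≫ QCAlg.specMap ε := by
    refine congrArg Subtype.val (hom_ext_of_affine q A1 ⟨_, by rw [Category.assoc, QCAlg.specMap_π, g1.2]⟩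
      ⟨_, by rw [Category.assoc, QCAlg.specMap_π, h0.2]⟩ fun V hV => ?_)
    rw [RelSpecUP.toAlg_specMap ψ q g1, RelSpecUP.toAlg_specMap ε q h0, hunit, NatTrans.comp_app, NatTrans.comp_app,
      hg1 V hV]
    refine CommRingCat.hom_ext (RingHom.ext fun a => ?_)
    haveI : (Coh.structureModule X).IsQuasicoherent := QC.isQCoh_unit X
    have ha : a ∈ Subring.closure (Set.range (SymAlgGen.strS A1 V) ∪ Set.range (SymAlgGen.jsec j1 V)) :=
      (SymAlgGen.gen_eq_top hA1 hV).ge (Subring.mem_top a)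
    refine RingHom.eqOn_set_closure ?_ ha
    have hs : ∀ r : Γ(X, V), (ψ.hom.app (op V)).hom (SymAlgGen.strS A1 V r) = (AF.str.app (op V)).hom r :=
      fun r => congr($(NatTrans.congr_app ψ.comm (op V)) r)
    have hs' : ∀ r : Γ(X, V), (ε.hom.app (op V)).hom (SymAlgGen.strS A1 V r) = r :=
      fun r => congr($(NatTrans.congr_app ε.comm (op V)) r)
    rintro _ (⟨r, rfl⟩ | ⟨m, rfl⟩)
    · show (I V hV).hom (χ V hV ((γ.hom.app (op ⟨V, hV⟩)).hom ((ψ.hom.app (op V)).hom (SymAlgGen.strS A1 V r)))) =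
        (q.app V).hom ((ε.hom.app (op V)).hom (SymAlgGen.strS A1 V r))
      rw [hs, hs', γ_str γ hγ ⟨V, hV⟩ r, hχa, hIst]
    · show (I V hV).hom (χ V hV ((γ.hom.app (op ⟨V, hV⟩)).hom ((ψ.hom.app (op V)).hom (SymAlgGen.jsec j1 V m)))) =
        (q.app V).hom ((ε.hom.app (op V)).hom (SymAlgGen.jsec j1 V m))
      have hm : SymAlgGen.jsec j1 V m = SymAlgGen.strS A1 V (show Γ(X, V) from m) *
          (show A1.presheaf.obj (op V) from j1.app V (show Γ(Coh.structureModule X, V) from (1 : Γ(X, V)))) := by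
        refine Eq.trans ?_ (Scheme.Modules.Hom.app_smul j1 (show Γ(X, V) from m) _)
        show j1.app V m = _
        refine congrArg (j1.app V) ?_
        exact (mul_one (show Γ(X, V) from m)).symm
      rw [hm, map_mul (ψ.hom.app (op V)).hom, map_mul (ε.hom.app (op V)).hom, hψ1, hε1, hs, hs', map_mul, map_mul, map_mul, map_mul, γ_str γ hγ ⟨V, hV⟩, hχa, hIst,
        show (γ.hom.app (op ⟨V, hV⟩)).hom (jF.app V (res F le_top e) : AF.presheaf.obj (op V)) =
          SymmetricAlgebra.ι Γ(X, V) Γ(F, V) (res F le_top e) from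
          (congrArg _ (hjA ⟨V, hV⟩ _)).trans ((γ.app (op (⟨V, hV⟩ : X.AffineZariskiSite))).inv_hom_id_apply _),
        hχι, show bF V hV (jE j V (res F le_top e)) = 1 from bundleFn_self hj V hV _, mul_one, hIst]
  let B := pullback (QCAlg.specMap ψ) (QCAlg.specMap ε)
  let f1 : B ⟶ AF.spec := pullback.fst (QCAlg.specMap ψ) (QCAlg.specMap ε)
  let f2 : B ⟶ (QCAlg.unit X).spec := pullback.snd (QCAlg.specMap ψ) (QCAlg.specMap ε)
  let πB : B ⟶ X := f1 ≫ AF.π
  let g : U.toScheme ⟶ B := pullback.lift g1.1 h0.1 hw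
  have hgf : g ≫ f1 = g1.1 := pullback.lift_fst _ _ _
  have hgπ : g ≫ πB = q := by
    show g ≫ f1 ≫ AF.π = q
    rw [← Category.assoc, hgf, g1.2]
  haveI := isIso_unit_π X
  haveI : IsClosedImmersion (QCAlg.specMap ε) := by
    haveI : IsClosedImmersion (QCAlg.specMap ε ≫ A1.π) := by rw [QCAlg.specMap_π]; infer_instance
    exact IsClosedImmersion.of_comp _ A1.π
  haveI : IsClosedImmersion f1 := inferInstanceAs (IsClosedImmersion (pullback.fst _ _))
  refine ⟨g, RelSpecUP.isIso_of_charts g fun y => ?_, hgπ⟩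
  obtain ⟨V, hV, hyV, -⟩ := exists_isAffineOpen_mem_and_subset (U := (⊤ : X.Opens)) (x := πB y) trivial
  have hA : IsAffineOpen (πB ⁻¹ᵁ V) := (hV.preimage AF.π).preimage f1
  have hQ : IsAffineOpen (q ⁻¹ᵁ V) := by
    rw [hDeq V hV]
    have h1 : IsAffineOpen (DjE p ch j V hV (res F (le_top : V ≤ ⊤) e)) :=
      (Proj.isAffineOpen_basicOpen (𝒮.deg V hV) (jE j V (res F (le_top : V ≤ ⊤) e))
        (hj.2 V hV (res F (le_top : V ≤ ⊤) e)) one_pos).image_of_isOpenImmersion _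
    exact h1.preimage_of_isOpenImmersion U.ι (hDU V hV)
  have hle : q ⁻¹ᵁ V ≤ g ⁻¹ᵁ (πB ⁻¹ᵁ V) := by rw [← Scheme.Hom.comp_preimage, hgπ]
  let G := g.appLE (πB ⁻¹ᵁ V) (q ⁻¹ᵁ V) hle
  let Fb : AF.presheaf.obj (op V) ⟶ Γ(B, πB ⁻¹ᵁ V) := (RelSpecUP.toAlg AF πB ⟨f1, rfl⟩).1.app (op V)
  have hFG : Fb ≫ G = γ.hom.app (op ⟨V, hV⟩) ≫ CommRingCat.ofHom (χ V hV) ≫ I V hV := by
    rw [← hg1 V hV]
    show Fb ≫ G = _
    have e1 : g1 = ⟨g ≫ f1, by rw [hgf]; exact g1.2⟩ := Subtype.ext hgf.symm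
    rw [e1]
    show ((inv AF.gammaMap ≫ AffAlg.algHom AF.π πB f1 rfl).app (op V)) ≫ G =
      (inv AF.gammaMap ≫ AffAlg.algHom AF.π q (g ≫ f1) _).app (op V)
    rw [RelSpecUP.algHom_comp AF.π πB q f1 rfl g hgπ, ← Category.assoc (inv AF.gammaMap), NatTrans.comp_app]
    exact congrArg (_ ≫ ·) (RelSpecUP.algHom_app πB q g hgπ V).symm
  have hFs : ∀ a, Fb.hom ((AF.str.app (op V)).hom a) = (πB.app V).hom a := fun a =>
    congr($(NatTrans.congr_app (RelSpecUP.toAlg AF πB ⟨f1, rfl⟩).2 (op V)) a)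
  have hf2 : f2 ≫ (QCAlg.unit X).π = πB := by
    show f2 ≫ _ = f1 ≫ AF.π
    rw [← QCAlg.specMap_π ε, ← QCAlg.specMap_π ψ, ← Category.assoc, ← Category.assoc, pullback.condition]
  have hFψ : ∀ a, Fb.hom ((ψ.hom.app (op V)).hom a) = (πB.app V).hom ((ε.hom.app (op V)).hom a) := by
    have e1 := RelSpecUP.toAlg_specMap ψ πB ⟨f1, rfl⟩
    have e2 := RelSpecUP.toAlg_specMap ε πB ⟨f2, hf2⟩
    rw [hunit] at e2
    have e3 : (⟨f1 ≫ QCAlg.specMap ψ, by rw [Category.assoc, QCAlg.specMap_π]⟩ : AffAlg.over A1.π πB) =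
        ⟨f2 ≫ QCAlg.specMap ε, by rw [Category.assoc, QCAlg.specMap_π, hf2]⟩ := Subtype.ext pullback.condition
    rw [e3] at e1
    exact fun a => congr($(NatTrans.congr_app (e1.symm.trans e2) (op V)) a)
  have hFsurj : Function.Surjective Fb.hom := by
    have h1 : Function.Surjective (f1.app (AF.π ⁻¹ᵁ V)).hom := f1.app_surjective _ (hV.preimage AF.π)
    haveI : IsIso AF.gammaMap := inferInstance
    haveI : IsIso ((inv AF.gammaMap).app (op V)) := inferInstance
    intro z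
    obtain ⟨w, hw⟩ := h1 z
    obtain ⟨a, ha⟩ := (ConcreteCategory.bijective_of_isIso ((inv AF.gammaMap).app (op V))).2 w
    refine ⟨a, ?_⟩
    show ((inv AF.gammaMap ≫ AffAlg.algHom AF.π πB f1 rfl).app (op V)).hom a = z
    rw [NatTrans.comp_app, CommRingCat.hom_comp, RingHom.comp_apply, RelSpecUP.algHom_app, ← hw, Scheme.Hom.app_eq_appLE]
    exact congrArg _ ha
  -- the inverse
  let w : Γ(B, πB ⁻¹ᵁ V) := (πB.app V).hom (resO X le_top v')
  have hwv : (πB.app V).hom (resO X le_top v) * w = 1 := by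
    show _ * (πB.app V).hom (resO X le_top v') = 1
    rw [← map_mul, ← map_mul, hv, map_one, map_one]
  let μ : symObj F V →+* Γ(B, πB ⁻¹ᵁ V) := symLift (πB.app V).hom
    (AddMonoidHom.mk' (fun m => w * Fb.hom (jF.app V m : AF.presheaf.obj (op V))) fun a b => by
      rw [← mul_add, ← map_add Fb.hom]
      exact congrArg (fun z => w * Fb.hom z) (map_add (jF.app V).hom a b)) fun a m => by
    show w * Fb.hom (jF.app V (a • m) : AF.presheaf.obj (op V)) =
      (πB.app V).hom a * (w * Fb.hom (jF.app V m : AF.presheaf.obj (op V)))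
    rw [show (jF.app V (a • m) : AF.presheaf.obj (op V)) = (AF.str.app (op V)).hom a * (show AF.presheaf.obj (op V) from jF.app V m) from
      Scheme.Modules.Hom.app_smul jF a m, map_mul, hFs]
    ring
  let ψ₀ : 𝒮.presheaf.obj (op V) →+* Γ(B, πB ⁻¹ᵁ V) := μ.comp (γF.hom.app (op ⟨V, hV⟩)).hom
  have hψs : ∀ a, ψ₀ ((𝒮.str.app (op V)).hom a) = (πB.app V).hom a := fun a =>
    (congrArg μ (γ_str γF hγF ⟨V, hV⟩ a)).trans (symLift_algebraMap ..)
  have hψj : ∀ m, ψ₀ (jE j V m) = w * Fb.hom (jF.app V m : AF.presheaf.obj (op V)) := fun m => by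
    refine (congrArg (fun z => μ ((γF.hom.app (op ⟨V, hV⟩)).hom z)) (hjF ⟨V, hV⟩ m)).trans ?_
    refine (congrArg μ ((γF.app (op (⟨V, hV⟩ : X.AffineZariskiSite))).inv_hom_id_apply _)).trans ?_
    exact symLift_ι ..
  have hψe : ψ₀ (jE j V (res F le_top e)) = 1 := by
    rw [hψj, ← hψ1 V, hFψ, hε1, mul_comm]
    exact hwv
  obtain ⟨Θ, hΘ⟩ := exists_descend hj V hV (res F le_top e) (p := p) (ch := ch) ψ₀ hψe
  have hΘχ : ∀ a, Θ (χ V hV ((γ.hom.app (op ⟨V, hV⟩)).hom a)) = Fb.hom a := by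
    intro a
    have ha : a ∈ Subring.closure (Set.range (SymAlgGen.strS AF V) ∪ Set.range (SymAlgGen.jsec jF V)) :=
      (SymAlgGen.gen_eq_top hAF hV).ge (Subring.mem_top a)
    refine RingHom.eqOn_set_closure (f := Θ.comp ((χ V hV).comp (γ.hom.app (op ⟨V, hV⟩)).hom)) (g := Fb.hom) ?_ ha
    rintro _ (⟨r, rfl⟩ | ⟨m, rfl⟩)
    · show Θ (χ V hV ((γ.hom.app (op ⟨V, hV⟩)).hom ((AF.str.app (op V)).hom r))) = _
      rw [γ_str γ hγ ⟨V, hV⟩ r, hχa, ← hbst, hΘ, hψs]
      exact (hFs r).symm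
    · show Θ (χ V hV ((γ.hom.app (op ⟨V, hV⟩)).hom (jF.app V m : AF.presheaf.obj (op V)))) = _
      rw [show (γ.hom.app (op ⟨V, hV⟩)).hom (jF.app V m : AF.presheaf.obj (op V)) = SymmetricAlgebra.ι Γ(X, V) Γ(F, V) m from
        (congrArg _ (hjA ⟨V, hV⟩ m)).trans ((γ.app (op (⟨V, hV⟩ : X.AffineZariskiSite))).inv_hom_id_apply _),
        hχι, map_mul, ← hbst, hΘ, hΘ, hψs, hψj, ← mul_assoc, hwv, one_mul]
      rfl
  have hcomp : ∀ a, G.hom (Fb.hom a) = (I V hV).hom (χ V hV ((γ.hom.app (op ⟨V, hV⟩)).hom a)) :=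
    fun a => congr($hFG a)
  have hbij : Function.Bijective G.hom := by
    refine ⟨fun a b hab => ?_, fun c => ?_⟩
    · obtain ⟨a, rfl⟩ := hFsurj a
      obtain ⟨b, rfl⟩ := hFsurj b
      rw [hcomp, hcomp] at hab
      rw [← hΘχ, ← hΘχ, (hI V hV).1 hab]
    · obtain ⟨z, rfl⟩ := (hI V hV).2 c
      suffices h : ∀ b, bF V hV b ∈ (χ V hV).range by
        obtain ⟨b, rfl⟩ := surjective_bundleFn hj V hV (res F le_top e) z
        obtain ⟨s, hs⟩ := h b
        haveI : IsIso (γ.hom.app (op (⟨V, hV⟩ : X.AffineZariskiSite))) := inferInstance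
        obtain ⟨a, ha⟩ := (ConcreteCategory.bijective_of_isIso (γ.hom.app (op (⟨V, hV⟩ : X.AffineZariskiSite)))).2 s
        refine ⟨Fb.hom a, ?_⟩
        rw [hcomp]
        exact congrArg _ ((congrArg (χ V hV) ha).trans hs)
      intro b
      have hb : b ∈ Subring.closure (Set.range (SymAlgGen.strS 𝒮.toQCAlg V) ∪ Set.range (SymAlgGen.jsec j V)) :=
        (SymAlgGen.gen_eq_top hj.1 hV).ge (Subring.mem_top b)
      refine Subring.closure_le (t := (χ V hV).range.comap (bF V hV)) |>.2 ?_ hb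
      rintro _ (⟨r, rfl⟩ | ⟨m, rfl⟩)
      · exact ⟨algebraMap _ _ r, (hχa V hV r).trans (hbst V hV r).symm⟩
      · refine ⟨algebraMap Γ(X, V) (symObj F V) (resO X le_top v') * SymmetricAlgebra.ι Γ(X, V) Γ(F, V) m, ?_⟩
        rw [map_mul, hχa, hχι, ← mul_assoc, ← map_mul, ← map_mul, mul_comm v' v, hv, map_one, map_one, one_mul]
        rfl
  haveI : IsIso G := (ConcreteCategory.isIso_iff_bijective _).2 hbij
  have hfac := hA.SpecMap_appLE_fromSpec g hQ hle
  haveI : IsOpenImmersion (hQ.fromSpec ≫ g) := by rw [← hfac]; infer_instance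
  have hrange : (hQ.fromSpec ≫ g).opensRange = πB ⁻¹ᵁ V := by
    refine Opens.ext ?_
    show Set.range (hQ.fromSpec ≫ g) = _
    rw [← hfac]
    show Set.range (hA.fromSpec ∘ Spec.map G) = _
    rw [Set.range_comp,
      (show Function.Surjective (Spec.map G) from (Spec.map G).homeomorph.surjective).range_eq, Set.image_univ,
      hA.range_fromSpec]
  refine ⟨_, hQ.fromSpec, inferInstance, inferInstance, ?_, ?_⟩
  · rw [hrange]; exact hyV
  · rw [hrange, ← Scheme.Hom.comp_preimage, hgπ, hQ.opensRange_fromSpec]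

end Groth.Agent.CycPB
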