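import Groth.Agent.CycPB.AffBundle

/-!
The pull back to an affine bundle is injective.
-/

set_option autoImplicit false
set_option linter.unusedSectionVars false
set_option linter.style.haveILetI false
set_option backward.isDefEq.respectTransparency false
set_option backward.isDefEq.respectTransparency.types false

universe u

open CategoryTheory CategoryTheory.Limits AlgebraicGeometry TopologicalSpace Opposite
open RelSpec (QCAlg)
open Groth.Agent.QC (res resO)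
open Groth.Agent.WeakAssLib (mgerm)

noncomputable section

namespace Groth.Agent.CycPB

variable {X : Scheme.{u}}

/-- Injectivity through an open model in a projective bundle. -/
theorem ratEquivZero_of_openModel {P T : Scheme.{u}} {p : P ⟶ X} [IsProper p] [Flat p] {O : P.Modules}
    {δ : X → ℤ} {δP : P → ℤ} (hX : Cyc.IsSetup X δ) (hP : Cyc.IsSetup P δP) (hδP : Cyc.DeltaCompat p δP δ) {n : ℕ}
    (hF : HasPnFibres p O n) (hO : PicF.IsInvertible O) (s : Γ(O, (⊤ : P.Opens))) (U : P.Opens)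
    (hU : ∀ x, x ∈ U ↔ (Submodule.Quotient.mk (mgerm O (show x ∈ (⊤ : P.Opens) from trivial) s) :
      Cyc.secFibre O x) ≠ 0)
    (hs : ∀ y, ∃ x ∈ U, p x = y) (πT : T ⟶ X) (g : U.toScheme ⟶ T) [IsIso g] (hg : g ≫ πT = U.ι ≫ p)
    {δT : T → ℤ} (hδT : Cyc.DeltaCompat πT δT δ) {k : ℤ} (α : AlgebraicCycle X ℤ) (hα : α ∈ Cyc.Zk X δ k)
    (γ : AlgebraicCycle T ℤ) (hγ : ⇑γ = Cyc.pullFun πT δT δ n ⇑α) (h0 : Cyc.RatEquivZero δT (k + n) γ) :
    Cyc.RatEquivZero δ k α := by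
  haveI := hX.1
  haveI := hP.1
  let δU : ↥U → ℤ := fun u => δP (U.ι u)
  have hδU : Cyc.DeltaCompat (U.ι ≫ p) δU δ := fun u => by
    obtain ⟨m, hm, hx⟩ := hδP (U.ι u)
    refine ⟨m, ?_, hx⟩
    show CycK0.resTr (U.ι ≫ p) u = _
    rw [CycK0.resTr_comp, resTr_pre U.ι, add_zero]
    exact hm
  have hA1 : ∀ u, δU u = δT (g u) ∧
      Cyc.pullFun p δP δ n ⇑α (U.ι u) = Cyc.pullFun πT δT δ n ⇑α (g u) := fun u => by
    have hb := pullFun_open g πT hδT (show Cyc.DeltaCompat (g ≫ πT) δU δ by rw [hg]; exact hδU) n ⇑α u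
    refine ⟨hb.1, ?_⟩
    rw [← hb.2, ← (pullFun_open U.ι p hδP hδU n ⇑α u).2]
    congr 1
    exact hg.symm
  obtain ⟨G, hG, -⟩ := Cy.pull (k := k) (a := ⇑α) hP hδP (hasRelDim_of_hasPnFibres hF) ⟨α, rfl, hα⟩
  haveI : IsLocallyNoetherian (↑U : Scheme.{u}) := LocallyOfFiniteType.isLocallyNoetherian U.ι
  obtain ⟨γU, hγU⟩ := CycK0.exists_cycle_affine (fun u : ↥U => G (U.ι u)) fun {V} hV =>
    ((CycAff.finite_on G (hV.isCompact.image U.ι.continuous)).preimage U.ι.isOpenEmbedding.injective.injOn).subset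
      fun d hd => ⟨⟨d, hd.1, rfl⟩, hd.2⟩
  refine ratEquivZero_of_compl hX hP hδP hF hO s U hU hs α hα γU (fun u => by rw [hγU, hG]) ?_
  refine ratEquivZero_of_iso (inv g) (δW := δT) (fun x => ?_) h0 fun x => ?_
  · rw [show δP (U.ι ((inv g) x)) = δU ((inv g) x) from rfl, (hA1 _).1, ← Scheme.Hom.comp_apply, IsIso.inv_hom_id]
    rfl
  · rw [hγU, hG]
    show Cyc.pullFun p δP δ n ⇑α (U.ι ((inv g) x)) = γ x
    rw [(hA1 _).2, ← Scheme.Hom.comp_apply, IsIso.inv_hom_id, hγ]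
    rfl

set_option maxHeartbeats 1000000 in
/-- The pull back to an affine bundle is injective. -/
theorem ratEquivZero_of_affBundle {δ : X → ℤ} (hX : Cyc.IsSetup X δ) {S : ShortComplex X.Modules} (hS : S.ShortExact)
    (e : S.X₁ ≅ Coh.structureModule X) {n : ℕ} (hqE : Coh.IsQCoh S.X₂)
    (hE : FlatMod.IsFinLocFreeOfRank (n + 1) S.X₂) (hqF : Coh.IsQCoh S.X₃) (hF : FlatMod.IsFinLocFreeOfRank n S.X₃)
    (AE : QCAlg X) (jE : S.X₂ ⟶ AE.toModule) (hAE : RelSpec.IsSymAlg S.X₂ AE jE)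
    (A1 : QCAlg X) (j1 : Coh.structureModule X ⟶ A1.toModule) (hA1 : RelSpec.IsSymAlg (Coh.structureModule X) A1 j1)
    (ψ : A1 ⟶ AE) (hψ : j1 ≫ QCAlg.Hom.toModuleMap ψ = e.inv ≫ S.f ≫ jE)
    (u : Coh.structureModule X ⟶ (QCAlg.unit X).toModule) [IsIso u] (ε : A1 ⟶ QCAlg.unit X)
    (hε : j1 ≫ QCAlg.Hom.toModuleMap ε = u)
    (δB : ↥(pullback (QCAlg.specMap ψ) (QCAlg.specMap ε)) → ℤ)
    (hδB : Cyc.DeltaCompat (pullback.fst (QCAlg.specMap ψ) (QCAlg.specMap ε) ≫ AE.π) δB δ) {k : ℤ}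
    (α : AlgebraicCycle X ℤ) (hα : α ∈ Cyc.Zk X δ k)
    (γ : AlgebraicCycle (pullback (QCAlg.specMap ψ) (QCAlg.specMap ε)) ℤ)
    (hγ : ⇑γ = Cyc.pullFun (pullback.fst (QCAlg.specMap ψ) (QCAlg.specMap ε) ≫ AE.π) δB δ n ⇑α)
    (h0 : Cyc.RatEquivZero δB (k + n) γ) : Cyc.RatEquivZero δ k α := by
  haveI := hX.1
  let one : ∀ V : X.Opens, Γ(Coh.structureModule X, V) := fun V => (show Γ(X, V) from 1)
  have hone : ∀ V : X.Opens, res (Coh.structureModule X) (le_top : V ≤ ⊤) (one ⊤) = one V :=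
    fun V => map_one (resO X (le_top : V ≤ ⊤))
  let eE : Γ(S.X₂, (⊤ : X.Opens)) := (e.inv ≫ S.f).app ⊤ (one ⊤)
  let v : Γ(X, (⊤ : X.Opens)) := (u.app ⊤ (one ⊤) : (QCAlg.unit X).presheaf.obj (op ⊤))
  have hψ1 : ∀ V : X.Opens, (ψ.hom.app (op V)).hom (j1.app V (one V) : A1.presheaf.obj (op V)) =
      (jE.app V (res S.X₂ le_top eE) : AE.presheaf.obj (op V)) := fun V => by
    refine (congr($(hψ).app V (one V))).trans ?_
    show jE.app V ((e.inv ≫ S.f).app V (one V)) = _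
    rw [show res S.X₂ (le_top : V ≤ ⊤) eE = (e.inv ≫ S.f).app V (one V) by
      show res S.X₂ _ ((e.inv ≫ S.f).app ⊤ (one ⊤)) = _
      rw [QC.app_res, hone]]
  have hε1 : ∀ V : X.Opens, (ε.hom.app (op V)).hom (j1.app V (one V) : A1.presheaf.obj (op V)) =
      resO X le_top v := fun V => by
    refine (congr($(hε).app V (one V))).trans ?_
    rw [← hone V, ← QC.app_res u]
    rfl
  obtain ⟨v', hv⟩ : ∃ v' : Γ(X, (⊤ : X.Opens)), v * v' = 1 := by
    let a : Γ(X, (⊤ : X.Opens)) := ((inv u).app ⊤ (show (QCAlg.unit X).toModule.presheaf.obj (op ⊤) from (1 : Γ(X, ⊤))))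
    refine ⟨a, ?_⟩
    have h1 : u.app ⊤ ((inv u).app ⊤ (show (QCAlg.unit X).toModule.presheaf.obj (op ⊤) from (1 : Γ(X, ⊤)))) =
        (show (QCAlg.unit X).toModule.presheaf.obj (op ⊤) from (1 : Γ(X, ⊤))) := congr($(IsIso.inv_hom_id u).app ⊤ _)
    have h2 := Scheme.Modules.Hom.app_smul u (U := (⊤ : X.Opens)) a (one ⊤)
    rw [show a • one ⊤ = (show Γ(Coh.structureModule X, ⊤) from a) from mul_one a] at h2
    exact (mul_comm v a).trans (h2.symm.trans h1)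
  obtain ⟨𝒮, j, hj⟩ := SymAlg.exists_isGrSymAlg hqE
  obtain ⟨P, p, ch, hP⟩ := RelProjLib.exists_isRelProj 𝒮
  obtain ⟨O1, lam, hO1'⟩ := S8284.result 𝒮 p ch hP 1
  have hO1 := (RelTilde.isRelTwist_iff 𝒮 1 O1 lam).mp hO1'
  obtain ⟨φ, hφ⟩ := SymAlg.exists_isFund hj hP hO1
  haveI : S.X₂.IsQuasicoherent := hqE
  haveI : IsProper p := SymAlg.isProper_bundle hqE
    (LocFree.isFT_of_isFinLocFree fun x => let ⟨U, h1, h2⟩ := hE x; ⟨U, _, h1, h2⟩) hj hP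
  haveI : Flat p := flat_of_isRelProj hqE hE hj hP hO1'
  have hFib := hasPnFibres_of_isRelProj hqE hE hj hP hO1'
  have hO : PicF.IsInvertible O1 := by
    refine InvGen.isInvertible fun x => ?_
    obtain ⟨U, hU, hxU, -⟩ := exists_isAffineOpen_mem_and_subset (x := p x) (U := (⊤ : X.Opens)) trivial
    obtain ⟨y, hy⟩ := RelTilde.exists_point (q := p) (ch := ch) U hU (x := x) hxU
    obtain ⟨e', he'⟩ := SymAlg.exists_jE_not_mem hj U hU y
    exact ⟨SymAlg.DjE p ch j U hU e', _, ⟨y, (ProjectiveSpectrum.mem_basicOpen _ _ _).mpr he', hy⟩,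
      SymAlg.isGen_fund hj hO1 hφ U hU e' (SymAlg.DjE_le U hU e') ((RelProj.emb p ch U hU).preimage_image_eq _).le⟩
  obtain ⟨δP, hPs, hδP⟩ := exists_isSetup hX p
  let s : Γ(O1, (⊤ : P.Opens)) := φ.app ⊤ eE
  let Z := PicF2.zeroScheme O1 (TMul.homOf s)
  let U : P.Opens := ⟨(Set.range Z.subschemeι)ᶜ, Z.subschemeι.isClosedEmbedding.isClosed_range.isOpen_compl⟩
  have hU : ∀ x, x ∈ U ↔ (Submodule.Quotient.mk (mgerm O1 (show x ∈ (⊤ : P.Opens) from trivial) s) :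
      Cyc.secFibre O1 x) ≠ 0 := fun x => by
    show x ∈ (Set.range Z.subschemeι)ᶜ ↔ _
    rw [Set.mem_compl_iff, (isZeroSchemeOf_zeroScheme hO s).1]
    rfl
  obtain ⟨g, hg, hgp⟩ := exists_iso_affBundle hj hP hO1 hφ hqE eE U hU AE jE hAE A1 j1 hA1 ψ ε v v' hv hψ1 hε1
  haveI := hg
  have hs : ∀ y, ∃ x ∈ U, p x = y := fun y => by
    obtain ⟨V, hV, hyV, ⟨b⟩⟩ := exists_basis hF y
    obtain ⟨r, hr⟩ := exists_retraction_e hS e hqE hqF hV b
    obtain ⟨x, hx, hxy⟩ := exists_point_DjE hj hP hqE V hV _ r hr y hyV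
    exact ⟨x, ((inf_preimage_eq hj hO1 hφ hqE eE U hU V hV).ge hx).1, hxy⟩
  exact ratEquivZero_of_openModel hX hPs hδP hFib hO s U hU hs _ g hgp hδB α hα γ hγ h0

end Groth.Agent.CycPB
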