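import Groth.Agent.CycPB.Classes
import Groth.Agent.CycDim.PullComp
import Groth.Agent.MeroLib.Sections
import Groth.Agent.W7Adic.Embed
import Groth.Agent.S9358

/-!
Chern classes are characterised by their relation.
-/

set_option autoImplicit false
set_option linter.unusedSectionVars false
set_option linter.style.haveILetI false
set_option backward.isDefEq.respectTransparency false
set_option backward.isDefEq.respectTransparency.types false

universe u

open CategoryTheory CategoryTheory.Limits AlgebraicGeometry TopologicalSpace Opposite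
open Groth.Agent.EquidimPt (IsFibMax)
open Groth.Agent.WeakAssLib (mgerm)
open Groth.Agent.K0Dev (St)

noncomputable section

namespace Groth.Agent.CycPB

variable {X P : Scheme.{u}} {δ : X → ℤ} {δP : P → ℤ} {k : ℤ} {p : P ⟶ X}

/-- The summands of the relation defining Chern classes. -/
def term (p : P ⟶ X) (δP : P → ℤ) (δ : X → ℤ) (O : P.Modules) (t : ℕ → (ξ : P) → Cyc.secFibre O ξ) (r i : ℕ)
    (a : X → ℤ) : P → ℤ :=
  fun y => (-1 : ℤ) ^ i * Cyc.c1PowFun δP O t i (Cyc.pullFun p δP δ ((r : ℤ) - 1) a) y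

lemma pullFun_sub (c : ℤ) (a b : X → ℤ) :
    Cyc.pullFun p δP δ c (fun x => a x - b x) = fun y => Cyc.pullFun p δP δ c a y - Cyc.pullFun p δP δ c b y := by
  funext y
  unfold Cyc.pullFun
  split <;> simp [sub_mul]

lemma Cy.pow_sub (hP : Cyc.IsSetup P δP) {O : P.Modules} (hO : PicF.IsInvertible O)
    {t : ℕ → (ξ : P) → Cyc.secFibre O ξ} (ht : ∀ i ξ, t i ξ ≠ 0) {l : ℤ} {a b : P → ℤ} (ha : Cy δP l a)
    (hb : Cy δP l b) (m : ℕ) :
    Cyc.c1PowFun δP O t m (fun y => a y - b y) =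
      fun y => Cyc.c1PowFun δP O t m a y - Cyc.c1PowFun δP O t m b y := by
  have h := (ha.sub hb).pow_add hP hO ht hb m
  rw [show (fun y => a y - b y + b y) = a from funext fun y => sub_add_cancel _ _] at h
  funext y
  have := congrFun h y
  omega

lemma Cy.mk {A : AlgebraicCycle X ℤ} (h : A ∈ Cyc.Zk X δ k) : Cy δ k ⇑A := ⟨A, rfl, h⟩

variable [IsProper p]

lemma Cy.term (hX : Cyc.IsSetup X δ) (hP : Cyc.IsSetup P δP) (hδ : Cyc.DeltaCompat p δP δ) {n : ℕ}
    (hr : Cyc.HasRelDim p n) {O : P.Modules} (hO : PicF.IsInvertible O) {t : ℕ → (ξ : P) → Cyc.secFibre O ξ}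
    (ht : ∀ i ξ, t i ξ ≠ 0) {a : X → ℤ} (i : ℕ) (ha : Cy δ (k - (n + 1 : ℕ) + i) a) :
    Cy δP (k - 1) (CycPB.term p δP δ O t (n + 1) i a) := by
  haveI := hX.1
  have h := (((ha.pull hP hδ hr).pow hP hO ht i).smul ((-1 : ℤ) ^ i))
  rw [show k - ((n + 1 : ℕ) : ℤ) + i + n - i = k - 1 by push_cast; ring] at h
  unfold CycPB.term
  rw [show ((n + 1 : ℕ) : ℤ) - 1 = n by push_cast; ring]
  exact h

/-- Families satisfying the relation are determined by their leading member. -/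
theorem chern_unique (hX : Cyc.IsSetup X δ) (hP : Cyc.IsSetup P δP) (hδ : Cyc.DeltaCompat p δP δ) {O : P.Modules}
    (hO : PicF.IsInvertible O) {r : ℕ} (hfl : 1 ≤ r → Flat p) (hF : ∀ n, r = n + 1 → HasPnFibres p O n)
    (d : Fin (r + 1) → X → ℤ) (hd : ∀ j : Fin (r + 1), Cy δ (k - ((j : ℕ) : ℤ)) (d j)) (h0 : RZ δ k (d 0))
    (t : ℕ → (ξ : P) → Cyc.secFibre O ξ) (ht : ∀ i ξ, t i ξ ≠ 0)
    (h : 1 ≤ r → RZ δP (k - 1) fun y => ∑ i : Fin (r + 1), term p δP δ O t r i (d (Fin.rev i)) y)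
    (j : Fin (r + 1)) : RZ δ (k - ((j : ℕ) : ℤ)) (d j) := by
  by_cases hj : (j : ℕ) = 0
  · rw [show j = 0 from Fin.ext hj]
    simpa using h0
  obtain ⟨n, rfl⟩ : ∃ n, r = n + 1 := ⟨r - 1, by omega⟩
  haveI : Flat p := hfl (by omega)
  haveI := hX.1
  have hFn := hF n rfl
  have hr := hasRelDim_of_hasPnFibres hFn
  have hlast : RZ δP (k - 1) (term p δP δ O t (n + 1) (n + 1) (d 0)) := by
    have h1 := (((h0.pull hX hP hδ hr).pow hP hO ht (n + 1)).smul ((-1 : ℤ) ^ (n + 1)))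
    rw [show k + n - ((n + 1 : ℕ) : ℤ) = k - 1 by push_cast; ring] at h1
    unfold term
    rw [show ((n + 1 : ℕ) : ℤ) - 1 = n by push_cast; ring]
    exact h1
  have h1 := (h (by omega)).sub hlast
  let α : Fin (n + 1) → X → ℤ := fun i x => (-1 : ℤ) ^ (i : ℕ) * d (Fin.rev (Fin.castSucc i)) x
  have hlev : ∀ i : Fin (n + 1),
      k - ((Fin.rev (Fin.castSucc i) : Fin (n + 1 + 1)) : ℕ) = k - (n + 1) + ((i : ℕ) : ℤ) := fun i => by
    simp only [Fin.val_rev, Fin.val_castSucc]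
    omega
  have hα : ∀ i : Fin (n + 1), Cy δ (k - (n + 1) + ((i : ℕ) : ℤ)) (α i) := fun i => by
    have := (hd (Fin.rev (Fin.castSucc i))).smul ((-1 : ℤ) ^ (i : ℕ))
    rw [hlev i] at this
    exact this
  have key := independent (k := k - (n + 1)) hX hP hδ hO hFn α hα (fun _ => t) (fun _ => ht) (by
    rw [show k - ((n : ℤ) + 1) + n = k - 1 by ring]
    have e : (fun y => (∑ i : Fin (n + 1 + 1), term p δP δ O t (n + 1) i (d (Fin.rev i)) y) -
        term p δP δ O t (n + 1) (n + 1) (d 0) y) = fun y => ∑ i : Fin (n + 1),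
          Cyc.c1PowFun δP O t (i : ℕ) (Cyc.pullFun p δP δ n (α i)) y := by
      funext y
      rw [Fin.sum_univ_castSucc, Fin.rev_last, show ((Fin.last (n + 1) : Fin (n + 1 + 1)) : ℕ) = n + 1 from rfl,
        add_sub_cancel_right]
      refine Finset.sum_congr rfl fun i _ => ?_
      have hs : Cyc.pullFun p δP δ n (α i) =
          fun y => (-1 : ℤ) ^ (i : ℕ) * Cyc.pullFun p δP δ n (d (Fin.rev (Fin.castSucc i))) y := by
        funext z
        unfold Cyc.pullFun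
        split
        · exact mul_assoc _ _ _
        · rw [mul_zero]
      unfold term
      rw [hs, c1PowFun_smul, show ((n + 1 : ℕ) : ℤ) - 1 = n by push_cast; ring]
      rfl
    rw [← e]
    exact h1)
  obtain ⟨i, hi⟩ : ∃ i : Fin (n + 1), Fin.rev (Fin.castSucc i) = j := by
    have := j.2
    exact ⟨⟨n + 1 - j, by omega⟩, Fin.ext (by simp only [Fin.val_rev, Fin.val_castSucc]; omega)⟩
  have h2 := (key i).smul ((-1 : ℤ) ^ (i : ℕ))
  rw [← hlev i, hi] at h2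
  have e2 : (fun x => (-1 : ℤ) ^ (i : ℕ) * α i x) = d j := funext fun x => by
    simp only [α, hi]
    rw [← mul_assoc, ← pow_add, ← two_mul, pow_mul, neg_one_sq, one_pow, one_mul]
  rw [e2] at h2
  exact h2

variable {O : P.Modules} {E : X.Modules} {q : (Scheme.Modules.pullback p).obj E ⟶ O} {r : ℕ}

lemma fibres_of_isProjBundle (hPB : KRR.IsProjBundle p E O q) (hE : FlatMod.IsFinLocFreeOfRank r E) :
    (1 ≤ r → Flat p) ∧ ∀ n, r = n + 1 → HasPnFibres p O n := by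
  refine ⟨fun h => ?_, fun n e => ?_⟩
  · obtain ⟨n, rfl⟩ : ∃ n, r = n + 1 := ⟨r - 1, by omega⟩
    exact flat_of_isProjBundle hPB hE
  · subst e
    exact hasPnFibres_of_isProjBundle hPB hE

/-- The relation of a family of Chern classes. -/
theorem chern_rel (hX : Cyc.IsSetup X δ) (hP : Cyc.IsSetup P δP) (hδ : Cyc.DeltaCompat p δP δ)
    (hO : PicF.IsInvertible O) (hF : ∀ n, r = n + 1 → HasPnFibres p O n) {α : AlgebraicCycle X ℤ}
    {γ : Fin (r + 1) → AlgebraicCycle X ℤ} (hγ : Cyc.IsChernCap p δ δP O r k α γ)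
    (t : ℕ → (ξ : P) → Cyc.secFibre O ξ) (ht : ∀ i ξ, t i ξ ≠ 0) (hr : 1 ≤ r) :
    RZ δP (k - 1) fun y => ∑ i : Fin (r + 1), term p δP δ O t r i (⇑(γ (Fin.rev i))) y := by
  obtain ⟨n, rfl⟩ : ∃ n, r = n + 1 := ⟨r - 1, by omega⟩
  have hrd := hasRelDim_of_hasPnFibres (hF n rfl)
  obtain ⟨A, hA, hAk⟩ := Cy.sum (δ := δP) (k := k - 1) Finset.univ
    (f := fun i : Fin (n + 1 + 1) => term p δP δ O t (n + 1) i (⇑(γ (Fin.rev i)))) fun i _ => by
      refine Cy.term (k := k) hX hP hδ hrd hO ht (i : ℕ) ⟨_, rfl, ?_⟩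
      have h := hγ.2.1 (Fin.rev i)
      have hlt := i.2
      rwa [show k - ((Fin.rev i : Fin (n + 1 + 1)) : ℕ) = k - ((n + 1 : ℕ) : ℤ) + (i : ℕ) by
        simp only [Fin.val_rev]; omega] at h
  exact ⟨A, hA, hAk, hγ.2.2 t ht A fun y => congrFun hA y⟩

/-- Chern classes compared through a candidate family. -/
theorem chern_eq (hX : Cyc.IsSetup X δ) (hP : Cyc.IsSetup P δP) (hδ : Cyc.DeltaCompat p δP δ)
    (hPB : KRR.IsProjBundle p E O q) (hE : FlatMod.IsFinLocFreeOfRank r E) {α : AlgebraicCycle X ℤ}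
    {γ : Fin (r + 1) → AlgebraicCycle X ℤ} (hγ : Cyc.IsChernCap p δ δP O r k α γ)
    (e : Fin (r + 1) → AlgebraicCycle X ℤ) (he : ∀ j : Fin (r + 1), e j ∈ Cyc.Zk X δ (k - ((j : ℕ) : ℤ)))
    (h0 : RZ δ k fun x => e 0 x - α x) (t : ℕ → (ξ : P) → Cyc.secFibre O ξ) (ht : ∀ i ξ, t i ξ ≠ 0)
    (h : 1 ≤ r → RZ δP (k - 1) fun y => ∑ i : Fin (r + 1), term p δP δ O t r i (⇑(e (Fin.rev i))) y)
    (j : Fin (r + 1)) : Cyc.RatEquiv δ (k - ((j : ℕ) : ℤ)) (e j) (γ j) := by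
  obtain ⟨hfl, hF⟩ := fibres_of_isProjBundle hPB hE
  have hO := PBundle.isInvertible hPB
  refine RZ.ratEquiv (chern_unique hX hP hδ hO hfl hF (fun j x => e j x - γ j x)
    (fun j => (Cy.mk (he j)).sub (Cy.mk (hγ.2.1 j))) ?_ t ht (fun hr => ?_) j)
  · rw [hγ.1]
    exact h0
  · obtain ⟨n, rfl⟩ : ∃ n, r = n + 1 := ⟨r - 1, by omega⟩
    haveI := hX.1
    have h1 := (h hr).sub (chern_rel hX hP hδ hO hF hγ t ht hr)
    have e1 : (fun y => (∑ i : Fin (n + 1 + 1), term p δP δ O t (n + 1) i (⇑(e (Fin.rev i))) y) -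
        ∑ i : Fin (n + 1 + 1), term p δP δ O t (n + 1) i (⇑(γ (Fin.rev i))) y) = fun y =>
          ∑ i : Fin (n + 1 + 1), term p δP δ O t (n + 1) i (fun x => e (Fin.rev i) x - γ (Fin.rev i) x) y := by
      funext y
      rw [← Finset.sum_sub_distrib]
      refine Finset.sum_congr rfl fun i _ => ?_
      unfold term
      rw [show ((n + 1 : ℕ) : ℤ) - 1 = n by push_cast; ring, pullFun_sub,
        Cy.pow_sub hP hO ht ((Cy.mk (he (Fin.rev i))).pull hP hδ (hasRelDim_of_hasPnFibres (hF n rfl)))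
          ((Cy.mk (hγ.2.1 (Fin.rev i))).pull hP hδ (hasRelDim_of_hasPnFibres (hF n rfl)))]
      exact (mul_sub _ _ _).symm
    rw [← e1]
    exact h1

omit [IsProper p] in
/-- Isomorphic modules have the same rational sections. -/
theorem exists_secMap {M N : X.Modules} (hM : PicF.IsInvertible M) (e : M ≅ N) (ξ : X) (s : Cyc.secFibre M ξ)
    (hs : s ≠ 0) : ∃ s' : Cyc.secFibre N ξ, s' ≠ 0 ∧
      ∀ x, Cyc.secDivFun δ N ξ s' x = Cyc.secDivFun δ M ξ s x := by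
  let m := IsLocalRing.maximalIdeal (X.presheaf.stalk ξ)
  let E := ((St ξ).mapIso e).toLinearEquiv
  have hmap : (m • ⊤ : Submodule (X.presheaf.stalk ξ) (M.presheaf.stalk ξ)).map E.toLinearMap =
      (m • ⊤ : Submodule (X.presheaf.stalk ξ) (N.presheaf.stalk ξ)) := by
    rw [Submodule.map_smul'', Submodule.map_top, LinearEquiv.range]
  let Q : Cyc.secFibre M ξ ≃ₗ[X.presheaf.stalk ξ] Cyc.secFibre N ξ := Submodule.Quotient.equiv _ _ E hmap
  refine ⟨Q s, fun h => hs (Q.map_eq_zero_iff.1 h), fun x => ?_⟩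
  by_cases hsp : ξ ⤳ x
  swap
  · rw [Cyc.secDivFun, Cyc.secDivFun, dif_neg fun h => hsp h.1, dif_neg fun h => hsp h.1]
  obtain ⟨A, g, hx, hg⟩ := TMul.exists_isGen hM x
  have hξA : ξ ∈ A := hsp.mem_open A.2 hx
  obtain ⟨φ, hφ⟩ := C1Cap.exists_coeff hg hξA s
  have hg' : TMul.IsGen (e.hom.app A g) := MeroLib.IsGen.map_iso e.hom hg
  have hE : Q (Submodule.Quotient.mk (mgerm M hξA g)) = Submodule.Quotient.mk (mgerm N hξA (e.hom.app A g)) :=
    congrArg Submodule.Quotient.mk (KFlat.pstMap_germ (DCoh.toP.map e.hom) ξ hξA g)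
  rw [CycSec.secDivFun_eq hg hx (fun _ => ⟨φ, hφ, rfl⟩),
    CycSec.secDivFun_eq hg' hx (fun _ => ⟨φ, by rw [hφ, map_smul, hE], rfl⟩)]

end Groth.Agent.CycPB
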