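import Groth.Agent.CycPB.ChernOp
import Groth.Agent.CycPB.HomInv

/-!
Chern classes of two bundles commute.
-/

set_option autoImplicit false
set_option linter.unusedSectionVars false
set_option linter.style.haveILetI false
set_option backward.isDefEq.respectTransparency false
set_option backward.isDefEq.respectTransparency.types false

universe u

open CategoryTheory CategoryTheory.Limits AlgebraicGeometry TopologicalSpace Opposite

noncomputable section

namespace Groth.Agent.CycPB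

variable {X P Q : Scheme.{u}} {δ : X → ℤ} {δP : P → ℤ} {δQ : Q → ℤ} {k : ℤ} {p : P ⟶ X} [IsProper p] {O : P.Modules}
  {E : X.Modules} {r : ℕ} {p' : Q ⟶ X} [IsProper p'] {O' : Q.Modules} {F : X.Modules} {s : ℕ}

set_option maxHeartbeats 1000000 in
/-- Applying a Chern class to the members of a family of Chern classes gives a family of Chern classes. -/
theorem Rel.chern_comp (hE : Bundle p δ δP E O r) (hF : Bundle p' δ δQ F O' s) {c : Fin (r + 1) → X → ℤ}
    (hc : Rel p δ δP O r k c) (ε : Fin (r + 1) → Fin (s + 1) → X → ℤ)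
    (hε : ∀ i : Fin (r + 1), Rel p' δ δQ O' s (k - ((i : ℕ) : ℤ)) (ε i)) (h0 : ∀ i, ε i 0 = c i) (j : Fin (s + 1)) :
    Rel p δ δP O r (k - ((j : ℕ) : ℤ)) fun i => ε i j := by
  refine ⟨fun i => ?_, fun t ht hr => ?_⟩
  · have := (hε i).1 j
    rwa [show k - ((i : ℕ) : ℤ) - ((j : ℕ) : ℤ) = k - ((j : ℕ) : ℤ) - ((i : ℕ) : ℤ) by ring] at this
  obtain ⟨n, rfl⟩ : ∃ n, r = n + 1 := ⟨r - 1, by omega⟩
  haveI := hE.fibres.1 hr
  haveI := hE.setup.1
  haveI := hE.setupP.1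
  let π : pullback p p' ⟶ P := pullback.fst p p'
  have hsq : IsPullback (pullback.snd p p') π p' p := (IsPullback.of_hasPullback p p').flip
  obtain ⟨δR, hR, hδR⟩ := exists_isSetup hE.setupP π
  have hn := hE.relDim rfl
  have hB := hF.baseChange hE.setupP p hE.compat π _ hsq hR hδR
  have hG : ∀ i : Fin (n + 1 + 1), Rel π δP δR ((Scheme.Modules.pullback (pullback.snd p p')).obj O') s (k - 1)
      fun j y => term p δP δ O t (n + 1) i (ε (Fin.rev i) j) y := fun i => by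
    have h1 := (((hε (Fin.rev i)).pull hF hE.setupP p hn hE.compat π _ hsq hR hδR).pow hB hE.invertible ht (i : ℕ)).smul
      ((-1 : ℤ) ^ (i : ℕ))
    have hlt := i.2
    rw [show k - ((Fin.rev i : Fin (n + 1 + 1)) : ℕ) + (n : ℤ) - ((i : ℕ) : ℤ) = k - 1 by
      simp only [Fin.val_rev]; omega] at h1
    unfold term
    rw [show ((n + 1 : ℕ) : ℤ) - 1 = n by push_cast; ring]
    exact h1
  have hS := Rel.sum hB Finset.univ fun i _ => hG i
  have h := hS.rz hB ?_ j
  · rwa [show k - 1 - ((j : ℕ) : ℤ) = k - ((j : ℕ) : ℤ) - 1 by ring] at h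
  · simp only [h0]
    exact hc.2 t ht hr

/-- Chern classes of two bundles commute. -/
theorem chern_comm (hE : Bundle p δ δP E O r) (hF : Bundle p' δ δQ F O' s) {α : AlgebraicCycle X ℤ}
    (i : Fin (r + 1)) (j : Fin (s + 1)) {γ : Fin (r + 1) → AlgebraicCycle X ℤ}
    (hγ : Cyc.IsChernCap p δ δP O r k α γ) {ε : Fin (s + 1) → AlgebraicCycle X ℤ}
    (hε : Cyc.IsChernCap p' δ δQ O' s (k - ((i : ℕ) : ℤ)) (γ i) ε) {φ : Fin (s + 1) → AlgebraicCycle X ℤ}
    (hφ : Cyc.IsChernCap p' δ δQ O' s k α φ) {ψ : Fin (r + 1) → AlgebraicCycle X ℤ}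
    (hψ : Cyc.IsChernCap p δ δP O r (k - ((j : ℕ) : ℤ)) (φ j) ψ) :
    RZ δ (k - ((i : ℕ) : ℤ) - ((j : ℕ) : ℤ)) fun x => ε j x - ψ i x := by
  choose c hc hc0 using fun l : Fin (r + 1) => exists_rel (k := k - ((l : ℕ) : ℤ)) hF (Cy.mk (hγ.2.1 l))
  have he := (Rel.of_chern hE hγ).chern_comp hE hF c hc hc0 j
  have h0 : RZ δ (k - ((j : ℕ) : ℤ)) fun x => c 0 j x - ψ 0 x := by
    rw [hψ.1]
    have hc' := hc 0
    rw [show k - (((0 : Fin (r + 1)) : ℕ) : ℤ) = k by simp] at hc'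
    refine hc'.unique hF (Rel.of_chern hF hφ) ?_ j
    rw [hc0, hγ.1, hφ.1]
    exact RZ.refl _
  have h1 := he.unique hE (Rel.of_chern hE hψ) h0 i
  rw [show k - ((j : ℕ) : ℤ) - ((i : ℕ) : ℤ) = k - ((i : ℕ) : ℤ) - ((j : ℕ) : ℤ) by ring] at h1
  refine RZ.trans (RZ.neg_diff ((hc i).unique hF (Rel.of_chern hF hε) ?_ j)) h1
  rw [hc0, hε.1]
  exact RZ.refl _

end Groth.Agent.CycPB
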