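import Groth.Agent.CycPB.Top
import Groth.Agent.CycDim.PullRat
import Groth.Agent.CycDim.RatBasic
import Groth.Agent.PicFam.Pn

/-!
Cycle classes as functions, and the independence of the classes on a projective bundle.
-/

set_option autoImplicit false
set_option linter.unusedSectionVars false
set_option linter.style.haveILetI false
set_option backward.isDefEq.respectTransparency false
set_option backward.isDefEq.respectTransparency.types false

universe u

open CategoryTheory CategoryTheory.Limits AlgebraicGeometry TopologicalSpace Opposite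
open Groth.Agent.EquidimPt (IsFibMax)
open Groth.Agent.CycK0 (secFin cap_mem c1CapFun_sub_apply)

noncomputable section

namespace Groth.Agent.CycPB

variable {X P : Scheme.{u}}

/-- Projective bundles are flat. -/
theorem flat_of_isProjBundle {E : X.Modules} {O : P.Modules} {p : P ⟶ X}
    {q : (Scheme.Modules.pullback p).obj E ⟶ O} (hP : KRR.IsProjBundle p E O q) {n : ℕ}
    (hE : FlatMod.IsFinLocFreeOfRank (n + 1) E) : Flat p := by
  choose V hV hyV φ hφ hτ using fun y => PBundle.exists_local hP hE y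
  refine IsZariskiLocalAtTarget.of_iSup_eq_top (P := @Flat) V
    (top_le_iff.1 fun y _ => TopologicalSpace.Opens.mem_iSup.2 ⟨y, hyV y⟩) fun y => ?_
  rw [show p ∣_ V y = (φ y).inv ≫ CohB1.ProjSpaceOver.toBase n (V y).toScheme by
    rw [← hφ y, Iso.inv_hom_id_assoc], MorphismProperty.cancel_left_of_respectsIso (P := @Flat)]
  exact (PicFam.flat_lfp_toBase n _).1

/-- Nonzero sections everywhere. -/
theorem exists_sections {L : X.Modules} (hL : PicF.IsInvertible L) :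
    ∃ s : (x : X) → Cyc.secFibre L x, ∀ x, s x ≠ 0 := by
  have h : ∀ x : X, ∃ s : Cyc.secFibre L x, s ≠ 0 := fun x => by
    obtain ⟨A, e, hx, he⟩ := TMul.exists_isGen hL x
    refine ⟨(1 : X.presheaf.stalk x) • Submodule.Quotient.mk (WeakAssLib.mgerm L hx e), ?_⟩
    rw [← Submodule.Quotient.mk_smul]
    exact C1Cap.mk_gen_ne_zero he hx isUnit_one
  exact ⟨fun x => (h x).choose, fun x => (h x).choose_spec⟩

/-- A cycle of a given level, as a function. -/
def Cy (δ : X → ℤ) (k : ℤ) (a : X → ℤ) : Prop := ∃ A : AlgebraicCycle X ℤ, ⇑A = a ∧ A ∈ Cyc.Zk X δ k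

/-- A cycle rationally equivalent to zero, as a function. -/
def RZ (δ : X → ℤ) (k : ℤ) (a : X → ℤ) : Prop :=
  ∃ A : AlgebraicCycle X ℤ, ⇑A = a ∧ A ∈ Cyc.Zk X δ k ∧ Cyc.RatEquivZero δ k A

variable {δ : X → ℤ} {δP : P → ℤ} {k : ℤ} {a b : X → ℤ}

lemma RZ.cy (h : RZ δ k a) : Cy δ k a := let ⟨A, h1, h2, _⟩ := h; ⟨A, h1, h2⟩

lemma Cy.zero : Cy δ k fun _ : X => 0 := ⟨0, rfl, fun _ _ => rfl⟩

lemma RZ.zero : RZ δ k fun _ : X => 0 :=
  ⟨0, rfl, fun _ _ => rfl, CycRat.ratEquivZero_zero fun _ => rfl⟩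

lemma Cy.add (ha : Cy δ k a) (hb : Cy δ k b) : Cy δ k fun x => a x + b x := by
  obtain ⟨A, rfl, hA⟩ := ha
  obtain ⟨B, rfl, hB⟩ := hb
  exact ⟨A + B, rfl, fun x hx => by show A x + B x = 0; rw [hA x hx, hB x hx, add_zero]⟩

lemma RZ.add (ha : RZ δ k a) (hb : RZ δ k b) : RZ δ k fun x => a x + b x := by
  obtain ⟨A, rfl, hA, hA'⟩ := ha
  obtain ⟨B, rfl, hB, hB'⟩ := hb
  exact ⟨A + B, rfl, fun x hx => by show A x + B x = 0; rw [hA x hx, hB x hx, add_zero],
    CycRat.ratEquivZero_add hA' hB' fun _ => rfl⟩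

lemma Cy.smul (c : ℤ) (ha : Cy δ k a) : Cy δ k fun x => c * a x := by
  obtain ⟨A, rfl, hA⟩ := ha
  exact ⟨c • A, funext fun x => smul_eq_mul c (A x), fun x hx => by
    show c • A x = 0; rw [hA x hx, smul_zero]⟩

lemma RZ.smul (c : ℤ) (ha : RZ δ k a) : RZ δ k fun x => c * a x := by
  obtain ⟨A, rfl, hA, hA'⟩ := ha
  exact ⟨c • A, funext fun x => smul_eq_mul c (A x), fun x hx => by
    show c • A x = 0; rw [hA x hx, smul_zero], CycRat.ratEquivZero_smul hA' c fun x => smul_eq_mul c (A x)⟩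

lemma RZ.sub (ha : RZ δ k a) (hb : RZ δ k b) : RZ δ k fun x => a x - b x := by
  simpa only [neg_one_mul, ← sub_eq_add_neg] using ha.add (hb.smul (-1))

lemma Cy.sub (ha : Cy δ k a) (hb : Cy δ k b) : Cy δ k fun x => a x - b x := by
  simpa only [neg_one_mul, ← sub_eq_add_neg] using ha.add (hb.smul (-1))

lemma Cy.sum {ι : Type*} (s : Finset ι) {f : ι → X → ℤ} (h : ∀ i ∈ s, Cy δ k (f i)) :
    Cy δ k fun x => ∑ i ∈ s, f i x := by
  classical
  induction s using Finset.induction_on with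
  | empty => simpa using (Cy.zero (δ := δ) (k := k))
  | insert i s hi ih =>
    simp only [Finset.sum_insert hi]
    exact (h i (Finset.mem_insert_self i s)).add (ih fun j hj => h j (Finset.mem_insert_of_mem hj))

lemma RZ.sum {ι : Type*} (s : Finset ι) {f : ι → X → ℤ} (h : ∀ i ∈ s, RZ δ k (f i)) :
    RZ δ k fun x => ∑ i ∈ s, f i x := by
  classical
  induction s using Finset.induction_on with
  | empty => simpa using (RZ.zero (δ := δ) (k := k))
  | insert i s hi ih =>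
    simp only [Finset.sum_insert hi]
    exact (h i (Finset.mem_insert_self i s)).add (ih fun j hj => h j (Finset.mem_insert_of_mem hj))

lemma RZ.of_ratEquiv {A B : AlgebraicCycle X ℤ} (hA : A ∈ Cyc.Zk X δ k) (hB : B ∈ Cyc.Zk X δ k)
    (h : Cyc.RatEquiv δ k A B) : RZ δ k fun x => A x - B x :=
  ⟨A - B, rfl, fun x hx => by show A x - B x = 0; rw [hA x hx, hB x hx, sub_zero], h⟩

lemma RZ.ratEquiv {A B : AlgebraicCycle X ℤ} (h : RZ δ k fun x => A x - B x) : Cyc.RatEquiv δ k A B := by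
  obtain ⟨C, hC, -, hC'⟩ := h
  exact CycRat.ratEquivZero_of_eq hC' fun x => (congrFun hC x).symm

lemma RZ.ratEquivZero {A : AlgebraicCycle X ℤ} (h : RZ δ k ⇑A) : Cyc.RatEquivZero δ k A := by
  obtain ⟨C, hC, -, hC'⟩ := h
  exact CycRat.ratEquivZero_of_eq hC' fun x => (congrFun hC x).symm

lemma Cy.cap (hX : Cyc.IsSetup X δ) {L : X.Modules} (hL : PicF.IsInvertible L) {v : (x : X) → Cyc.secFibre L x}
    (hv : ∀ x, v x ≠ 0) (ha : Cy δ (k + 1) a) : Cy δ k (Cyc.c1CapFun δ L a v) := by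
  haveI := hX.1
  obtain ⟨A, rfl, hA⟩ := ha
  obtain ⟨C, hC⟩ := secFin hX hL A v hv
  exact ⟨C, hC, cap_mem (fun x hx => by_contra fun h => hx (hA x h)) hC⟩

lemma RZ.cap (hX : Cyc.IsSetup X δ) {L : X.Modules} (hL : PicF.IsInvertible L) {v : (x : X) → Cyc.secFibre L x}
    (hv : ∀ x, v x ≠ 0) (ha : RZ δ (k + 1) a) : RZ δ k (Cyc.c1CapFun δ L a v) := by
  haveI := hX.1
  obtain ⟨A, rfl, hA, hA'⟩ := ha
  obtain ⟨C, hC⟩ := secFin hX hL A v hv
  have hk : C ∈ Cyc.Zk X δ k := cap_mem (fun x hx => by_contra fun h => hx (hA x h)) hC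
  exact ⟨C, hC, hk, CycK0.c1Cap_ratEquivZero hX hL hA' v hv C hk hC⟩

lemma Cy.cap_add [IsLocallyNoetherian X] (ha : Cy δ k a) (hb : Cy δ k b) {L : X.Modules} (v : (x : X) → Cyc.secFibre L x) :
    Cyc.c1CapFun δ L (fun x => a x + b x) v = fun x => Cyc.c1CapFun δ L a v x + Cyc.c1CapFun δ L b v x := by
  obtain ⟨A, rfl, -⟩ := ha
  obtain ⟨B, rfl, -⟩ := hb
  funext x
  have h := c1CapFun_sub_apply (δ := δ) (L := L) (a := ⇑A) (b := fun x => A x + B x) (c := ⇑B) (s := v) (x := x)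
    (fun y => (add_sub_cancel_right _ _).symm)
    (((C1Cap.finite_gen A x).union (C1Cap.finite_gen B x)).subset fun y hy => by
      by_cases h0 : A y = 0
      · exact Or.inr ⟨hy.1, fun h1 => hy.2 (by show A y + B y = 0; omega)⟩
      · exact Or.inl ⟨hy.1, h0⟩)
    (C1Cap.finite_gen B x)
  omega

lemma Cy.pow (hX : Cyc.IsSetup X δ) {L : X.Modules} (hL : PicF.IsInvertible L) {t : ℕ → (x : X) → Cyc.secFibre L x}
    (ht : ∀ i x, t i x ≠ 0) (ha : Cy δ k a) : ∀ m : ℕ, Cy δ (k - m) (Cyc.c1PowFun δ L t m a)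
  | 0 => by show Cy δ (k - (0 : ℕ)) a; simpa using ha
  | m + 1 => by
    refine Cy.cap (k := k - ((m + 1 : ℕ) : ℤ)) hX hL (ht m) ?_
    rw [show k - ((m + 1 : ℕ) : ℤ) + 1 = k - m by push_cast; ring]
    exact Cy.pow hX hL ht ha m

lemma RZ.pow (hX : Cyc.IsSetup X δ) {L : X.Modules} (hL : PicF.IsInvertible L) {t : ℕ → (x : X) → Cyc.secFibre L x}
    (ht : ∀ i x, t i x ≠ 0) (ha : RZ δ k a) : ∀ m : ℕ, RZ δ (k - m) (Cyc.c1PowFun δ L t m a)
  | 0 => by show RZ δ (k - (0 : ℕ)) a; simpa using ha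
  | m + 1 => by
    refine RZ.cap (k := k - ((m + 1 : ℕ) : ℤ)) hX hL (ht m) ?_
    rw [show k - ((m + 1 : ℕ) : ℤ) + 1 = k - m by push_cast; ring]
    exact RZ.pow hX hL ht ha m

lemma Cy.pow_add (hX : Cyc.IsSetup X δ) {L : X.Modules} (hL : PicF.IsInvertible L)
    {t : ℕ → (x : X) → Cyc.secFibre L x} (ht : ∀ i x, t i x ≠ 0) (ha : Cy δ k a) (hb : Cy δ k b) : ∀ m : ℕ,
    Cyc.c1PowFun δ L t m (fun x => a x + b x) = fun x => Cyc.c1PowFun δ L t m a x + Cyc.c1PowFun δ L t m b x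
  | 0 => rfl
  | m + 1 => by
    haveI := hX.1
    show Cyc.c1CapFun δ L (Cyc.c1PowFun δ L t m _) (t m) = _
    rw [Cy.pow_add hX hL ht ha hb m]
    exact (ha.pow hX hL ht m).cap_add (hb.pow hX hL ht m) (t m)

lemma pow_sum (hX : Cyc.IsSetup X δ) {L : X.Modules} (hL : PicF.IsInvertible L)
    {t : ℕ → (x : X) → Cyc.secFibre L x} (ht : ∀ i x, t i x ≠ 0) {ι : Type*} (s : Finset ι) {f : ι → X → ℤ}
    (h : ∀ i ∈ s, Cy δ k (f i)) (m : ℕ) :
    Cyc.c1PowFun δ L t m (fun x => ∑ i ∈ s, f i x) = fun x => ∑ i ∈ s, Cyc.c1PowFun δ L t m (f i) x := by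
  classical
  induction s using Finset.induction_on with
  | empty =>
    have h0 := c1PowFun_smul δ L t 0 (fun _ => 0) m
    simpa using h0
  | insert i s hi ih =>
    simp only [Finset.sum_insert hi]
    rw [(h i (Finset.mem_insert_self i s)).pow_add hX hL ht
      (Cy.sum s fun j hj => h j (Finset.mem_insert_of_mem hj)) m, ih fun j hj => h j (Finset.mem_insert_of_mem hj)]

/-- Powers only use the first sections. -/
lemma c1PowFun_congr {L : X.Modules} {t t' : ℕ → (x : X) → Cyc.secFibre L x} (a : X → ℤ) : ∀ m : ℕ,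
    (∀ i < m, t i = t' i) → Cyc.c1PowFun δ L t m a = Cyc.c1PowFun δ L t' m a
  | 0, _ => rfl
  | m + 1, h => by
    show Cyc.c1CapFun δ L _ (t m) = Cyc.c1CapFun δ L _ (t' m)
    rw [c1PowFun_congr a m fun i hi => h i (by omega), h m (by omega)]

/-- Two powers in a row. -/
lemma c1PowFun_append {L : X.Modules} (t t' : ℕ → (x : X) → Cyc.secFibre L x) (a : X → ℤ) (i : ℕ) : ∀ j : ℕ,
    Cyc.c1PowFun δ L (fun l => if l < i then t l else t' (l - i)) (i + j) a =
      Cyc.c1PowFun δ L t' j (Cyc.c1PowFun δ L t i a)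
  | 0 => c1PowFun_congr a i fun l hl => if_pos hl
  | j + 1 => by
    show Cyc.c1CapFun δ L (Cyc.c1PowFun δ L _ (i + j) a)
        ((fun l => if l < i then t l else t' (l - i)) (i + j)) = Cyc.c1CapFun δ L _ _
    rw [c1PowFun_append t t' a i j]
    simp only [show ¬ i + j < i by omega, if_false, add_tsub_cancel_left]

variable (p : P ⟶ X) [IsProper p]

/-- The push forward of a function. -/
def pushF (δP : P → ℤ) (δ : X → ℤ) (a : P → ℤ) (y : X) : ℤ :=
  ∑ᶠ x ∈ (p ⁻¹' {y} : Set P), a x * (AlgebraicCycle.mapCoeff p δP δ x : ℤ)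

lemma finite_push (A : AlgebraicCycle P ℤ) (y : X) :
    ((p ⁻¹' {y} : Set P) ∩ Function.support fun x => A x * (AlgebraicCycle.mapCoeff p δP δ x : ℤ)).Finite := by
  obtain ⟨U, hU, hyU, -⟩ := exists_isAffineOpen_mem_and_subset (x := y) (U := (⊤ : X.Opens)) trivial
  refine (A.locallyFiniteSupport.finite_inter_support_of_isCompact
    (QuasiCompact.isCompact_preimage (f := p) _ U.2 hU.isCompact)).subset fun x hx =>
      ⟨show p x ∈ U by rw [show p x = y from hx.1]; exact hyU, left_ne_zero_of_mul hx.2⟩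

lemma RZ.push (hX : Cyc.IsSetup X δ) (hP : Cyc.IsSetup P δP) (hδ : Cyc.DeltaCompat p δP δ) {a : P → ℤ}
    (ha : RZ δP k a) : RZ δ k (pushF p δP δ a) := by
  haveI := hX.1
  haveI := hP.1
  obtain ⟨A, rfl, hA, hA'⟩ := ha
  let m := AlgebraicCycle.map p δP δ A
  refine ⟨m, rfl, fun y hy => finsum_mem_eq_zero_of_forall_eq_zero fun x hx => ?_,
    CycPush.ratEquivZero_map p hP.2.2 hX.2.2 hδ k A hA' m fun y => rfl⟩
  by_contra h
  have h1 := by_contra fun h0 => left_ne_zero_of_mul h (hA x h0)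
  have h2 := right_ne_zero_of_mul h
  unfold AlgebraicCycle.mapCoeff at h2
  by_cases h3 : δP x = δ (p x)
  · exact hy (by rw [← show p x = y from hx, ← h3, h1])
  · refine h2 ?_
    simp only [if_neg h3, Nat.cast_zero]

lemma pushF_sum {ι : Type*} (s : Finset ι) {f : ι → P → ℤ} (h : ∀ i ∈ s, Cy δP k (f i)) (y : X) :
    pushF p δP δ (fun x => ∑ i ∈ s, f i x) y = ∑ i ∈ s, pushF p δP δ (f i) y := by
  classical
  induction s using Finset.induction_on with
  | empty => simp [pushF]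
  | insert i s hi ih =>
    obtain ⟨A, hA, -⟩ := h i (Finset.mem_insert_self i s)
    obtain ⟨B, hB, -⟩ := Cy.sum (δ := δP) (k := k) s fun j hj => h j (Finset.mem_insert_of_mem hj)
    rw [Finset.sum_insert hi, ← ih fun j hj => h j (Finset.mem_insert_of_mem hj)]
    show ∑ᶠ x ∈ _, (∑ j ∈ insert i s, f j x) * _ = ∑ᶠ x ∈ _, f i x * _ + ∑ᶠ x ∈ _, _
    rw [← finsum_mem_add_distrib' (hA ▸ finite_push p A y) (hB ▸ finite_push p B y)]
    exact finsum_mem_congr rfl fun x _ => by rw [Finset.sum_insert hi, add_mul]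

variable {p} {n : ℕ}

lemma Cy.pull (hP : Cyc.IsSetup P δP) (hδ : Cyc.DeltaCompat p δP δ) (hr : Cyc.HasRelDim p n) [IsLocallyNoetherian X]
    (ha : Cy δ k a) : Cy δP (k + n) (Cyc.pullFun p δP δ n a) := by
  haveI := hP.1
  obtain ⟨A, rfl, hA⟩ := ha
  obtain ⟨C, hC⟩ := CycK0.exists_cycle_affine (Cyc.pullFun p δP δ n ⇑A) fun {U} hU =>
    CycSec.finite_pullFun_cycle p hP.2.2 (fun x hx => ((CycDim.delta_le p hδ hr x).2).2 hx) A hU
  refine ⟨C, hC, fun x hx => ?_⟩
  rw [hC]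
  unfold Cyc.pullFun
  split
  · next h => rw [hA (p x) (fun e => hx (by omega)), zero_mul]
  · rfl

lemma RZ.pull (hX : Cyc.IsSetup X δ) (hP : Cyc.IsSetup P δP) [Flat p] (hδ : Cyc.DeltaCompat p δP δ)
    (hr : Cyc.HasRelDim p n) (ha : RZ δ k a) : RZ δP (k + n) (Cyc.pullFun p δP δ n a) := by
  haveI := hX.1
  haveI := hP.1
  obtain ⟨A, rfl, hA, hA'⟩ := ha
  obtain ⟨C, hC, hC'⟩ := (show Cy δ k ⇑A from ⟨A, rfl, hA⟩).pull hP hδ hr
  exact ⟨C, hC, hC', CycPull.ratEquivZero_pull p hP.2.2 hX.2.2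
    (fun x hx => ((CycDim.delta_le p hδ hr x).2).2 hx) hA' hC⟩

set_option maxHeartbeats 1000000 in
/-- The classes of a projective bundle are independent. -/
theorem independent (hX : Cyc.IsSetup X δ) (hP : Cyc.IsSetup P δP) [Flat p] (hδ : Cyc.DeltaCompat p δP δ)
    {O : P.Modules} (hO : PicF.IsInvertible O) (hF : HasPnFibres p O n)
    (α : Fin (n + 1) → X → ℤ) (hα : ∀ i : Fin (n + 1), Cy δ (k + ((i : ℕ) : ℤ)) (α i))
    (t : Fin (n + 1) → ℕ → (x : P) → Cyc.secFibre O x) (ht : ∀ i m x, t i m x ≠ 0)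
    (h0 : RZ δP (k + n) fun x => ∑ i : Fin (n + 1),
      Cyc.c1PowFun δP O (t i) (i : ℕ) (Cyc.pullFun p δP δ n (α i)) x) :
    ∀ i : Fin (n + 1), RZ δ (k + ((i : ℕ) : ℤ)) (α i) := by
  classical
  haveI := hX.1
  have hr := hasRelDim_of_hasPnFibres hF
  suffices H : ∀ (d : ℕ) (i : Fin (n + 1)), n - (i : ℕ) = d → RZ δ (k + ((i : ℕ) : ℤ)) (α i) from
    fun i => H _ i rfl
  intro d
  induction d using Nat.strong_induction_on with
  | h d IH =>
    intro i₀ hi₀
    let j := n - (i₀ : ℕ)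
    have hi₀n : (i₀ : ℕ) ≤ n := Nat.lt_succ_iff.1 i₀.2
    let t' := t i₀
    let T : Fin (n + 1) → P → ℤ := fun i => Cyc.c1PowFun δP O (t i) (i : ℕ) (Cyc.pullFun p δP δ n (α i))
    have hT : ∀ i, Cy δP (k + n) (T i) := fun i => by
      have := ((hα i).pull hP hδ hr).pow hP hO (ht i) (i : ℕ)
      rwa [show k + ((i : ℕ) : ℤ) + n - ((i : ℕ) : ℤ) = k + n by ring] at this
    have h1 := (h0.pow hP hO (t := t') (ht i₀) j).push p hX hP hδ
    rw [show k + (n : ℤ) - (j : ℤ) = k + ((i₀ : ℕ) : ℤ) by omega, pow_sum hP hO (ht i₀) Finset.univ (fun i _ => hT i) j,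
      show pushF p δP δ (fun x => ∑ i : Fin (n + 1), Cyc.c1PowFun δP O t' j (T i) x) =
        fun y => ∑ i : Fin (n + 1), pushF p δP δ (Cyc.c1PowFun δP O t' j (T i)) y from funext fun y =>
          pushF_sum p Finset.univ (fun i _ => (hT i).pow hP hO (ht i₀) j) y] at h1
    let G : Fin (n + 1) → X → ℤ := fun i => pushF p δP δ (Cyc.c1PowFun δP O t' j (T i))
    let app : Fin (n + 1) → ℕ → (x : P) → Cyc.secFibre O x :=
      fun i l => if l < (i : ℕ) then t i l else t' (l - i)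
    have happ : ∀ i m x, app i m x ≠ 0 := fun i m x => by
      by_cases h : m < (i : ℕ)
      · simp only [app, h, if_true]; exact ht i m x
      · simp only [app, h, if_false]; exact ht i₀ _ x
    have hG : ∀ i, G i = pushF p δP δ
        (Cyc.c1PowFun δP O (app i) ((i : ℕ) + j) (Cyc.pullFun p δP δ n (α i))) := fun i => by
      rw [c1PowFun_append]
    have hlo : ∀ i : Fin (n + 1), (i : ℕ) ≤ i₀ → ∀ y, G i y = if i = i₀ then α i y else 0 := fun i hi y => by
      obtain ⟨A, hA, hAk⟩ := hα i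
      rw [hG, ← hA]
      refine (push_c1Pow hX hP hδ hF hO A hAk (app i) (happ i) _ (by omega) y).trans ?_
      by_cases h : i = i₀
      · subst h
        rw [if_pos (by omega), if_pos rfl]
      · rw [if_neg (fun e => h (Fin.ext (by omega))), if_neg h]
    have hhi : RZ δ (k + ((i₀ : ℕ) : ℤ))
        fun y => ∑ i ∈ Finset.univ.filter fun i : Fin (n + 1) => (i₀ : ℕ) < i, G i y := RZ.sum _ fun i hi => by
      have hlt := (Finset.mem_filter.1 hi).2
      have hi2 : (i : ℕ) ≤ n := Nat.lt_succ_iff.1 i.2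
      have := ((((IH (n - i) (by omega) i rfl).pull hX hP hδ hr).pow hP hO (t := app i) (happ i) ((i : ℕ) + j)).push p
        hX hP hδ)
      rw [← hG, show k + ((i : ℕ) : ℤ) + n - (((i : ℕ) + j : ℕ) : ℤ) = k + ((i₀ : ℕ) : ℤ) by push_cast; omega] at this
      exact this
    have hsum : (fun y => (∑ i : Fin (n + 1), G i y) -
        ∑ i ∈ Finset.univ.filter fun i : Fin (n + 1) => (i₀ : ℕ) < i, G i y) = α i₀ := funext fun y => by
      rw [← Finset.sum_filter_add_sum_filter_not Finset.univ (fun i : Fin (n + 1) => (i₀ : ℕ) < i),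
        add_sub_cancel_left, Finset.sum_eq_single i₀ (fun i hi hne => by
          rw [hlo i (not_lt.1 (Finset.mem_filter.1 hi).2) y, if_neg hne])
          (fun h => absurd (Finset.mem_filter.2 ⟨Finset.mem_univ i₀, lt_irrefl (i₀ : ℕ)⟩) h),
        hlo i₀ le_rfl y, if_pos rfl]
    have h2 := h1.sub hhi
    rw [hsum] at h2
    exact h2

end Groth.Agent.CycPB
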