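import Groth.Agent.CycPB.Whitney

/-!
Caps and Chern classes as operators on all cycle classes at once.
-/

set_option autoImplicit false
set_option linter.unusedSectionVars false
set_option linter.style.haveILetI false
set_option backward.isDefEq.respectTransparency false
set_option backward.isDefEq.respectTransparency.types false

universe u

open CategoryTheory CategoryTheory.Limits AlgebraicGeometry TopologicalSpace Opposite
open Groth.Agent.CycSec (secPull secPull_ne_zero)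
open scoped IsMulCommutative

noncomputable section

namespace Groth.Agent.CycPB

variable {X Y P Q : Scheme.{u}} {δ : X → ℤ} {δP : P → ℤ} {δQ : Q → ℤ}

/-- Families of cycles, one of each dimension. -/
def gCy (δ : X → ℤ) : AddSubgroup (ℤ → X → ℤ) where
  carrier := {a | ∀ k, Cy δ k (a k)}
  zero_mem' := fun _ => Cy.zero
  add_mem' ha hb k := (ha k).add (hb k)
  neg_mem' {a} ha k := by
    have := (ha k).smul (-1)
    exact (show (fun x => (-1 : ℤ) * a k x) = (-a) k from funext fun x => neg_one_mul _) ▸ this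

/-- Families of cycles rationally equivalent to zero. -/
def gRZ (δ : X → ℤ) : AddSubgroup (ℤ → X → ℤ) where
  carrier := {a | ∀ k, RZ δ k (a k)}
  zero_mem' := fun _ => RZ.zero
  add_mem' ha hb k := (ha k).add (hb k)
  neg_mem' {a} ha k := by
    have := (ha k).smul (-1)
    exact (show (fun x => (-1 : ℤ) * a k x) = (-a) k from funext fun x => neg_one_mul _) ▸ this

/-- All cycle classes. -/
abbrev Tot (δ : X → ℤ) : Type u := (gCy δ) ⧸ ((gRZ δ).addSubgroupOf (gCy δ))

/-- The class of a family of cycles. -/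
def mkT (a : gCy δ) : Tot δ := QuotientAddGroup.mk a

lemma mkT_eq_iff {a b : gCy δ} : mkT a = mkT b ↔ ∀ k, RZ δ k fun x => a.1 k x - b.1 k x := by
  rw [mkT, mkT, QuotientAddGroup.eq_iff_sub_mem]
  rfl

lemma mkT_surjective : Function.Surjective (mkT (δ := δ)) := Quot.mk_surjective

lemma mkT_add (a b : gCy δ) : mkT (a + b) = mkT a + mkT b := rfl

/-- One cycle as a family. -/
def sgl (l : ℤ) (a : X → ℤ) : ℤ → X → ℤ := fun k => if k = l then a else fun _ => 0

lemma sgl_self (l : ℤ) (a : X → ℤ) : sgl l a l = a := if_pos rfl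

lemma sgl_ne {l k : ℤ} (h : k ≠ l) (a : X → ℤ) : sgl l a k = fun _ => 0 := if_neg h

lemma sgl_mem {l : ℤ} {a : X → ℤ} (ha : Cy δ l a) : sgl l a ∈ gCy δ := fun k => by
  by_cases h : k = l
  · subst h; rw [sgl_self]; exact ha
  · rw [sgl_ne h]; exact Cy.zero

/-- The class of one cycle. -/
def ofT {l : ℤ} {a : X → ℤ} (ha : Cy δ l a) : Tot δ := mkT ⟨sgl l a, sgl_mem ha⟩

lemma ofT_eq_iff {l : ℤ} {a b : X → ℤ} (ha : Cy δ l a) (hb : Cy δ l b) :
    ofT ha = ofT hb ↔ RZ δ l fun x => a x - b x := by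
  rw [ofT, ofT, mkT_eq_iff]
  refine ⟨fun h => by simpa only [sgl_self] using h l, fun h k => ?_⟩
  by_cases hk : k = l
  · subst hk; simpa only [sgl_self] using h
  · simp only [sgl_ne hk, sub_self]; exact RZ.zero

lemma ofT_add {l : ℤ} {a b : X → ℤ} (ha : Cy δ l a) (hb : Cy δ l b) :
    ofT (ha.add hb) = ofT ha + ofT hb := by
  rw [ofT, ofT, ofT, ← mkT_add, mkT_eq_iff]
  intro k
  refine RZ.zero.eq (funext fun x => ?_)
  show (0 : ℤ) = sgl l (fun x => a x + b x) k x - (sgl l a k x + sgl l b k x)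
  by_cases h : k = l
  · subst h; simp only [sgl_self]; ring
  · simp only [sgl_ne h]; ring

lemma ofT_zero (l : ℤ) : ofT (δ := δ) (l := l) (Cy.zero) = 0 := by
  refine mkT_eq_iff (b := 0).2 fun k => RZ.zero.eq (funext fun x => ?_)
  show (0 : ℤ) = sgl l (fun _ => 0) k x - 0
  by_cases h : k = l
  · subst h; simp only [sgl_self]; ring
  · simp only [sgl_ne h]; ring

lemma ofT_congr {l : ℤ} {a b : X → ℤ} (ha : Cy δ l a) (hb : Cy δ l b) (h : a = b) : ofT ha = ofT hb := by
  subst h; rfl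

lemma ofT_congr' {l l' : ℤ} {a : X → ℤ} (ha : Cy δ l a) (hb : Cy δ l' a) (h : l = l') : ofT ha = ofT hb := by
  subst h; rfl

lemma ofT_smul {l : ℤ} (n : ℤ) {a : X → ℤ} (ha : Cy δ l a) : ofT (ha.smul n) = n • ofT ha := by
  rw [ofT, ofT, mkT, mkT, ← QuotientAddGroup.mk_zsmul]
  refine (mkT_eq_iff (δ := δ)).2 fun k => RZ.zero.eq (funext fun x => ?_)
  show (0 : ℤ) = sgl l (fun x => n * a x) k x - (n • sgl l a : ℤ → X → ℤ) k x
  by_cases h : k = l
  · subst h; simp [sgl_self]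
  · simp [sgl_ne h]

section cap

variable (hX : Cyc.IsSetup X δ)

/-- The first Chern class of an invertible module on families. -/
def capFam {L : X.Modules} (hL : PicF.IsInvertible L) : gCy δ →+ gCy δ :=
  haveI := hX.1
  AddMonoidHom.mk' (fun a => ⟨fun k => Cyc.c1CapFun δ L (a.1 (k + 1)) (exists_sections hL).choose,
      fun k => Cy.cap hX hL (exists_sections hL).choose_spec (a.2 (k + 1))⟩) fun a b => Subtype.ext (funext fun k =>
    Cy.cap_add (a.2 (k + 1)) (b.2 (k + 1)) _)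

/-- The first Chern class of an invertible module as an operator. -/
def c1T {L : X.Modules} (hL : PicF.IsInvertible L) : AddMonoid.End (Tot δ) :=
  QuotientAddGroup.map _ _ (capFam hX hL) fun a ha k =>
    RZ.cap hX hL (exists_sections hL).choose_spec (show RZ δ (k + 1) (a.1 (k + 1)) from ha (k + 1))

lemma c1T_mk {L : X.Modules} (hL : PicF.IsInvertible L) {v : (x : X) → Cyc.secFibre L x} (hv : ∀ x, v x ≠ 0)
    (a : gCy δ) (b : gCy δ) (hb : ∀ k, RZ δ k fun x => Cyc.c1CapFun δ L (a.1 (k + 1)) v x - b.1 k x) :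
    c1T hX hL (mkT a) = mkT b :=
  mkT_eq_iff.2 fun k =>
    (cap_change hX hL (exists_sections hL).choose_spec hv (a.2 (k + 1))).trans (hb k)

lemma c1T_ofT {L : X.Modules} (hL : PicF.IsInvertible L) {v : (x : X) → Cyc.secFibre L x} (hv : ∀ x, v x ≠ 0)
    {l : ℤ} {a : X → ℤ} (ha : Cy δ (l + 1) a) :
    c1T hX hL (ofT ha) = ofT (Cy.cap hX hL hv ha) := by
  refine c1T_mk hX hL hv _ _ fun k => RZ.zero.eq (funext fun x => ?_)
  show (0 : ℤ) = Cyc.c1CapFun δ L (sgl (l + 1) a (k + 1)) v x - sgl l (Cyc.c1CapFun δ L a v) k x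
  by_cases h : k = l
  · subst h; simp only [sgl_self, sub_self]
  · simp only [sgl_ne h, sgl_ne (show k + 1 ≠ l + 1 by omega), cap_zero, sub_self]

lemma c1T_comm {L N : X.Modules} (hL : PicF.IsInvertible L) (hN : PicF.IsInvertible N) :
    c1T hX hL * c1T hX hN = c1T hX hN * c1T hX hL := by
  refine AddMonoidHom.ext fun z => ?_
  obtain ⟨a, rfl⟩ := mkT_surjective z
  obtain ⟨v, hv⟩ := exists_sections hL
  obtain ⟨w, hw⟩ := exists_sections hN
  have hc : ∀ {L : X.Modules} (hL : PicF.IsInvertible L) (v : (x : X) → Cyc.secFibre L x), (∀ x, v x ≠ 0) →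
      ∀ a : gCy δ, (fun k => Cyc.c1CapFun δ L (a.1 (k + 1)) v) ∈ gCy δ := fun {L} hL v hv a k =>
    Cy.cap hX hL hv (a.2 (k + 1))
  let a₁ : gCy δ := ⟨_, hc hN w hw a⟩
  let a₂ : gCy δ := ⟨_, hc hL v hv a⟩
  show c1T hX hL (c1T hX hN (mkT a)) = c1T hX hN (c1T hX hL (mkT a))
  rw [c1T_mk hX hN hw a a₁ fun k => RZ.refl _, c1T_mk hX hL hv a a₂ fun k => RZ.refl _,
    c1T_mk hX hL hv a₁ ⟨_, hc hL v hv a₁⟩ fun k => RZ.refl _, c1T_mk hX hN hw a₂ ⟨_, hc hN w hw a₂⟩ fun k => RZ.refl _]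
  refine mkT_eq_iff.2 fun k => ?_
  have h := cap_comm hX hL hN hv hw (k := k) (a := a.1 (k + 1 + 1)) (by
    have := a.2 (k + 1 + 1); rwa [show k + 1 + 1 = k + 2 by ring] at this ⊢)
  exact h

lemma c1T_tensor {L N : X.Modules} (hL : PicF.IsInvertible L) (hN : PicF.IsInvertible N) :
    c1T hX (TMul.isInvertible_tensorMod hL hN) = c1T hX hL + c1T hX hN := by
  refine AddMonoidHom.ext fun z => ?_
  obtain ⟨a, rfl⟩ := mkT_surjective z
  obtain ⟨v, hv⟩ := exists_sections hL
  obtain ⟨w, hw⟩ := exists_sections hN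
  obtain ⟨t, ht⟩ := exists_sections (TMul.isInvertible_tensorMod hL hN)
  show c1T hX _ (mkT a) = c1T hX hL (mkT a) + c1T hX hN (mkT a)
  rw [c1T_mk hX _ ht a ⟨_, fun k => Cy.cap hX (TMul.isInvertible_tensorMod hL hN) ht (a.2 (k + 1))⟩ fun k => RZ.refl _,
    c1T_mk hX hL hv a ⟨_, fun k => Cy.cap hX hL hv (a.2 (k + 1))⟩ fun k => RZ.refl _,
    c1T_mk hX hN hw a ⟨_, fun k => Cy.cap hX hN hw (a.2 (k + 1))⟩ fun k => RZ.refl _, ← mkT_add]
  exact mkT_eq_iff.2 fun k => ((cap_tensor hX hL hN hv hw ht (a.2 (k + 1))).smul (-1)).eq (funext fun x => by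
    show -1 * _ = Cyc.c1CapFun δ _ (a.1 (k + 1)) t x -
      (Cyc.c1CapFun δ L (a.1 (k + 1)) v x + Cyc.c1CapFun δ N (a.1 (k + 1)) w x)
    ring)

lemma c1T_iso {L N : X.Modules} (hL : PicF.IsInvertible L) (hN : PicF.IsInvertible N) (e : L ≅ N) :
    c1T hX hL = c1T hX hN := by
  refine AddMonoidHom.ext fun z => ?_
  obtain ⟨a, rfl⟩ := mkT_surjective z
  obtain ⟨v, hv⟩ := exists_sections hL
  obtain ⟨w, hw⟩ := exists_sections hN
  show c1T hX hL (mkT a) = c1T hX hN (mkT a)
  rw [c1T_mk hX hL hv a ⟨_, fun k => Cy.cap hX hL hv (a.2 (k + 1))⟩ fun k => RZ.refl _,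
    c1T_mk hX hN hw a ⟨_, fun k => Cy.cap hX hN hw (a.2 (k + 1))⟩ fun k => RZ.refl _]
  exact mkT_eq_iff.2 fun k => cap_iso hX hL hN e hv hw (a.2 (k + 1))

/-- The generators of the ring of operators. -/
def c1Set : Set (AddMonoid.End (Tot δ)) := {f | ∃ (L : X.Modules) (hL : PicF.IsInvertible L), f = c1T hX hL}

/-- The ring generated by the first Chern classes. -/
abbrev c1Ring : Subring (AddMonoid.End (Tot δ)) := Subring.closure (c1Set hX)

instance : IsMulCommutative (c1Ring hX) := Subring.isMulCommutative_closure (by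
  rintro _ ⟨L, hL, rfl⟩ _ ⟨N, hN, rfl⟩
  exact c1T_comm hX hL hN)

/-- The first Chern class in the ring of operators. -/
def c1R {L : X.Modules} (hL : PicF.IsInvertible L) : c1Ring hX := ⟨c1T hX hL, Subring.subset_closure ⟨L, hL, rfl⟩⟩

lemma c1R_tensor {L N : X.Modules} (hL : PicF.IsInvertible L) (hN : PicF.IsInvertible N) :
    c1R hX (TMul.isInvertible_tensorMod hL hN) = c1R hX hL + c1R hX hN := Subtype.ext (c1T_tensor hX hL hN)

lemma c1R_iso {L N : X.Modules} (hL : PicF.IsInvertible L) (hN : PicF.IsInvertible N) (e : L ≅ N) :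
    c1R hX hL = c1R hX hN := Subtype.ext (c1T_iso hX hL hN e)

end cap

section chern

variable {p : P ⟶ X} [IsProper p] {E : X.Modules} {O : P.Modules} {r : ℕ}

/-- The `j`-th Chern class on families. -/
def cFam (hB : Bundle p δ δP E O r) (j : ℕ) (a : gCy δ) : gCy δ :=
  ⟨fun k => nx (exists_rel hB (a.2 (k + j))).choose j, fun k => by
    have := cy_nx (exists_rel hB (a.2 (k + j))).choose_spec.1.1 j
    rwa [add_sub_cancel_right] at this⟩

lemma Rel.nx_unique (hB : Bundle p δ δP E O r) {k : ℤ} {c d : Fin (r + 1) → X → ℤ} (hc : Rel p δ δP O r k c)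
    (hd : Rel p δ δP O r k d) (h0 : RZ δ k fun x => c 0 x - d 0 x) (j : ℕ) :
    RZ δ (k - j) fun x => nx c j x - nx d j x := by
  by_cases h : j < r + 1
  · rw [nx_of_lt c h, nx_of_lt d h]; exact Rel.unique hB hc hd h0 ⟨j, h⟩
  · rw [nx_of_le c (by omega), nx_of_le d (by omega)]; exact RZ.refl _

lemma nx_add {c d : Fin (r + 1) → X → ℤ} (j : ℕ) (x : X) :
    nx (fun i x => c i x + d i x) j x = nx c j x + nx d j x := by
  by_cases h : j < r + 1
  · rw [nx_of_lt _ h, nx_of_lt _ h, nx_of_lt _ h]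
  · rw [nx_of_le _ (by omega), nx_of_le c (by omega), nx_of_le d (by omega)]; rfl

lemma cFam_spec (hB : Bundle p δ δP E O r) (j : ℕ) (a : gCy δ) (k : ℤ) {c : Fin (r + 1) → X → ℤ}
    (hc : Rel p δ δP O r (k + j) c) (h0 : RZ δ (k + j) fun x => c 0 x - a.1 (k + j) x) :
    RZ δ k fun x => (cFam hB j a).1 k x - nx c j x := by
  have h := Rel.nx_unique hB (exists_rel hB (a.2 (k + j))).choose_spec.1 hc
    (h0.neg_diff.eq (funext fun x => by rw [(exists_rel hB (a.2 (k + j))).choose_spec.2])) j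
  rw [add_sub_cancel_right] at h
  exact h

/-- The `j`-th Chern class as an operator. -/
def cT (hB : Bundle p δ δP E O r) (j : ℕ) : AddMonoid.End (Tot δ) :=
  QuotientAddGroup.lift _ (AddMonoidHom.mk' (fun a => mkT (cFam hB j a)) fun a b => by
    rw [← mkT_add, mkT_eq_iff]
    intro k
    refine (cFam_spec hB j (a + b) k ((exists_rel hB (a.2 (k + j))).choose_spec.1.add hB
      (exists_rel hB (b.2 (k + j))).choose_spec.1) ?_).eq (funext fun x => by rw [nx_add]; rfl)
    refine RZ.zero.eq (funext fun x => ?_)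
    show (0 : ℤ) = _ + _ - (a.1 (k + j) x + b.1 (k + j) x)
    rw [(exists_rel hB (a.2 (k + j))).choose_spec.2, (exists_rel hB (b.2 (k + j))).choose_spec.2, sub_self])
    fun a ha => by
      show mkT (cFam hB j a) = mkT 0
      rw [mkT_eq_iff]
      intro k
      refine (cFam_spec hB j a k (Rel.zero hB) ((show RZ δ (k + j) (a.1 (k + j)) from ha (k + j)).smul (-1) |>.eq
        (funext fun x => by ring))).eq (funext fun x => ?_)
      by_cases h : j < r + 1
      · rw [nx_of_lt _ h]; rfl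
      · rw [nx_of_le _ (by omega)]; rfl

lemma cT_mk (hB : Bundle p δ δP E O r) (j : ℕ) (a : gCy δ) (c : ℤ → Fin (r + 1) → X → ℤ)
    (hc : ∀ k, Rel p δ δP O r (k + j) (c k)) (h0 : ∀ k, RZ δ (k + j) fun x => c k 0 x - a.1 (k + j) x)
    (b : gCy δ) (hb : ∀ k, RZ δ k fun x => nx (c k) j x - b.1 k x) : cT hB j (mkT a) = mkT b :=
  mkT_eq_iff.2 fun k => (cFam_spec hB j a k (hc k) (h0 k)).trans (hb k)

lemma cT_ofT (hB : Bundle p δ δP E O r) (j : ℕ) {l : ℤ} {a : X → ℤ} (ha : Cy δ l a) {c : Fin (r + 1) → X → ℤ}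
    (hc : Rel p δ δP O r l c) (h0 : RZ δ l fun x => c 0 x - a x) :
    cT hB j (ofT ha) = ofT (cy_nx hc.1 j) := by
  refine mkT_eq_iff.2 fun k => ?_
  by_cases h : k = l - j
  · subst h
    refine (cFam_spec hB j ⟨sgl l a, sgl_mem ha⟩ (l - j) (c := c) (by rwa [sub_add_cancel]) ?_).eq (funext fun x => ?_)
    · show RZ δ (l - j + j) fun x => c 0 x - sgl l a (l - j + j) x
      rw [sub_add_cancel, sgl_self]; exact h0
    · show _ = _ - sgl (l - j) (nx c j) (l - j) x
      rw [sgl_self]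
  · refine (cFam_spec hB j ⟨sgl l a, sgl_mem ha⟩ k (Rel.zero hB) ?_).eq (funext fun x => ?_)
    · show RZ δ (k + j) fun x => 0 - sgl l a (k + j) x
      rw [sgl_ne (show k + j ≠ l by omega)]; exact RZ.refl _
    · show _ = _ - sgl (l - j) (nx c j) k x
      rw [sgl_ne h]
      by_cases h' : j < r + 1
      · rw [nx_of_lt _ h']
      · rw [nx_of_le _ (by omega)]

end chern

end Groth.Agent.CycPB
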