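import Groth.Agent.CycPB.OpsTensor

/-!
Evaluating the operators.
-/

set_option autoImplicit false
set_option linter.unusedSectionVars false
set_option linter.style.haveILetI false
set_option backward.isDefEq.respectTransparency false
set_option backward.isDefEq.respectTransparency.types false

universe u

open CategoryTheory CategoryTheory.Limits AlgebraicGeometry TopologicalSpace Opposite

noncomputable section

namespace Groth.Agent.CycPB

variable {X Y P : Scheme.{u}} {δ : X → ℤ} {δY : Y → ℤ} {δP : P → ℤ}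

/-- Powers of the first Chern class of an invertible module on one cycle. -/
theorem c1T_pow_ofT (hX : Cyc.IsSetup X δ) {L : X.Modules} (hL : PicF.IsInvertible L)
    {t : ℕ → (x : X) → Cyc.secFibre L x} (ht : ∀ m x, t m x ≠ 0) {l : ℤ} {a : X → ℤ} (ha : Cy δ l a) :
    ∀ m : ℕ, (c1T hX hL ^ m) (ofT ha) = ofT (Cy.pow hX hL ht ha m)
  | 0 => by
    rw [pow_zero]
    refine mkT_eq_iff.2 fun k => RZ.zero.eq (funext fun x => ?_)
    show (0 : ℤ) = sgl l a k x - sgl (l - ((0 : ℕ) : ℤ)) a k x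
    rw [show l - ((0 : ℕ) : ℤ) = l by simp, sub_self]
  | m + 1 => by
    rw [pow_succ']
    show c1T hX hL ((c1T hX hL ^ m) (ofT ha)) = _
    have h1 : Cy δ (l - ((m + 1 : ℕ) : ℤ) + 1) (Cyc.c1PowFun δ L t m a) := by
      have := Cy.pow hX hL ht ha m
      rwa [show l - ((m + 1 : ℕ) : ℤ) + 1 = l - (m : ℤ) by push_cast; ring]
    rw [c1T_pow_ofT hX hL ht ha m, ofT_congr' (Cy.pow hX hL ht ha m) h1 (by push_cast; ring),
      c1T_ofT hX hL (ht m) h1]

/-- Pull back commutes with powers of first Chern classes. -/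
theorem pullT_c1T_pow (hX : Cyc.IsSetup X δ) (hY : Cyc.IsSetup Y δY) (f : Y ⟶ X) [Flat f] [LocallyOfFiniteType f]
    {e : ℕ} (he : Cyc.HasRelDim f e) (hf : Cyc.DeltaCompat f δY δ) {L : X.Modules} (hL : PicF.IsInvertible L)
    (z : Tot δ) : ∀ m : ℕ, pullT hX hY f he hf ((c1T hX hL ^ m) z) =
      (c1T hY (PicLoc.isInvertible_pullback f hL) ^ m) (pullT hX hY f he hf z)
  | 0 => rfl
  | m + 1 => by
    rw [pow_succ', pow_succ']
    show pullT hX hY f he hf (c1T hX hL ((c1T hX hL ^ m) z)) = _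
    rw [pullT_c1T hX hY f he hf hL, pullT_c1T_pow hX hY f he hf hL z m]
    rfl

/-- Comparing cycle classes of one dimension. -/
theorem ratEquiv_of_ofT {l : ℤ} {A B : AlgebraicCycle X ℤ} (hA : A ∈ Cyc.Zk X δ l) (hB : B ∈ Cyc.Zk X δ l)
    (h : ofT (Cy.mk hA) = ofT (Cy.mk hB)) : Cyc.RatEquiv δ l A B :=
  RZ.ratEquiv ((ofT_eq_iff (Cy.mk hA) (Cy.mk hB)).1 h)

/-- One cycle as a class, by the cycle. -/
def clT {l : ℤ} {A : AlgebraicCycle X ℤ} (hA : A ∈ Cyc.Zk X δ l) : Tot δ := ofT (Cy.mk hA)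

lemma clT_congr {l l' : ℤ} {A : AlgebraicCycle X ℤ} (hA : A ∈ Cyc.Zk X δ l) (hA' : A ∈ Cyc.Zk X δ l') (h : l = l') :
    clT hA = clT hA' := ofT_congr' _ _ h

lemma mem_Zk_add {l : ℤ} {A B : AlgebraicCycle X ℤ} (hA : A ∈ Cyc.Zk X δ l) (hB : B ∈ Cyc.Zk X δ l) :
    A + B ∈ Cyc.Zk X δ l := fun x hx => by show A x + B x = 0; rw [hA x hx, hB x hx, add_zero]

lemma mem_Zk_smul {l : ℤ} (n : ℤ) {A : AlgebraicCycle X ℤ} (hA : A ∈ Cyc.Zk X δ l) :
    n • A ∈ Cyc.Zk X δ l := fun x hx => by show n • A x = 0; rw [hA x hx, smul_zero]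

lemma mem_Zk_sum {ι : Type*} (s : Finset ι) {l : ℤ} {A : ι → AlgebraicCycle X ℤ}
    (hA : ∀ i ∈ s, A i ∈ Cyc.Zk X δ l) : ∑ i ∈ s, A i ∈ Cyc.Zk X δ l := by
  classical
  induction s using Finset.induction_on with
  | empty => exact fun _ _ => rfl
  | insert a s ha ih =>
    rw [Finset.sum_insert ha]
    exact mem_Zk_add (hA a (Finset.mem_insert_self a s)) (ih fun i hi => hA i (Finset.mem_insert_of_mem hi))

lemma clT_add {l : ℤ} {A B : AlgebraicCycle X ℤ} (hA : A ∈ Cyc.Zk X δ l) (hB : B ∈ Cyc.Zk X δ l) :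
    clT (mem_Zk_add hA hB) = clT hA + clT hB :=
  (ofT_congr (Cy.mk (mem_Zk_add hA hB)) ((Cy.mk hA).add (Cy.mk hB)) rfl).trans (ofT_add _ _)

lemma clT_smul {l : ℤ} (n : ℤ) {A : AlgebraicCycle X ℤ} (hA : A ∈ Cyc.Zk X δ l) :
    clT (mem_Zk_smul n hA) = n • clT hA :=
  (ofT_congr (Cy.mk (mem_Zk_smul n hA)) ((Cy.mk hA).smul n) (funext fun x => smul_eq_mul n (A x))).trans
    (ofT_smul n (Cy.mk hA))

lemma clT_sum {ι : Type*} (s : Finset ι) {l : ℤ} {A : ι → AlgebraicCycle X ℤ} (hA : ∀ i, A i ∈ Cyc.Zk X δ l) :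
    clT (mem_Zk_sum s fun i _ => hA i) = ∑ i ∈ s, clT (hA i) := by
  classical
  induction s using Finset.induction_on with
  | empty =>
    refine Eq.trans ?_ (Finset.sum_empty).symm
    exact (ofT_congr _ Cy.zero rfl).trans (ofT_zero l)
  | insert a s ha ih =>
    refine Eq.trans ?_ (Finset.sum_insert ha).symm
    rw [← ih, ← clT_add]
    exact ofT_congr _ _ (congrArg _ (Finset.sum_insert ha))

/-- The Chern class of one cycle. -/
theorem cT_clT {p : P ⟶ X} [IsProper p] {E : X.Modules} {O : P.Modules} {r : ℕ} (hB : Bundle p δ δP E O r) {k : ℤ}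
    {α : AlgebraicCycle X ℤ} (hα : α ∈ Cyc.Zk X δ k) {γ : Fin (r + 1) → AlgebraicCycle X ℤ}
    (hγ : Cyc.IsChernCap p δ δP O r k α γ) (j : Fin (r + 1)) :
    cT hB (j : ℕ) (clT hα) = clT (hγ.2.1 j) := by
  rw [clT, cT_ofT hB (j : ℕ) (Cy.mk hα) (Rel.of_chern hB hγ) (RZ.zero.eq (funext fun x => by rw [hγ.1, sub_self]))]
  exact ofT_congr _ _ (nx_val _ j)

end Groth.Agent.CycPB
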