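import Groth.Agent.CycPB.OpsBundle
import Groth.Agent.CycPB.FiltPull
import Groth.Agent.CycK0.Degree
import Groth.Agent.CurveRR.Multi2
import Groth.Agent.CurveRR.Deg
import Groth.Agent.EulerMult.Basic
import Groth.Agent.Intersect.Deg
import Groth.Agent.W7Nef.Normalise
import Groth.Agent.CycDim.FibreAff
import Groth.Agent.S1928

/-!
The degree of a locally free module on a curve and its first Chern class.
-/

set_option autoImplicit false
set_option linter.unusedSectionVars false
set_option linter.style.haveILetI false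
set_option backward.isDefEq.respectTransparency false
set_option backward.isDefEq.respectTransparency.types false

universe u

open CategoryTheory CategoryTheory.Limits AlgebraicGeometry TopologicalSpace Opposite
open Groth.Agent.CurveRR
open scoped IsMulCommutative

noncomputable section

namespace Groth.Agent.CycPB

variable {X : Scheme.{u}} {δ : X → ℤ}

/-- In the top dimension rational equivalence is trivial. -/
theorem rz_top {k : ℤ} (htop : ∀ x, δ x ≤ k) {a : X → ℤ} (ha : RZ δ k a) : a = fun _ => 0 := by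
  obtain ⟨A, rfl, -, ι, ξ, f, hξ, -, -, hA⟩ := ha
  haveI : IsEmpty ι := ⟨fun i => by have := htop (ξ i); rw [hξ i] at this; omega⟩
  exact funext fun x => (hA x).trans (finsum_of_isEmpty _)

/-- The cycle of one point. -/
theorem cy_single [IsLocallyNoetherian X] (ξ : X) {k : ℤ} (hξ : δ ξ = k) :
    Cy δ k fun x => @ite ℤ (x = ξ) (Classical.propDecidable _) 1 0 := by
  classical
  refine ⟨CycRat.pt ξ, funext fun x => ?_, fun x hx => ?_⟩
  · rw [CycRat.pt_apply]
  · rw [CycRat.pt_apply, if_neg (fun h : x = ξ => hx (by rw [h]; exact hξ))]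

variable (K : Type u) [Field K] [X.Over (Spec (CommRingCat.of K))] [IsProper (X ↘ Spec (CommRingCat.of K))]

/-- The degree of the zero dimensional part. -/
def degT (hδ : Cyc.DeltaCompat (X ↘ Spec (CommRingCat.of K)) δ (fun _ => 0)) : Tot δ →+ ℤ :=
  (QuotientAddGroup.lift ((gRZ (fun _ : Spec (CommRingCat.of K) => (0 : ℤ))).addSubgroupOf (gCy _))
    (AddMonoidHom.mk' (fun a : gCy (fun _ : Spec (CommRingCat.of K) => (0 : ℤ)) => a.1 0 (IsLocalRing.closedPoint K))
      fun _ _ => rfl)
    fun a ha => congrFun (rz_top (fun _ => le_rfl) (show RZ _ 0 (a.1 0) from ha 0)) _).comp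
    (pushT (CycDeg.isSetup_field K) (CycK0.isSetup_of_deltaCompat K hδ) (X ↘ Spec (CommRingCat.of K)) hδ)

theorem degT_mk (hδ : Cyc.DeltaCompat (X ↘ Spec (CommRingCat.of K)) δ (fun _ => 0)) (a : gCy δ) :
    degT K hδ (mkT a) = CycK0.degFun K (a.1 0) := by
  obtain ⟨A, hA, hAk⟩ := a.2 0
  have h := CycK0.deg_eq_degFun K (α := A) (δ := δ) fun x hx => by_contra fun e => hx (hAk x e)
  rw [← hA, ← h]
  show pushF (X ↘ Spec (CommRingCat.of K)) δ (fun _ => 0) (a.1 0) (IsLocalRing.closedPoint K) = _
  rw [← hA]
  rfl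

/-- Degrees do not change under proper push forward. -/
theorem degT_push {Y : Scheme.{u}} [Y.Over (Spec (CommRingCat.of K))] [IsProper (Y ↘ Spec (CommRingCat.of K))]
    {δY : Y → ℤ} (hδ : Cyc.DeltaCompat (X ↘ Spec (CommRingCat.of K)) δ (fun _ => 0))
    (hδY : Cyc.DeltaCompat (Y ↘ Spec (CommRingCat.of K)) δY (fun _ => 0)) (g : Y ⟶ X) [IsProper g]
    (hg : g ≫ (X ↘ Spec (CommRingCat.of K)) = Y ↘ Spec (CommRingCat.of K)) (hgδ : Cyc.DeltaCompat g δY δ)
    (z : Tot δY) :
    degT K hδ (pushT (CycK0.isSetup_of_deltaCompat K hδ) (CycK0.isSetup_of_deltaCompat K hδY) g hgδ z) =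
      degT K hδY z := by
  haveI := isNoetherian_of_proper K Y
  obtain ⟨a, rfl⟩ := mkT_surjective z
  rw [pushT_mk, degT_mk, degT_mk]
  obtain ⟨A, hA, hAk⟩ := a.2 0
  show CycK0.degFun K (pushF g δY δ (a.1 0)) = _
  rw [← hA]
  have h := CycDeg.deg_push g _ _ hg hgδ (CycK0.delta_nonneg K hδ) ⇑A
    (fun x hx => by_contra fun e => hx (hAk x e)) (CycLim.finite_support A)
  unfold CycK0.degFun
  refine Eq.trans (finsum_congr fun y => ?_) (h.trans (finsum_congr fun x => mul_comm _ _))
  exact mul_comm _ _

/-- The dimension function is at most one on a curve. -/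
theorem delta_le_one (hδ : Cyc.DeltaCompat (X ↘ Spec (CommRingCat.of K)) δ (fun _ => 0))
    (hdim : topologicalKrullDim X ≤ 1) (x : X) : δ x ≤ 1 := by
  have h1 := CycK0.delta_height K hδ x
  have h2 : topologicalKrullDim (closure ({x} : Set X)) ≤ ((1 : ℕ) : WithBot ℕ∞) :=
    ((topologicalKrullDim_subspace_le X _).trans hdim).trans_eq Nat.cast_one.symm
  rw [h1.2] at h2
  rw [h1.1]
  have : WeilCoh.pdim X x ≤ 1 := by exact_mod_cast h2
  omega

/-- A point of dimension one is the generic point of a component. -/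
theorem closure_mem_components (hδ : Cyc.DeltaCompat (X ↘ Spec (CommRingCat.of K)) δ (fun _ => 0))
    (hdim : topologicalKrullDim X ≤ 1) {x : X} (hx : δ x = 1) :
    closure ({x} : Set X) ∈ irreducibleComponents (X : Type u) := by
  refine ⟨isIrreducible_singleton.closure, fun T hT hle => ?_⟩
  obtain ⟨y, hy⟩ := QuasiSober.sober hT.closure isClosed_closure
  have hyx : y ⤳ x := hy.specializes (subset_closure (hle (subset_closure rfl)))
  have : x = y := by
    by_contra hne
    have h1 := WeilLib.pdim_lt (X ↘ Spec (CommRingCat.of K)) hyx hne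
    have h2 := delta_le_one K hδ hdim y
    rw [(CycK0.delta_height K hδ y).1] at h2
    rw [(CycK0.delta_height K hδ x).1] at hx
    omega
  intro z hz
  rw [this, hy.def]
  exact subset_closure hz

theorem closure_dim_iff (hδ : Cyc.DeltaCompat (X ↘ Spec (CommRingCat.of K)) δ (fun _ => 0)) (x : X) :
    topologicalKrullDim (closure ({x} : Set X)) = 1 ↔ δ x = 1 := by
  rw [(CycK0.delta_height K hδ x).2, (CycK0.delta_height K hδ x).1]
  constructor
  · intro h
    exact_mod_cast (show WeilCoh.pdim X x = 1 by exact_mod_cast h)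
  · intro h
    exact_mod_cast (show WeilCoh.pdim X x = 1 by exact_mod_cast h)

theorem finite_dimOne (hδ : Cyc.DeltaCompat (X ↘ Spec (CommRingCat.of K)) δ (fun _ => 0))
    (hdim : topologicalKrullDim X ≤ 1) : {x : X | δ x = 1}.Finite := by
  haveI := isNoetherian_of_proper K X
  refine Set.Finite.of_finite_image (f := fun x => closure ({x} : Set X)) ((NoetherianSpace.finite_irreducibleComponents
    (α := X)).subset ?_) fun x _ y _ h => ?_
  · rintro _ ⟨x, hx, rfl⟩
    exact closure_mem_components K hδ hdim hx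
  · exact IsGenericPoint.eq (S := closure {x}) isGenericPoint_closure h.symm

/-- The one dimensional fundamental class. -/
theorem cy_fund (hδ : Cyc.DeltaCompat (X ↘ Spec (CommRingCat.of K)) δ (fun _ => 0))
    (hdim : topologicalKrullDim X ≤ 1) : Cy δ 1 (Cyc.subschemeFun δ 1 (𝟙 X)) := by
  haveI := isNoetherian_of_proper K X
  refine ⟨CycLim.mkCycle (Cyc.subschemeFun δ 1 (𝟙 X)) fun {U} _ => (finite_dimOne K hδ hdim).subset fun x hx =>
    by_contra fun h => hx.2 (if_neg h), rfl, fun x hx => if_neg hx⟩

/-- The defect of a sum over the points of dimension one. -/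
theorem D_structure_eq_sum (hδ : Cyc.DeltaCompat (X ↘ Spec (CommRingCat.of K)) δ (fun _ => 0))
    (hdim : topologicalKrullDim X ≤ 1) {r : ℕ} {E : X.Modules} (hE : FlatMod.IsFinLocFreeOfRank r E) :
    Curv2.deg K X E r = ∑ x ∈ (finite_dimOne K hδ hdim).toFinset,
      Multi.lenAt (Coh.structureModule X) x * Multi.D K r E (Devissage.A x) := by
  classical
  haveI := isNoetherian_of_proper K X
  haveI : Fintype (irreducibleComponents (X : Type u)) :=
    (NoetherianSpace.finite_irreducibleComponents (α := X)).fintype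
  have h := Multi.D_eq_compSum K r E hdim hE (Coh.structureModule X) RefStalk.isCoh_structureModule
  rw [Multi.D, euler_eq_of_iso (TMul.leftUnitIso E)] at h
  rw [Curv2.deg, h, Multi.compSum, ← Finset.sum_filter]
  have hgen : ∀ Z : irreducibleComponents (X : Type u), closure {Z.2.1.genericPoint} = Z.1 := fun Z =>
    (Z.2.1.isGenericPoint_genericPoint (isClosed_of_mem_irreducibleComponents _ Z.2)).def
  refine Finset.sum_bij (fun Z _ => Z.2.1.genericPoint) (fun Z hZ => ?_) (fun Z _ Z' _ e => ?_)
    (fun x hx => ?_) fun Z hZ => by rw [Multi.D_A K r E hE]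
  · rw [Set.Finite.mem_toFinset]
    refine (closure_dim_iff K hδ _).1 ?_
    rw [hgen]
    exact (Finset.mem_filter.1 hZ).2
  · exact Subtype.ext ((hgen Z).symm.trans ((congrArg (fun x => closure {x}) e).trans (hgen Z')))
  · rw [Set.Finite.mem_toFinset] at hx
    let Z : irreducibleComponents (X : Type u) := ⟨closure {x}, closure_mem_components K hδ hdim hx⟩
    refine ⟨Z, Finset.mem_filter.2 ⟨Finset.mem_univ _, (closure_dim_iff K hδ x).2 hx⟩, ?_⟩
    exact IsGenericPoint.eq (S := closure {x})
      (Z.2.1.isGenericPoint_genericPoint (isClosed_of_mem_irreducibleComponents _ Z.2)) isGenericPoint_closure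

/-- Degrees along a filtration by invertible modules. -/
theorem deg_filt {r : ℕ} {E : X.Modules} {L : Fin r → X.Modules} (hL : ∀ i, PicF.IsInvertible (L i)) (F : Filt E r L) :
    Curv2.deg K X E r = ∑ i : Fin r, Curv2.deg K X (L i) 1 := by
  haveI := isNoetherian_of_proper K X
  have hM := F.rank hL
  have hz : Curv2.euler K X (F.M 0) = 0 := by
    have hS : (ShortComplex.mk (𝟙 (F.M 0)) (0 : F.M 0 ⟶ F.M 0) (by simp)).ShortExact :=
      { exact := ShortComplex.exact_of_isZero_X₂ _ F.zero
        mono_f := inferInstance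
        epi_g := ⟨fun a b _ => F.zero.eq_of_src a b⟩ }
    have h := euler_add (k := K) hS (isCoh_of_rank (hM 0)) (isCoh_of_rank (hM 0)) (isCoh_of_rank (hM 0))
    change Curv2.euler K X (F.M 0) = Curv2.euler K X (F.M 0) + Curv2.euler K X (F.M 0) at h
    omega
  have key : ∀ m : Fin (r + 1), Curv2.deg K X (F.M m) (m : ℕ) =
      ∑ i ∈ Finset.univ.filter (fun i : Fin r => (i : ℕ) < (m : ℕ)), Curv2.deg K X (L i) 1 := by
    refine Fin.induction ?_ fun i ih => ?_
    · rw [Curv2.deg, hz]
      simp
    · have h := Easy.deg_add (k := K) _ (F.exact i) (hM i.castSucc) (hM i.succ)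
        (isFinLocFreeOfRank_one (hL i)) (by simp)
      have hf : Finset.univ.filter (fun j : Fin r => (j : ℕ) < (i.succ : ℕ)) =
          insert i (Finset.univ.filter fun j : Fin r => (j : ℕ) < (i.castSucc : ℕ)) := by
        ext j
        simp only [Finset.mem_filter, Finset.mem_univ, true_and, Finset.mem_insert, Fin.val_succ, Fin.val_castSucc,
          Fin.ext_iff]
        omega
      rw [hf, Finset.sum_insert (by simp), ← ih, h]
      ring
  have h := key (Fin.last r)
  rw [Fin.val_last, Curv2.deg, euler_eq_of_iso F.top] at h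
  rw [Curv2.deg, h, Finset.filter_true_of_mem fun i _ => i.isLt]

/-- The degree formula for a module with a filtration by invertible modules, on an integral curve. -/
theorem degT_cT_integral [IsIntegral X] (hδ : Cyc.DeltaCompat (X ↘ Spec (CommRingCat.of K)) δ (fun _ => 0))
    (hdim : topologicalKrullDim X ≤ 1) {r : ℕ} {E : X.Modules} {L : Fin r → X.Modules}
    (hL : ∀ i, PicF.IsInvertible (L i)) (F : Filt E r L) {P : Scheme.{u}} {p : P ⟶ X} [IsProper p] {δP : P → ℤ}
    {O : P.Modules} (hB : Bundle p δ δP E O r) :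
    degT K hδ (cT hB 1 (ofT (cy_fund K hδ hdim))) = Curv2.deg K X E r := by
  classical
  have hX := CycK0.isSetup_of_deltaCompat K hδ
  haveI := hX.1
  have h := (HasRoots.of_filt (hX := hX) hL F).2.2 P p inferInstance O δP hB 1
  rw [h, deg_filt K hL F]
  have he : ∀ s : Multiset (c1Ring hX), s.esymm 1 = s.sum := fun s => by
    simp [Multiset.esymm, Multiset.powersetCard_one, Multiset.map_map, Function.comp_def]
  rw [he]
  show degT K hδ (((∑ i : Fin r, c1R hX (hL i) : c1Ring hX) : AddMonoid.End (Tot δ)) _) = _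
  rw [AddSubmonoidClass.coe_finsetSum]
  erw [AddMonoidHom.finsetSum_apply]
  rw [map_sum]
  refine Finset.sum_congr rfl fun i _ => ?_
  obtain ⟨v, hv⟩ := exists_sections (hL i)
  have h1 : Cy δ (0 + 1) (Cyc.subschemeFun δ 1 (𝟙 X)) := by rw [zero_add]; exact cy_fund K hδ hdim
  show degT K hδ (c1T hX (hL i) (ofT _)) = _
  rw [ofT_congr' (cy_fund K hδ hdim) h1 (zero_add 1).symm, c1T_ofT hX (hL i) hv h1,
    S1928.result K X hdim δ hδ (L i) (hL i) v hv]
  refine (degT_mk K hδ _).trans ?_
  show CycK0.degFun K (sgl 0 _ 0) = _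
  rw [sgl_self]
  rfl

set_option maxHeartbeats 1000000 in
/-- The formula on one component, up to the degree of a covering curve. -/
theorem D_A_eq_degT (hδ : Cyc.DeltaCompat (X ↘ Spec (CommRingCat.of K)) δ (fun _ => 0))
    (hdim : topologicalKrullDim X ≤ 1) {r : ℕ} {E : X.Modules} {P : Scheme.{u}} {p : P ⟶ X} [IsProper p]
    {δP : P → ℤ} {O : P.Modules} (hB : Bundle p δ δP E O r) {ξ : X} (hξ : δ ξ = 1)
    (hs : Cy δ 1 fun x => @ite ℤ (x = ξ) (Classical.propDecidable _) 1 0) :
    Multi.D K r E (Devissage.A ξ) = degT K hδ (cT hB 1 (ofT hs)) := by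
  classical
  have hX := CycK0.isSetup_of_deltaCompat K hδ
  haveI := hX.1
  haveI := isNoetherian_of_proper K X
  haveI : Fintype (irreducibleComponents (X : Type u)) :=
    (NoetherianSpace.finite_irreducibleComponents (α := X)).fintype
  let cX := X ↘ Spec (CommRingCat.of K)
  obtain ⟨S, π, e, δS, hS, hsp, hπ, hR⟩ := exists_roots hX 1 (fun _ => E) (fun _ => r) fun _ => hB.rank
  haveI := hsp.proper
  haveI := hsp.flat
  obtain ⟨M, hM, ⟨F⟩, -⟩ := hR 0
  -- a point over `ξ` of the same dimension
  obtain ⟨s₀, hs₀⟩ : ∃ s : S, π s = ξ := by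
    by_contra! hne
    have hz : RZ δS (1 + e) (Cyc.pullFun π δS δ e fun x => @ite ℤ (x = ξ) (Classical.propDecidable _) 1 0) := by
      refine RZ.zero.eq (funext fun y => ?_)
      unfold Cyc.pullFun
      split
      · show (0 : ℤ) = (@ite ℤ (π y = ξ) (Classical.propDecidable _) 1 0) * _
        rw [if_neg (hne y), zero_mul]
      · rfl
    have h0 := congrFun (rz_top (delta_le_one K hδ hdim) (hsp.descend hX hS hπ hs hz)) ξ
    simp at h0
  let cF := π.fiberToSpecResidueField ξ
  haveI : LocallyOfFiniteType cF :=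
    inferInstanceAs (LocallyOfFiniteType (pullback.snd π (X.fromSpecResidueField ξ)))
  haveI : JacobsonSpace (π.fiber ξ) := LocallyOfFiniteType.jacobsonSpace cF
  obtain ⟨w, hw⟩ : ∃ w : π.fiber ξ, π.fiberι ξ w = s₀ := by
    have : s₀ ∈ π ⁻¹' {ξ} := hs₀
    rwa [← Scheme.Hom.range_fiberι] at this
  obtain ⟨w', -, hw'⟩ := CycDim.exists_closed w
  let c : S := π.fiberι ξ w'
  have hcξ : π c = ξ := by
    have : c ∈ Set.range (π.fiberι ξ) := ⟨w', rfl⟩
    rwa [Scheme.Hom.range_fiberι] at this
  have hc : δS c = 1 := by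
    rw [CycAff.delta_fiber π hπ ξ w', hξ]
    have : WeilCoh.pdim (π.fiber ξ) w' = 0 := (WeilLib.pdim_eq_zero_iff cF w').2 hw'
    show (WeilCoh.pdim (π.fiber ξ) w' : ℤ) + 1 = 1
    rw [this]; rfl
  -- the covering curve
  letI : S.Over (Spec (CommRingCat.of K)) := ⟨π ≫ cX⟩
  haveI : IsProper (S ↘ Spec (CommRingCat.of K)) := inferInstanceAs (IsProper (π ≫ cX))
  have hδS : Cyc.DeltaCompat (S ↘ Spec (CommRingCat.of K)) δS (fun _ => 0) := deltaCompat_trans hπ hδ
  let C := (Scheme.IdealSheafData.vanishingIdeal (Devissage.Zc c)).subscheme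
  haveI : IsIntegral C := Devissage.Zi_isIntegral c
  let i : C ⟶ S := Devissage.Zi c
  let g : C ⟶ X := i ≫ π
  letI : C.Over (Spec (CommRingCat.of K)) := ⟨g ≫ cX⟩
  haveI : IsClosedImmersion i := inferInstanceAs (IsClosedImmersion (Devissage.Zi c))
  haveI : IsProper g := inferInstanceAs (IsProper (i ≫ π))
  haveI : IsProper (C ↘ Spec (CommRingCat.of K)) := inferInstanceAs (IsProper (g ≫ cX))
  let δC : C → ℤ := fun z => δS (i z)
  have hgδ : Cyc.DeltaCompat g δC δ := deltaCompat_trans (CycPush.deltaCompat_preimmersion i δS) hπ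
  have hδC : Cyc.DeltaCompat (C ↘ Spec (CommRingCat.of K)) δC (fun _ => 0) := deltaCompat_trans hgδ hδ
  haveI := isNoetherian_of_proper K C
  let η := genericPoint C
  have hiη : i η = c := Devissage.genericPoint_Zi c
  have hη : δC η = 1 := (congrArg δS hiη).trans hc
  have hgη : g η = ξ := (congrArg π hiη).trans hcξ
  have hdimC : topologicalKrullDim C = 1 := by
    have h := (closure_dim_iff K hδC η).2 hη
    rwa [(genericPoint_spec C).def, show topologicalKrullDim (Set.univ : Set C) = topologicalKrullDim C from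
      (Homeomorph.Set.univ C).isHomeomorph.topologicalKrullDim_eq] at h
  have hlt : ∀ w : C, w ≠ η → IsClosed ({w} : Set C) := fun w hne => by
    have h1 : WeilCoh.pdim C w < WeilCoh.pdim C η :=
      WeilLib.pdim_lt (C ↘ Spec (CommRingCat.of K)) ((genericPoint_spec C).specializes (Set.mem_univ w)) hne
    have h2 : (1 : ℤ) = (WeilCoh.pdim C η : ℤ) := hη.symm.trans (CycK0.delta_height K hδC η).1
    exact (WeilLib.pdim_eq_zero_iff (C ↘ Spec (CommRingCat.of K)) w).1 (by omega)
  have hover : ∀ w : C, g w = ξ → w = η := fun w hwξ => by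
    by_contra hne
    have hcl := g.isClosedMap _ (hlt w hne)
    rw [Set.image_singleton, hwξ] at hcl
    have := (WeilLib.pdim_eq_zero_iff cX ξ).2 hcl
    rw [(CycK0.delta_height K hδ ξ).1, this] at hξ
    simp at hξ
  haveI : IsFinite g := by
    haveI : LocallyQuasiFinite g := LocallyQuasiFinite.of_finite_preimage_singleton g fun x => by
      by_cases hxξ : x = ξ
      · subst hxξ
        exact (Set.finite_singleton η).subset fun w hw => hover w hw
      · by_cases hfib : (g ⁻¹' {x}).Nonempty
        · haveI : T1Space (g ⁻¹' {x} : Set C) := ⟨fun w => by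
            have hne : (w : C) ≠ η := fun e => hxξ (by rw [← show g w = x from w.2, e, hgη])
            have := (hlt _ hne).preimage (continuous_subtype_val (p := fun y => y ∈ g ⁻¹' {x}))
            have e : Subtype.val ⁻¹' ({(w : C)} : Set C) = ({w} : Set (g ⁻¹' {x} : Set C)) := by
              ext y; simp [Subtype.ext_iff]
            rwa [e] at this⟩
          haveI : QuasiSober (g ⁻¹' {x} : Set C) := by
            have hcl : IsClosed (g ⁻¹' {x} : Set C) := by
              obtain ⟨w, hw⟩ := hfib
              have := g.isClosedMap _ (hlt w fun e => hxξ (by rw [← show g w = x from hw, e, hgη]))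
              rw [Set.image_singleton, show g w = x from hw] at this
              exact this.preimage g.continuous
            exact hcl.isClosedEmbedding_subtypeVal.quasiSober
          haveI : Finite (g ⁻¹' {x} : Set C) := by
            rw [← Set.finite_univ_iff, ← sUnion_irreducibleComponents]
            refine (NoetherianSpace.finite_irreducibleComponents (α := (g ⁻¹' {x} : Set C))).sUnion fun T hT => ?_
            obtain ⟨y, hy⟩ := QuasiSober.sober hT.1 (isClosed_of_mem_irreducibleComponents T hT)
            rw [← hy.def, closure_singleton]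
            exact Set.finite_singleton y
          exact Set.toFinite _
        · rw [Set.not_nonempty_iff_eq_empty.1 hfib]; exact Set.finite_empty
    exact IsFinite.of_isProper_of_locallyQuasiFinite g
  let d := g.residueDegree η
  have hd : 0 < d := Nat.pos_of_ne_zero
    (Rigid.residueDegree_ne_zero_of_quasiFiniteAt g (g.quasiFiniteAt _))
  -- left hand side
  let G := (Scheme.Modules.pushforward g).obj (Coh.structureModule C)
  have hOC : Coh.IsCoh (Coh.structureModule C) := RefStalk.isCoh_structureModule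
  have hG : Coh.IsCoh G := Intersect.isCoh_push' g hOC
  have hbij := Intersect.pushStalk_bijective_of_fibre g g.isClosedMap (Coh.structureModule C)
    (Groth.Agent.QC.isClosed_support hOC.2) η fun w hw => hover w (hw.1.trans hgη)
  have hlen : Multi.lenAt G ξ = (d : ℤ) := by
    have h := Intersect.lenAt_push_generic g hbij
    rw [hgη] at h
    exact h
  have hEC := Multi.isFinLocFreeOfRank_pullback g hB.rank
  have hDG : Multi.D K r E G = Curv2.deg K C ((Scheme.Modules.pullback g).obj E) r := by
    obtain ⟨q⟩ := Groth.Agent.S0927.result g (Coh.structureModule C) E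
      (fun x => let ⟨U, h1, h2⟩ := hB.rank x; ⟨U, r, h1, h2⟩) 0
    let z := fun H : C.Modules => asIso ((Scheme.Modules.pushforward g).toRightDerivedZero.app H)
    let q' : CohB1.tensorMod G E ≅ (Scheme.Modules.pushforward g).obj ((Scheme.Modules.pullback g).obj E) :=
      TMul.commIso _ _ ≪≫ PicGrp.tensorModIso (Iso.refl E) (z _) ≪≫ q ≪≫ (z _).symm ≪≫
        (Scheme.Modules.pushforward g).mapIso (TMul.commIso _ _ ≪≫ TMul.leftUnitIso _)
    rw [Multi.D, euler_eq_of_iso q', EulerMult.euler_push_affine g rfl _ (isCoh_of_rank hEC).1,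
      EulerMult.euler_push_affine g rfl _ hOC.1, Curv2.deg]
  have hsuppG : CohB1.support G ⊆ closure {ξ} := by
    refine (Intersect.support_push_subset g (T := Set.univ) (g.isClosedMap _ isClosed_univ) (Set.subset_univ _)).trans ?_
    rw [Set.image_univ, ← hgη]
    rintro _ ⟨w, rfl⟩
    exact specializes_iff_mem_closure.1 (((genericPoint_spec C).specializes (Set.mem_univ w)).map g.continuous)
  have hDG' : Multi.D K r E G = (d : ℤ) * Multi.D K r E (Devissage.A ξ) := by
    rw [Multi.D_eq_compSum K r E hdim hB.rank G hG, Multi.compSum,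
      Finset.sum_eq_single_of_mem ⟨closure {ξ}, closure_mem_components K hδ hdim hξ⟩ (Finset.mem_univ _)]
    · have hg : (⟨closure {ξ}, closure_mem_components K hδ hdim hξ⟩ : irreducibleComponents (X : Type u)).2.1.genericPoint = ξ :=
        IsGenericPoint.eq (S := closure {ξ})
          ((closure_mem_components K hδ hdim hξ).1.isGenericPoint_genericPoint isClosed_closure) isGenericPoint_closure
      simp only [hg]
      rw [if_pos ((closure_dim_iff K hδ ξ).2 hξ), hlen, Multi.D_A K r E hB.rank]
    · intro Z _ hne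
      rw [Multi.lenAt_eq_zero (fun h => hne (Subtype.ext ?_)), zero_mul, ite_self]
      have hgen := (Z.2.1.isGenericPoint_genericPoint (isClosed_of_mem_irreducibleComponents _ Z.2)).def
      have hsub : Z.1 ⊆ closure {ξ} := by
        rw [← hgen]
        exact closure_minimal (Set.singleton_subset_iff.2 (hsuppG h)) isClosed_closure
      exact hsub.antisymm (Z.2.2 isIrreducible_singleton.closure hsub)
  -- right hand side
  have hXC := CycK0.isSetup_of_deltaCompat K hδC
  obtain ⟨δQ, hQ, hQδ⟩ := exists_isSetup hXC (pullback.snd p g)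
  have hBC := hB.baseChange hXC g hgδ (pullback.snd p g) (pullback.fst p g) (.of_hasPullback _ _) hQ hQδ
  let φ : (Scheme.Modules.pullback i).obj ((Scheme.Modules.pullback π).obj E) ≅ (Scheme.Modules.pullback g).obj E :=
    (Scheme.Modules.pullbackComp i π).app E
  let FC : Filt ((Scheme.Modules.pullback g).obj E) r fun l => (Scheme.Modules.pullback i).obj (M l) :=
    { F.pullAny i hM with top := (F.pullAny i hM).top ≪≫ φ }
  have hint := degT_cT_integral K hδC hdimC.le (fun l => PicLoc.isInvertible_pullback i (hM l)) FC hBC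
  have hpush : pushT hX hXC g hgδ (ofT (cy_fund K hδC hdimC.le)) = (d : ℤ) • ofT hs := by
    rw [pushT_ofT, ← ofT_smul]
    refine ofT_congr _ _ (funext fun y => ?_)
    show ∑ᶠ w ∈ (g ⁻¹' {y} : Set C), Cyc.subschemeFun δC 1 (𝟙 C) w * (AlgebraicCycle.mapCoeff g δC δ w : ℤ) =
      (d : ℤ) * @ite ℤ (y = ξ) (Classical.propDecidable _) 1 0
    have hfund : ∀ w : C, w ≠ η → Cyc.subschemeFun δC 1 (𝟙 C) w = 0 := fun w hne => by
      refine if_neg fun h => ?_
      have h1 := (CycK0.delta_height K hδC w).1
      rw [h, (WeilLib.pdim_eq_zero_iff (C ↘ Spec (CommRingCat.of K)) w).2 (hlt w hne)] at h1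
      simp at h1
    by_cases hy : y = ξ
    · subst hy
      rw [if_pos rfl, mul_one]
      rw [finsum_mem_eq_sum_of_subset _ (t := {η})
        (fun w hw => by rw [Finset.coe_singleton]; exact hover w hw.1)
        (fun w hw => by rw [Finset.coe_singleton] at hw; rw [hw]; exact hgη), Finset.sum_singleton]
      rw [AlgebraicCycle.mapCoeff, if_pos (by rw [hgη, hη, hξ]), Cyc.subschemeFun, if_pos hη,
        show {z : C | (𝟙 C : C ⟶ C) z = η} = {η} from Set.ext fun z => Iff.rfl, finsum_mem_singleton]
      letI : Field (C.presheaf.stalk η) := inferInstanceAs (Field C.functionField)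
      rw [Module.length_eq_one (C.presheaf.stalk η) (C.presheaf.stalk η)]
      simp [d]
    · rw [if_neg hy, mul_zero]
      refine finsum_mem_eq_zero_of_forall_eq_zero fun w hw => ?_
      rw [hfund w fun e => hy (by rw [← show g w = y from hw, e, hgη]), zero_mul]
  have hfinal : (d : ℤ) * degT K hδ (cT hB 1 (ofT hs)) = Curv2.deg K C ((Scheme.Modules.pullback g).obj E) r := by
    rw [← smul_eq_mul, ← map_zsmul, ← map_zsmul, ← hpush, ← hint,
      ← degT_push K hδ hδC g rfl hgδ (cT hBC 1 (ofT (cy_fund K hδC hdimC.le))),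
      pushT_cT hX hXC g hgδ hB hBC (Iso.refl _)]
  exact mul_left_cancel₀ (by exact_mod_cast hd.ne' : (d : ℤ) ≠ 0) (by rw [← hDG', hDG, hfinal])

/-- The degree of a locally free module is the degree of its first Chern class. -/
theorem deg_eq_degT_cT (hδ : Cyc.DeltaCompat (X ↘ Spec (CommRingCat.of K)) δ (fun _ => 0))
    (hdim : topologicalKrullDim X ≤ 1) {r : ℕ} {E : X.Modules} {P : Scheme.{u}} {p : P ⟶ X} [IsProper p]
    {δP : P → ℤ} {O : P.Modules} (hB : Bundle p δ δP E O r) :
    Curv2.deg K X E r = degT K hδ (cT hB 1 (ofT (cy_fund K hδ hdim))) := by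
  classical
  haveI := isNoetherian_of_proper K X
  have hT := (finite_dimOne K hδ hdim)
  have hs : ∀ x : X, δ x = 1 → Cy δ 1 fun y => @ite ℤ (y = x) (Classical.propDecidable _) 1 0 := fun x hx =>
    cy_single x hx
  have hfund : ofT (cy_fund K hδ hdim) = ∑ x ∈ hT.toFinset.attach,
      Multi.lenAt (Coh.structureModule X) x.1 • ofT (hs x.1 (hT.mem_toFinset.1 x.2)) := by
    simp_rw [← ofT_smul]
    rw [Finset.sum_congr rfl (fun x _ => rfl)]
    unfold ofT
    rw [sum_mk]
    refine mkT_eq_iff.2 fun l => RZ.zero.eq (funext fun y => ?_)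
    simp only [AddSubgroup.val_finsetSum, Finset.sum_apply]
    by_cases hl : l = 1
    · subst hl
      simp only [sgl_self]
      rw [Finset.sum_attach hT.toFinset (fun x => Multi.lenAt (Coh.structureModule X) x * if y = x then 1 else 0)]
      simp only [mul_ite, mul_one, mul_zero, Finset.sum_ite_eq, Set.Finite.mem_toFinset, Set.mem_setOf_eq]
      unfold Cyc.subschemeFun
      split_ifs with h
      · rw [show {z : X | (𝟙 X : X ⟶ X) z = y} = {y} from Set.ext fun z => Iff.rfl, finsum_mem_singleton,
          Multi.lenAt, Multi.length_stalkUnit]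
        exact (sub_self _).symm
      · exact (sub_self 0).symm
    · simp only [sgl_ne hl, Finset.sum_const_zero, sub_self]
  rw [D_structure_eq_sum K hδ hdim hB.rank, hfund, map_sum, map_sum, ← Finset.sum_attach]
  refine Finset.sum_congr rfl fun x _ => ?_
  rw [map_zsmul, map_zsmul, D_A_eq_degT K hδ hdim hB (hT.mem_toFinset.1 x.2) (hs x.1 (hT.mem_toFinset.1 x.2)),
    smul_eq_mul]

end Groth.Agent.CycPB
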