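import Groth.Agent.CycPB.OpsPull
import Groth.Agent.CurveRR.TmapR
import Groth.Agent.KFlat.PullTensor
import Mathlib.RingTheory.Polynomial.Vieta

/-!
Chern roots of tensor products.
-/

set_option autoImplicit false
set_option linter.unusedSectionVars false
set_option linter.style.haveILetI false
set_option backward.isDefEq.respectTransparency false
set_option backward.isDefEq.respectTransparency.types false

universe u

open CategoryTheory CategoryTheory.Limits AlgebraicGeometry TopologicalSpace Opposite
open Groth.Agent.CohFinite (tmap tmap_zero tmap_comp)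
open scoped IsMulCommutative

noncomputable section

namespace Groth.Agent.CycPB

variable {X : Scheme.{u}} {δ : X → ℤ} {hX : Cyc.IsSetup X δ}

lemma isZero_tensorMod {M : X.Modules} (h : IsZero M) (F : X.Modules) : IsZero (CohB1.tensorMod M F) :=
  (IsZero.iff_id_eq_zero _).2 (by rw [← CohFinite.tmap_id, (IsZero.iff_id_eq_zero _).1 h, tmap_zero])

lemma exists_tensor_iso {M M' : X.Modules} (e : M ≅ M') (F : X.Modules) :
    Nonempty (CohB1.tensorMod M F ≅ CohB1.tensorMod M' F) := ⟨PicGrp.tensorModIso e (Iso.refl F)⟩

/-- A filtration tensored with an invertible module. -/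
theorem HasRoots.tensor_line {E : X.Modules} {r : ℕ} {L : Fin r → X.Modules} (hL : ∀ i, PicF.IsInvertible (L i))
    (F : Filt E r L) {N : X.Modules} (hN : PicF.IsInvertible N) :
    HasRoots hX (CohB1.tensorMod E N) r (Finset.univ.val.map fun i => c1R hX (hL i) + c1R hX hN) := by
  have hfr : CurveRR.HasFrames N := fun {U x} h => CurveRR.hasFrames_of_rank (CurveRR.isFinLocFreeOfRank_one hN) h
  let G : Filt (CohB1.tensorMod E N) r fun i => CohB1.tensorMod (L i) N :=
    { M := fun i => CohB1.tensorMod (F.M i) N
      zero := isZero_tensorMod F.zero N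
      top := PicGrp.tensorModIso F.top (Iso.refl N)
      a := fun i => tmap (F.a i) N
      b := fun i => tmap (F.b i) N
      comp := fun i => by rw [← tmap_comp, F.comp, tmap_zero]
      exact := fun i => CurveRR.shortExact_tmapR (S := ShortComplex.mk (F.a i) (F.b i) (F.comp i)) hfr (F.exact i) }
  have h := HasRoots.of_filt (hX := hX) (fun i => TMul.isInvertible_tensorMod (hL i) hN) G
  rw [Multiset.map_congr rfl fun i _ => (c1R_tensor hX (hL i) hN).symm]
  exact h

/-- Two filtered modules. -/
theorem HasRoots.tensor_filt : ∀ {r : ℕ} {E : X.Modules} {L : Fin r → X.Modules} (hL : ∀ i, PicF.IsInvertible (L i))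
    (_ : Filt E r L) {s : ℕ} {F : X.Modules} {N : Fin s → X.Modules} (hN : ∀ i, PicF.IsInvertible (N i))
    (_ : Filt F s N),
    HasRoots hX (CohB1.tensorMod E F) (r * s)
      ((Finset.univ.val.map fun i => c1R hX (hL i)).bind fun x =>
        Finset.univ.val.map fun j => x + c1R hX (hN j))
  | 0, E, L, hL, F₁, s, F, N, hN, F₂ => by
    have hz : IsZero (CohB1.tensorMod E F) := isZero_tensorMod (IsZero.of_iso F₁.zero F₁.top.symm) F
    have h0 : FlatMod.IsFinLocFreeOfRank 0 (CohB1.tensorMod E F) := fun x => by
      obtain ⟨U, -, hxU, -⟩ := exists_isAffineOpen_mem_and_subset (U := (⊤ : X.Opens)) (x := x) trivial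
      refine ⟨U, hxU, ⟨((Scheme.Modules.restrictFunctor U.ι).map_isZero hz).iso ?_⟩⟩
      rw [IsZero.iff_id_eq_zero]
      exact Sigma.hom_ext _ _ fun i => i.elim0
    rw [show (Finset.univ : Finset (Fin 0)).val = 0 from rfl, Multiset.map_zero, Multiset.zero_bind]
    convert HasRoots.zero (hX := hX) h0 using 1
    exact Nat.zero_mul s
  | n + 1, E, L, hL, F₁, s, F, N, hN, F₂ => by
    let F' : Filt (F₁.M (Fin.castSucc (Fin.last n))) n fun i => L (Fin.castSucc i) :=
      { M := fun i => F₁.M (Fin.castSucc i)
        zero := F₁.zero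
        top := Iso.refl _
        a := fun i => F₁.a (Fin.castSucc i)
        b := fun i => F₁.b (Fin.castSucc i)
        comp := fun i => F₁.comp _
        exact := fun i => F₁.exact _ }
    have hF : FlatMod.IsFinLocFreeOfRank s F := (HasRoots.of_filt (hX := hX) hN F₂).1
    have hfr : CurveRR.HasFrames F := fun {U x} h => CurveRR.hasFrames_of_rank hF h
    have hline : HasRoots hX (CohB1.tensorMod (L (Fin.last n)) F) s
        (Finset.univ.val.map fun j => c1R hX (hL (Fin.last n)) + c1R hX (hN j)) := by
      have h := (HasRoots.tensor_line (hX := hX) hN F₂ (hL (Fin.last n))).of_iso (TMul.commIso F (L (Fin.last n)))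
      simpa only [add_comm (c1R hX (hL (Fin.last n)))] using h
    have hrec := (HasRoots.tensor_filt (fun i => hL (Fin.castSucc i)) F' hN F₂).of_shortExact hline
      (tmap (F₁.a (Fin.last n)) F) (tmap (F₁.b (Fin.last n)) F)
      (by rw [← tmap_comp, F₁.comp, tmap_zero]) (CurveRR.shortExact_tmapR (S := ShortComplex.mk (F₁.a (Fin.last n)) (F₁.b (Fin.last n)) (F₁.comp _)) hfr (F₁.exact (Fin.last n)))
    have hrec' := hrec.of_iso (PicGrp.tensorModIso (show F₁.M (Fin.succ (Fin.last n)) ≅ E from F₁.top) (Iso.refl F))
    convert hrec' using 1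
    · exact Nat.succ_mul n s
    · rw [Fin.univ_castSuccEmb, Finset.cons_val, Finset.map_val, Multiset.map_cons, Multiset.map_map,
        Multiset.cons_bind, add_comm]
      rfl

/-- Shifting all roots. -/
theorem esymm_map_add {R : Type*} [CommRing R] (s : Multiset R) (y : R) {i : ℕ} (hi : i ≤ Multiset.card s) :
    (s.map (· + y)).esymm i =
      ∑ j ∈ Finset.range (i + 1), ((Nat.choose (Multiset.card s - i + j) j : ℕ) : R) * y ^ j * s.esymm (i - j) := by
  open Polynomial in
  have h1 : ((s.map (· + y)).map fun r => (Polynomial.X + Polynomial.C r)).prod =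
      ∑ l ∈ Finset.range (Multiset.card s + 1), Polynomial.C (s.esymm l) * (Polynomial.X + Polynomial.C y) ^
        (Multiset.card s - l) := by
    have h2 := congrArg (fun p => p.comp (Polynomial.X + Polynomial.C y)) (Multiset.prod_X_add_C_eq_sum_esymm s)
    simp only [Polynomial.multiset_prod_comp, Polynomial.sum_comp, Polynomial.mul_comp, Polynomial.C_comp,
      Polynomial.pow_comp, Polynomial.X_comp, Multiset.map_map, Function.comp_def, Polynomial.add_comp] at h2
    rw [← h2, Multiset.map_map]
    congr 1
    refine Multiset.map_congr rfl fun a _ => ?_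
    simp only [Function.comp_apply, map_add]
    ring
  have h3 := congrArg (fun p => p.coeff (Multiset.card s - i)) h1
  rw [Multiset.prod_X_add_C_coeff _ (by rw [Multiset.card_map]; omega)] at h3
  simp only [Multiset.card_map, Polynomial.finsetSum_coeff, Polynomial.coeff_C_mul, Polynomial.coeff_X_add_C_pow] at h3
  rw [show Multiset.card s - (Multiset.card s - i) = i by omega] at h3
  rw [h3, ← Finset.sum_range_reflect (fun j => ((Nat.choose (Multiset.card s - i + j) j : ℕ) : R) * y ^ j * s.esymm (i - j))
    (i + 1)]
  refine (Finset.sum_subset (Finset.range_subset_range.2 (by omega)) fun l hl hl' => ?_).symm.trans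
    (Finset.sum_congr rfl fun l hl => ?_)
  · rw [Nat.choose_eq_zero_of_lt (by
      have h5 := Finset.mem_range.1 hl
      have h6 : i < l := by simpa using hl'
      omega)]
    simp
  · have h5 := Finset.mem_range.1 hl
    rw [show i + 1 - 1 - l = i - l by omega, show i - (i - l) = l by omega,
      show Multiset.card s - l - (Multiset.card s - i) = i - l by omega,
      show Multiset.card s - l = Multiset.card s - i + (i - l) by omega, Nat.choose_symm_add]
    ring

end Groth.Agent.CycPB
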