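import Groth.Agent.CycPB.OpsApply

/-!
The first two symmetric functions of the roots of a tensor product.
-/

set_option autoImplicit false
set_option linter.unusedSectionVars false
set_option linter.style.haveILetI false
set_option backward.isDefEq.respectTransparency false
set_option backward.isDefEq.respectTransparency.types false

universe u

open CategoryTheory CategoryTheory.Limits AlgebraicGeometry TopologicalSpace Opposite
open scoped IsMulCommutative

noncomputable section

namespace Groth.Agent.CycPB

section
variable {R : Type*} [CommRing R]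

lemma esymm_one_cons (x : R) (u : Multiset R) : (x ::ₘ u).esymm 1 = x + u.esymm 1 := by
  simp [Multiset.esymm, Multiset.powersetCard_cons, Multiset.map_map, Function.comp_def,
    Multiset.sum_map_mul_left, Multiset.map_add, Multiset.sum_add]
  ring

lemma esymm_two_cons (x : R) (u : Multiset R) : (x ::ₘ u).esymm 2 = u.esymm 2 + x * u.esymm 1 := by
  simp [Multiset.esymm, Multiset.powersetCard_cons, Multiset.map_map, Function.comp_def,
    Multiset.sum_map_mul_left, Multiset.map_add, Multiset.sum_add]

lemma esymm_one_zero : (0 : Multiset R).esymm 1 = 0 := by simp [Multiset.esymm]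

lemma esymm_two_zero : (0 : Multiset R).esymm 2 = 0 := by simp [Multiset.esymm]

lemma esymm_zero' (u : Multiset R) : u.esymm 0 = 1 := by simp [Multiset.esymm]

lemma choose_two_cast (n : ℕ) : 2 * ((Nat.choose n 2 : ℕ) : R) = (n : R) * (n : R) - n := by
  induction n with
  | zero => simp
  | succ n ih =>
    rw [Nat.choose_succ_succ, Nat.choose_one_right]
    push_cast
    linear_combination ih

lemma esymm_one_shift (x : R) (b : Multiset R) :
    (b.map fun y => x + y).esymm 1 = b.esymm 1 + (Multiset.card b : R) * x := by
  induction b using Multiset.induction_on with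
  | empty => simp [esymm_one_zero]
  | cons y b ih =>
    rw [Multiset.map_cons, esymm_one_cons, esymm_one_cons, Multiset.card_cons, ih]
    push_cast
    ring

lemma esymm_two_shift (x : R) (b : Multiset R) :
    (b.map fun y => x + y).esymm 2 = b.esymm 2 + ((Multiset.card b : R) - 1) * x * b.esymm 1 +
      ((Nat.choose (Multiset.card b) 2 : ℕ) : R) * x ^ 2 := by
  induction b using Multiset.induction_on with
  | empty => simp [esymm_one_zero, esymm_two_zero]
  | cons y b ih =>
    rw [Multiset.map_cons, esymm_two_cons, esymm_two_cons, esymm_one_cons, Multiset.card_cons, ih, esymm_one_shift,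
      Nat.choose_succ_succ, Nat.choose_one_right]
    push_cast
    ring

/-- The first symmetric function of all sums of two roots. -/
lemma esymm_one_bind (a b : Multiset R) :
    (a.bind fun x => b.map fun y => x + y).esymm 1 =
      (Multiset.card a : R) * b.esymm 1 + (Multiset.card b : R) * a.esymm 1 := by
  induction a using Multiset.induction_on with
  | empty => simp [esymm_one_zero]
  | cons x a ih =>
    rw [Multiset.cons_bind, esymm_add, Finset.sum_range_succ, Finset.sum_range_one, esymm_zero', esymm_zero',
      esymm_one_cons, Multiset.card_cons, esymm_one_shift, ih]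
    push_cast
    ring

/-- The second symmetric function of all sums of two roots. -/
lemma esymm_two_bind (a b : Multiset R) :
    (a.bind fun x => b.map fun y => x + y).esymm 2 =
      (Multiset.card a : R) * b.esymm 2 + (Multiset.card b : R) * a.esymm 2 +
        ((Nat.choose (Multiset.card a) 2 : ℕ) : R) * (b.esymm 1 * b.esymm 1) +
        ((Multiset.card a : R) * (Multiset.card b : R) - 1) * (a.esymm 1 * b.esymm 1) +
        ((Nat.choose (Multiset.card b) 2 : ℕ) : R) * (a.esymm 1 * a.esymm 1) := by
  induction a using Multiset.induction_on with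
  | empty => simp [esymm_one_zero, esymm_two_zero]
  | cons x a ih =>
    rw [Multiset.cons_bind, esymm_add, Finset.sum_range_succ, Finset.sum_range_succ, Finset.sum_range_one,
      esymm_zero', esymm_zero', esymm_one_cons, esymm_two_cons, Multiset.card_cons, esymm_one_shift,
      esymm_two_shift, esymm_one_bind, ih, Nat.choose_succ_succ, Nat.choose_one_right]
    push_cast
    linear_combination (-(x * a.esymm 1)) * choose_two_cast (R := R) (Multiset.card b)

end

variable {X P : Scheme.{u}} {δ : X → ℤ} {δP : P → ℤ}

/-- A component of a Chern tuple, zero beyond the rank, is a cycle of the expected dimension. -/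
lemma mem_Zk_dite {p : P ⟶ X} [IsProper p] {O : P.Modules} {r : ℕ} {k : ℤ} {α : AlgebraicCycle X ℤ}
    {γ : Fin (r + 1) → AlgebraicCycle X ℤ} (hγ : Cyc.IsChernCap p δ δP O r k α γ) (j : ℕ) :
    (if h : j ≤ r then γ ⟨j, Nat.lt_succ_of_le h⟩ else 0) ∈ Cyc.Zk X δ (k - (j : ℤ)) := by
  split_ifs with h
  · exact hγ.2.1 ⟨j, Nat.lt_succ_of_le h⟩
  · exact fun _ _ => rfl

theorem clT_dite {p : P ⟶ X} [IsProper p] {E : X.Modules} {O : P.Modules} {r : ℕ} (hB : Bundle p δ δP E O r) {k : ℤ}
    {α : AlgebraicCycle X ℤ} (hα : α ∈ Cyc.Zk X δ k) {γ : Fin (r + 1) → AlgebraicCycle X ℤ}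
    (hγ : Cyc.IsChernCap p δ δP O r k α γ) (j : ℕ) :
    clT (mem_Zk_dite hγ j) = cT hB j (clT hα) := by
  by_cases h : j ≤ r
  · refine Eq.trans ?_ (cT_clT hB hα hγ ⟨j, Nat.lt_succ_of_le h⟩).symm
    exact ofT_congr _ _ (congrArg _ (dif_pos h))
  · rw [cT_of_lt hB (by omega)]
    exact (ofT_congr _ Cy.zero (congrArg _ (dif_neg h))).trans (ofT_zero _)

end Groth.Agent.CycPB
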