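import Groth.Agent.CycPB.ProjFree

/-!
A chart of a bundle over an open where the module is free is the projective bundle there.
-/

set_option autoImplicit false
set_option linter.style.haveILetI false
set_option linter.unusedSectionVars false
set_option backward.isDefEq.respectTransparency false
set_option backward.isDefEq.respectTransparency.types false

universe u

open CategoryTheory CategoryTheory.Limits AlgebraicGeometry TopologicalSpace Opposite
open Groth.Agent.QC (res res_res res_self app_res)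

noncomputable section

namespace Groth.Agent.CycPB

variable {X P : Scheme.{u}} {E : X.Modules}

/-- A basis over an affine open trivialises the pull back to its spectrum. -/
theorem exists_free_iso (hq : Coh.IsQCoh E) {U : X.Opens} (hU : IsAffineOpen U) {m : ℕ}
    (b : Module.Basis (Fin m) Γ(X, U) Γ(E, U)) :
    ∃ (h : (⊤ : (Spec Γ(X, U)).Opens) ≤ hU.fromSpec ⁻¹ᵁ U)
      (θ : FlatMod.freeMod (Spec Γ(X, U)) m ≅ (Scheme.Modules.pullback hU.fromSpec).obj E),
      ∀ i, θ.hom.app ⊤ (PBundle.bv (Spec Γ(X, U)) i) =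
        res ((Scheme.Modules.pullback hU.fromSpec).obj E) h (OmegaSh.pullSect hU.fromSpec E U (b i)) := by
  classical
  have h : (⊤ : (Spec Γ(X, U)).Opens) ≤ hU.fromSpec ⁻¹ᵁ U := by rw [hU.fromSpec_preimage_self]
  let M := (Scheme.Modules.pullback hU.fromSpec).obj E
  let F := FlatMod.freeMod (Spec Γ(X, U)) m
  let c : Fin m → Γ(M, ⊤) := fun i => res M h (OmegaSh.pullSect hU.fromSpec E U (b i))
  have hb : TMul.IsFrame fun i => b i := PBundle.isFrame_of_bijective hq hU (by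
    rw [show (fun a : Fin m → Γ(X, U) => ∑ i, a i • b i) = b.equivFun.symm from
      funext fun a => (b.equivFun_symm_apply a).symm]
    exact b.equivFun.symm.bijective)
  have hc : TMul.IsFrame c := W7Strat.isFrame_res (hb.pullback hU.fromSpec) h
  have hfree : TMul.IsFrame (N := F) (U := (⊤ : (Spec Γ(X, U)).Opens)) (PBundle.bv (Spec Γ(X, U))) :=
    W7Strat.isFrame_freeMod (Spec Γ(X, U)) m
  obtain ⟨f, hf⟩ := PBundle.exists_hom_frame (N := M) hfree rfl c
  obtain ⟨g, hg⟩ := PBundle.exists_hom_frame (N := F) hc rfl (PBundle.bv (Spec Γ(X, U)))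
  refine ⟨h, ⟨f, g, PBundle.hom_ext_frame hfree rfl fun i => ?_, PBundle.hom_ext_frame hc rfl fun i => ?_⟩, hf⟩
  · show g.app ⊤ (f.app ⊤ _) = _
    rw [hf, hg]
    rfl
  · show f.app ⊤ (g.app ⊤ _) = _
    rw [hg, hf]
    rfl

variable {𝒮 : RelProj.QCGrAlg X} {j : E ⟶ 𝒮.toModule} {p : P ⟶ X}
  {chart : ∀ (U : X.Opens) (hU : IsAffineOpen U), (((p ⁻¹ᵁ U : P.Opens) : Scheme.{u}) ≅ Proj (𝒮.deg U hU))}
  {O1 : P.Modules}
  {lam : ∀ (U : X.Opens) (hU : IsAffineOpen U),
    O1 ⟶ (Scheme.Modules.pushforward (RelProj.emb p chart U hU)).obj (GrTwist.twist (𝒮.deg U hU) 1)}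
  {φ : E ⟶ (Scheme.Modules.pushforward p).obj O1}

/-- Over an open where the module is free, the bundle is a projective bundle. -/
theorem isProjBundle_chart (hq : Coh.IsQCoh E) (hS : RelProj.IsGrSymAlg E 𝒮 j)
    (hP : RelProj.IsRelProj 𝒮 p chart) (hO : PicF.IsInvertible O1)
    (hφ : ∀ (U : X.Opens) (hU : IsAffineOpen U) (e : Γ(E, U))
      (y : ↥(RelProj.emb p chart U hU ⁻¹ᵁ (p ⁻¹ᵁ U))),
      GrTwist.val (V := RelProj.emb p chart U hU ⁻¹ᵁ (p ⁻¹ᵁ U))
          ((lam U hU).app (p ⁻¹ᵁ U) ((φ.app U) e)) y =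
        algebraMap (𝒮.presheaf.obj (op U)) (GrTwist.Loc (𝒮.deg U hU) y.1)
          ((j.app U) e : 𝒮.presheaf.obj (op U)))
    {U : X.Opens} (hU : IsAffineOpen U) {n : ℕ} (b : Module.Basis (Fin (n + 1)) Γ(X, U) Γ(E, U)) :
    ∃ (Φ : CohB1.ProjSpace n Γ(X, U) ⟶ P)
      (sq : IsPullback Φ (CohB1.ProjSpace.toSpec n Γ(X, U)) p hU.fromSpec),
      KRR.IsProjBundle (CohB1.ProjSpace.toSpec n Γ(X, U)) ((Scheme.Modules.pullback hU.fromSpec).obj E)
        ((Scheme.Modules.pullback Φ).obj O1)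
        (PBundle.bcQuot (((Scheme.Modules.pullbackPushforwardAdjunction p).homEquiv E O1).symm φ) sq) := by
  obtain ⟨Φ, θ, sq, hθ⟩ := exists_coord_chart hq hS hP hφ hU b
  obtain ⟨h, σ, hσ⟩ := exists_free_iso hq hU b
  let π := CohB1.ProjSpace.toSpec n Γ(X, U)
  let T := Twist.twistProjSpace n Γ(X, U) 1
  let a := ((Scheme.Modules.pullbackPushforwardAdjunction p).homEquiv E O1).symm φ
  let Q := PBundle.bcQuot a sq
  let e₀ : (Scheme.Modules.pullback Φ).obj O1 ⟶ T :=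
    ((Scheme.Modules.pullbackPushforwardAdjunction Φ).homEquiv _ _).symm θ
  have he₀ : ∀ (W : P.Opens) (s : Γ(O1, W)), e₀.app (Φ ⁻¹ᵁ W) (OmegaSh.pullSect Φ O1 W s) = θ.app W s :=
    fun W s => by
      have h1 := ((Scheme.Modules.pullbackPushforwardAdjunction Φ).homEquiv_unit O1 T e₀).symm.trans
        (Equiv.apply_symm_apply _ θ)
      exact congr(($h1).app W s)
  have ha : ∀ s : Γ(E, U), PBundle.sec' p a U s = φ.app U s := fun s => by
    have h1 := ((Scheme.Modules.pullbackPushforwardAdjunction p).homEquiv_unit E O1 a).symm.trans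
      (Equiv.apply_symm_apply _ φ)
    exact congr(($h1).app U s)
  let z := PBundle.mk π fun i => ProjUP.coord n Γ(X, U) i
  have hT : PicF.IsInvertible T := CohFinite.isInvertible_twist n _ 1
  have hkey : (Scheme.Modules.pullback π).map σ.hom ≫ Q ≫ e₀ = z := by
    refine PBundle.ext_sec π fun i => ?_
    rw [PBundle.sec_mk]
    have h1 : PBundle.sec π ((Scheme.Modules.pullback π).map σ.hom ≫ Q ≫ e₀) i =
        (Q ≫ e₀).app ⊤ (OmegaSh.pullSect π _ ⊤ (σ.hom.app ⊤ (PBundle.bv (Spec Γ(X, U)) i))) :=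
      congrArg ((Q ≫ e₀).app ⊤) (QC.app_pullSect π σ.hom ⊤ (PBundle.bv (Spec Γ(X, U)) i))
    refine h1.trans ?_
    rw [hσ, PBundle.pullSect_res]
    refine (app_res (Q ≫ e₀) (π.preimage_mono h) _).symm.trans ?_
    have h2 : (Q ≫ e₀).app (π ⁻¹ᵁ (hU.fromSpec ⁻¹ᵁ U))
        (OmegaSh.pullSect π _ (hU.fromSpec ⁻¹ᵁ U) (OmegaSh.pullSect hU.fromSpec E U (b i))) =
        PBundle.sec' (π ≫ hU.fromSpec) ((Scheme.Modules.pullbackComp π hU.fromSpec).inv.app E ≫ Q ≫ e₀) U (b i) :=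
      (PBundle.sec'_iter (Q ≫ e₀) U (b i)).symm
    have hcan : (Scheme.Modules.pullbackComp π hU.fromSpec).inv.app E ≫ Q ≫ e₀ = PBundle.bc a Φ sq.w e₀ := by
      show _ ≫ ((Scheme.Modules.pullbackComp π hU.fromSpec).hom.app E ≫ PBundle.bc a Φ sq.w (𝟙 _)) ≫ e₀ = _
      rw [Category.assoc, Iso.inv_hom_id_app_assoc]
      simp [PBundle.bc]
    rw [hcan] at h2
    rw [h2]
    have h3 : ∀ (g : CohB1.ProjSpace n Γ(X, U) ⟶ X) (hg : Φ ≫ p = g) (l : ⊤ ≤ g ⁻¹ᵁ U),
        res T l (PBundle.sec' g (PBundle.bc a Φ hg e₀) U (b i)) = ProjUP.coord n Γ(X, U) i := by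
      intro g hg l
      subst hg
      rw [PBundle.sec'_bc, ha, he₀]
      exact hθ l i
    exact h3 _ sq.w _
  haveI : Epi z := (isProjBundle_projSpace n Γ(X, U)).epi
  haveI : Epi e₀ := by
    refine epi_of_epi_fac (f := (Scheme.Modules.pullback π).map σ.hom ≫ Q) (g := e₀) (h := z) ?_
    rw [Category.assoc]
    exact hkey
  haveI := W7Adic.isIso_of_epi_invertible (PicLoc.isInvertible_pullback Φ hO) hT e₀
  have hPB := isProjBundle_of_targetIso (PBundle.of_moduleIso (isProjBundle_projSpace n Γ(X, U)) σ.symm)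
    (asIso e₀).symm
  refine ⟨Φ, sq, ?_⟩
  convert hPB using 1
  show Q = ((Scheme.Modules.pullback π).map σ.inv ≫ z) ≫ inv e₀
  rw [← hkey]
  simp [← Functor.map_comp_assoc]

end Groth.Agent.CycPB
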