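import Groth.Agent.CycPB.Filt
import Groth.Agent.CycPB.ProjExist
import Groth.Agent.DCohLocus.FreeLocus
import Groth.Agent.RelPCS.FlatBase
import Groth.Agent.CycDim.PullComp
import Groth.Agent.CycDim.RelDim
import Groth.Agent.S9708
import Groth.Agent.S4452

/-!
The splitting principle: a tower of projective bundles.
-/

set_option autoImplicit false
set_option linter.style.haveILetI false
set_option linter.unusedSectionVars false
set_option backward.isDefEq.respectTransparency false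
set_option backward.isDefEq.respectTransparency.types false

universe u

open CategoryTheory CategoryTheory.Limits AlgebraicGeometry TopologicalSpace Opposite

noncomputable section

namespace Groth.Agent.CycPB

variable {X P P' W Z : Scheme.{u}} {δ : X → ℤ}

/-- Dimension functions along a composite. -/
theorem deltaCompat_trans {f : W ⟶ Z} {g : Z ⟶ X} {δW : W → ℤ} {δZ : Z → ℤ} (hf : Cyc.DeltaCompat f δW δZ)
    (hg : Cyc.DeltaCompat g δZ δ) : Cyc.DeltaCompat (f ≫ g) δW δ := fun x => by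
  obtain ⟨a, ha, hax⟩ := hf x
  obtain ⟨b, hb, hbx⟩ := hg (f x)
  refine ⟨b + a, ?_, ?_⟩
  · show CycK0.resTr (f ≫ g) x = ((b + a : ℕ) : Cardinal.{u})
    rw [CycK0.resTr_comp f g x, show CycK0.resTr g (f x) = (b : Cardinal.{u}) from hb,
      show CycK0.resTr f x = (a : Cardinal.{u}) from ha]
    push_cast
    rfl
  · show δW x = δ (g (f x)) + ((b + a : ℕ) : ℤ)
    omega

/-- Flat pull back along every base change is injective on classes. -/
def PullInj (π : P ⟶ X) (δ : X → ℤ) (d : ℕ) : Prop :=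
  ∀ (Y : Scheme.{u}) (f : Y ⟶ X) [LocallyOfFiniteType f] (δY : Y → ℤ), Cyc.IsSetup Y δY →
    Cyc.DeltaCompat f δY δ → ∀ (PY : Scheme.{u}) (πY : PY ⟶ Y) (g : PY ⟶ P), IsPullback g πY π f →
      ∀ δPY : PY → ℤ, Cyc.IsSetup PY δPY → Cyc.DeltaCompat πY δPY δY → ∀ (k : ℤ) (a : Y → ℤ), Cy δY k a →
        RZ δPY (k + d) (Cyc.pullFun πY δPY δY d a) → RZ δY k a

/-- The properties of the maps of the tower. -/
structure IsSplit (π : P ⟶ X) (δ : X → ℤ) (d : ℕ) : Prop where
  locProj : RelProj.IsLocallyProjective π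
  proper : IsProper π
  flat : Flat π
  relDim : Cyc.HasRelDim π d
  inj : PullInj π δ d

/-- Pull back along a projective bundle is injective. -/
theorem rz_of_pull {p : P ⟶ X} [IsProper p] {δP : P → ℤ} {E : X.Modules} {O : P.Modules} {n : ℕ}
    (hB : Bundle p δ δP E O (n + 1)) {k : ℤ} {a : X → ℤ} (ha : Cy δ k a)
    (h : RZ δP (k + n) (Cyc.pullFun p δP δ n a)) : RZ δ k a := by
  obtain ⟨t, ht⟩ := exists_sections hB.invertible
  have h1 := (h.pow hB.setupP hB.invertible (t := fun _ => t) (fun _ => ht) n)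
  rw [add_sub_cancel_right] at h1
  have h2 := h1.push p hB.setup hB.setupP hB.compat
  obtain ⟨A, rfl, hA⟩ := ha
  refine h2.eq (funext fun y => ?_)
  have h3 := push_c1Pow hB.setup hB.setupP hB.compat (hB.fibres.2 n rfl) hB.invertible A hA (fun _ => t) (fun _ => ht)
    n le_rfl y
  rw [if_pos rfl] at h3
  exact h3

theorem pullInj_bundle {p : P ⟶ X} [IsProper p] {E : X.Modules} {O : P.Modules}
    {q : (Scheme.Modules.pullback p).obj E ⟶ O} (hP : KRR.IsProjBundle p E O q) {n : ℕ}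
    (hE : FlatMod.IsFinLocFreeOfRank (n + 1) E) (hX : Cyc.IsSetup X δ) : PullInj p δ n := by
  intro Y f _ δY hY hf PY πY g hsq δPY hPY hπ k a ha h
  haveI : IsProper πY := MorphismProperty.of_isPullback hsq ‹IsProper p›
  obtain ⟨δP, hPs, hδ⟩ := exists_isSetup hX p
  have hB := (Bundle.baseChange (E := E) (O := O) (r := n + 1) ⟨hX, hPs, hδ, ⟨q, hP⟩, hE⟩ hY f hf πY g hsq hPY hπ)
  exact rz_of_pull hB ha h

theorem pullInj_id : PullInj (𝟙 X) δ 0 := by
  intro Y f _ δY hY hf PY πY g hsq δPY hPY hπ k a ha h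
  haveI : IsIso πY := hsq.isIso_snd_of_isIso
  have hd : ∀ u, δPY u = δY (πY u) := fun u => by
    obtain ⟨m, hm, hmu⟩ := hπ u
    have h0 : (m : Cardinal.{u}) = 0 := hm.symm.trans (resTr_pre πY u)
    have : m = 0 := by exact_mod_cast h0
    omega
  have hlen : ∀ u : PY, Module.length (PY.presheaf.stalk u) (PY.presheaf.stalk u ⧸
      Ideal.map (πY.stalkMap u).hom (IsLocalRing.maximalIdeal (Y.presheaf.stalk (πY u)))) = 1 := fun u => by
    let e := (asIso (πY.stalkMap u)).commRingCatIsoToRingEquiv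
    have : Ideal.map (πY.stalkMap u).hom (IsLocalRing.maximalIdeal (Y.presheaf.stalk (πY u))) =
        IsLocalRing.maximalIdeal (PY.presheaf.stalk u) := IsLocalRing.eq_maximalIdeal
      (Ideal.map_isMaximal_of_equiv e)
    rw [this, Module.length_eq_one_iff, isSimpleModule_iff_isCoatom]
    exact Ideal.IsMaximal.out
  have hv : ∀ u, Cyc.pullFun πY δPY δY 0 a u = a (πY u) := fun u => by
    unfold Cyc.pullFun
    rw [if_pos (by rw [hd, add_zero]), hlen]
    simp
  obtain ⟨A, hA, hAk, hA'⟩ := h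
  obtain ⟨B, rfl, hB⟩ := ha
  refine ⟨B, rfl, hB, ratEquivZero_of_iso πY (α := A) (δW := δPY) (fun x => (hd x).symm) ?_ fun u => ?_⟩
  · simpa using hA'
  · refine ((congrFun hA u).trans ?_).symm
    exact hv u

theorem pullInj_comp {π : P ⟶ X} [IsProper π] [Flat π] {π' : P' ⟶ P} [IsProper π'] [Flat π'] {d d' : ℕ}
    {δP : P → ℤ} (hδ : Cyc.DeltaCompat π δP δ) (hd : Cyc.HasRelDim π d) (hd' : Cyc.HasRelDim π' d')
    (h : PullInj π δ d) (h' : PullInj π' δP d') : PullInj (π' ≫ π) δ (d' + d) := by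
  intro Y f _ δY hY hf PY πY g hsq δPY hPY hπ k a ha hz
  haveI := hY.1
  let Q := pullback π f
  have sqQ : IsPullback (pullback.fst π f) (pullback.snd π f) π f := .of_hasPullback _ _
  obtain ⟨δQ, hQ, hδQ⟩ := exists_isSetup hY (pullback.snd π f)
  haveI := hQ.1
  let v : PY ⟶ Q := pullback.lift (g ≫ π') πY (by rw [Category.assoc]; exact hsq.w)
  have hv1 : v ≫ pullback.fst π f = g ≫ π' := pullback.lift_fst _ _ _
  have hv2 : v ≫ pullback.snd π f = πY := pullback.lift_snd _ _ _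
  have sqv : IsPullback g v π' (pullback.fst π f) :=
    IsPullback.of_bot (by rw [hv2]; exact hsq) hv1.symm sqQ
  haveI : LocallyOfFiniteType (pullback.fst π f) := inferInstance
  haveI : IsProper v := MorphismProperty.of_isPullback sqv ‹IsProper π'›
  haveI : Flat v := MorphismProperty.of_isPullback sqv ‹Flat π'›
  have hδ1 : Cyc.DeltaCompat (pullback.fst π f) δQ δP := deltaCompat_square sqQ.w hf hδ hδQ
  have hδv : Cyc.DeltaCompat v δPY δQ := deltaCompat_square (π := pullback.snd π f) (π' := πY) (f := 𝟙 Y)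
    (by rw [hv2, Category.comp_id]) (fun y => ⟨0, by
      show CycK0.resTr (𝟙 Y) y = _
      simpa using resTr_pre (𝟙 Y) y, by simp⟩) hδQ hπ
  have hr1 : Cyc.HasRelDim (pullback.snd π f) d := (S9358.result π f _ _ sqQ d).2.2 hd
  have hr2 : Cyc.HasRelDim v d' := (S9358.result π' (pullback.fst π f) g v sqv d').2.2 hd'
  have hc := ha.pullR hQ (pullback.snd π f) hδQ hr1
  refine h Y f δY hY hf Q _ _ sqQ δQ hQ hδQ k a ha
    (h' Q (pullback.fst π f) δQ hQ hδ1 PY v g sqv δPY hPY hδv (k + d) _ hc ?_)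
  have key := CycPull.pullFun_comp (pullback.snd π f) v hPY.2.2
    (fun x hx => ((CycDim.delta_le (pullback.snd π f) hδQ hr1 x).2).2 hx)
    (fun x hx => ((CycDim.delta_le v hδv hr2 x).2).2 hx) a
  rw [hv2] at key
  rw [← key]
  rw [show k + (d : ℤ) + d' = k + ((d' + d : ℕ) : ℤ) by push_cast; ring,
    show (d : ℤ) + d' = ((d' + d : ℕ) : ℤ) by push_cast; ring]
  exact hz

theorem isLocallyProjective_comp {π : P ⟶ X} {π' : P' ⟶ P} (h : RelProj.IsLocallyProjective π)
    (h' : RelProj.IsProjective π') : RelProj.IsLocallyProjective (π' ≫ π) := fun s => by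
  obtain ⟨U, hsU, hU⟩ := h s
  obtain ⟨V, hV, hsV, hVU⟩ := exists_isAffineOpen_mem_and_subset hsU
  have hVU' : V ≤ U := hVU
  haveI : CompactSpace ↥(V : Scheme.{u}) := isCompact_iff_compactSpace.1 hV.isCompact
  haveI : IsAffine (V : Scheme.{u}) := hV
  refine ⟨V, hsV, ?_⟩
  have h1 : RelProj.IsProjective (π ∣_ V) := by
    have e1 : IsPullback ((π ⁻¹ᵁ V).ι) (π ∣_ V) π V.ι := (isPullback_morphismRestrict π V).flip
    have e2 : IsPullback ((π ⁻¹ᵁ U).ι) (π ∣_ U) π U.ι := (isPullback_morphismRestrict π U).flip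
    refine SymAlg.isProjective_baseChange (g := X.homOfLE hVU') (g' := P.homOfLE (π.preimage_mono hVU')) ?_ hU
    exact IsPullback.of_right (by simpa using e1) (by rw [← cancel_mono U.ι]; simp) e2
  have h2 : RelProj.IsProjective (π' ∣_ (π ⁻¹ᵁ V)) :=
    SymAlg.isProjective_baseChange (isPullback_morphismRestrict π' (π ⁻¹ᵁ V)).flip h'
  rw [morphismRestrict_comp]
  exact S9708.result _ _ h2 h1

theorem isSplit_id : IsSplit (𝟙 X) δ 0 where
  locProj s := by
    obtain ⟨U, -, hsU, -⟩ := exists_isAffineOpen_mem_and_subset (U := (⊤ : X.Opens)) (x := s) trivial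
    haveI : IsIso (𝟙 X ∣_ U) := inferInstance
    exact ⟨U, hsU, S4452.result _⟩
  proper := inferInstance
  flat := inferInstance
  relDim := fun y T hT => by
    haveI : Subsingleton ((𝟙 X : X ⟶ X).fiber y) := ⟨fun a b => by
      refine ((𝟙 X : X ⟶ X).fiberι y).isEmbedding.injective ?_
      have ha : (𝟙 X : X ⟶ X).fiberι y a ∈ Set.range ((𝟙 X : X ⟶ X).fiberι y) := ⟨a, rfl⟩
      have hb : (𝟙 X : X ⟶ X).fiberι y b ∈ Set.range ((𝟙 X : X ⟶ X).fiberι y) := ⟨b, rfl⟩
      rw [Scheme.Hom.range_fiberι] at ha hb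
      exact (show (𝟙 X : X ⟶ X).fiberι y a = y from ha).trans (show (𝟙 X : X ⟶ X).fiberι y b = y from hb).symm⟩
    obtain ⟨t, ht⟩ := hT.1.1
    haveI : Nonempty T := ⟨⟨t, ht⟩⟩
    haveI : Subsingleton T := inferInstance
    haveI : Nonempty (IrreducibleCloseds T) := ⟨⟨Set.univ, Subtype.irreducibleSpace (s := T) hT.1 |>.isIrreducible_univ, isClosed_univ⟩⟩
    exact_mod_cast le_antisymm (topologicalKrullDim_zero_of_discreteTopology T) Order.krullDim_nonneg
  inj := pullInj_id

theorem IsSplit.bundle {π : P ⟶ X} {δ : X → ℤ} (hX : Cyc.IsSetup X δ) {d : ℕ} (h : IsSplit π δ d) {π' : P' ⟶ P}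
    [IsProper π'] (hproj : RelProj.IsProjective π') {E : P.Modules} {O : P'.Modules}
    {q : (Scheme.Modules.pullback π').obj E ⟶ O} (hP : KRR.IsProjBundle π' E O q) {n : ℕ}
    (hE : FlatMod.IsFinLocFreeOfRank (n + 1) E) : IsSplit (π' ≫ π) δ (n + d) := by
  haveI := h.proper
  haveI := h.flat
  haveI := hX.1
  obtain ⟨δP, hPs, hδ⟩ := exists_isSetup hX π
  haveI := hPs.1
  obtain ⟨δP', hPs', hδ'⟩ := exists_isSetup hPs π'
  have hB : Bundle π' δP δP' E O (n + 1) := ⟨hPs, hPs', hδ', ⟨q, hP⟩, hE⟩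
  haveI := hB.fibres.1 (by omega)
  exact ⟨isLocallyProjective_comp h.locProj hproj, inferInstance, inferInstance,
    CycDim.hasRelDim_comp π' π (hB.relDim rfl) h.relDim,
    pullInj_comp hδ h.relDim (hB.relDim rfl) h.inj (pullInj_bundle hP hE hPs)⟩

/-- The kernel of a quotient line bundle. -/
theorem isFinLocFreeOfRank_kernel {E O : X.Modules} {n : ℕ} (q : E ⟶ O) [Epi q]
    (hE : FlatMod.IsFinLocFreeOfRank (n + 1) E) (hO : PicF.IsInvertible O) :
    FlatMod.IsFinLocFreeOfRank n (kernel q) := fun x => by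
  have hO1 := CurveRR.isFinLocFreeOfRank_one hO
  obtain ⟨U, a, hxU, ⟨e⟩⟩ := DCohLocus.isFinLocFree_kernel q (Nagata.isFinLocFree_of_rank' hE)
    (Nagata.isFinLocFree_of_rank' hO1) x
  suffices h : a = n by subst h; exact ⟨U, hxU, ⟨e⟩⟩
  have hS : (ShortComplex.mk (kernel.ι q) q (kernel.condition q)).ShortExact := { exact := ShortComplex.exact_kernel q }
  have hS' := hS.map_of_exact (Scheme.Modules.restrictFunctor U.ι)
  have hres : ∀ {M : X.Modules} {r : ℕ}, FlatMod.IsFinLocFreeOfRank r M →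
      FlatMod.IsFinLocFreeOfRank r ((Scheme.Modules.restrictFunctor U.ι).obj M) := fun {M r} hM =>
    Nagata.isFinLocFreeOfRank_of_iso ((Scheme.Modules.restrictFunctorIsoPullback U.ι).app M).symm
      (Nagata.isFinLocFreeOfRank_pullback U.ι hM)
  have hK : FlatMod.IsFinLocFreeOfRank a ((Scheme.Modules.restrictFunctor U.ι).obj (kernel q)) := by
    refine Nagata.isFinLocFreeOfRank_of_iso e.symm fun y => ⟨⊤, trivial, ⟨?_⟩⟩
    exact (Scheme.Modules.restrictFunctorIsoPullback _).app _ ≪≫ DerPerf.pullFreeIso _ a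
  have h1 : FlatMod.IsFinLocFreeOfRank (a + 1) ((Scheme.Modules.restrictFunctor U.ι).obj E) :=
    isFinLocFreeOfRank_middle hS' hK (hres hO1)
  have h2 := hres hE
  have hfr : ∀ {r : ℕ}, FlatMod.IsFinLocFreeOfRank r ((Scheme.Modules.restrictFunctor U.ι).obj E) →
      ∃ (V : (U : Scheme.{u}).Opens) (f : Fin r → Γ((Scheme.Modules.restrictFunctor U.ι).obj E, V)),
        (⟨x, hxU⟩ : U) ∈ V ∧ TMul.IsFrame f := fun {r} hr => by
    obtain ⟨V, hV, hxV, ⟨b⟩⟩ := exists_basis hr ⟨x, hxU⟩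
    refine ⟨V, fun i => b i, hxV, PBundle.isFrame_of_bijective
      (LocFree.isQCoh_of_isFinLocFree (Nagata.isFinLocFree_of_rank' hr)) hV ?_⟩
    rw [show (fun c : Fin r → Γ(U, V) => ∑ i, c i • b i) = b.equivFun.symm from
      funext fun c => (b.equivFun_symm_apply c).symm]
    exact b.equivFun.symm.bijective
  obtain ⟨V₁, f₁, hx₁, hf₁⟩ := hfr h1
  obtain ⟨V₂, f₂, hx₂, hf₂⟩ := hfr h2
  have := W7Strat.frame_card_unique hf₁ hf₂ hx₁ hx₂
  omega

/-- A filtration with some invertible quotients exists. -/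
def HasFilt (E : X.Modules) (r : ℕ) : Prop :=
  ∃ L : Fin r → X.Modules, (∀ i, PicF.IsInvertible (L i)) ∧ Nonempty (Filt E r L)

theorem HasFilt.of_iso {E E' : X.Modules} {r : ℕ} (e : E ≅ E') (h : HasFilt E r) : HasFilt E' r := by
  obtain ⟨L, hL, ⟨F⟩⟩ := h
  exact ⟨L, hL, ⟨{ F with top := F.top ≪≫ e }⟩⟩

theorem HasFilt.pullback {E : X.Modules} {r : ℕ} (f : P ⟶ X) [Flat f] (h : HasFilt E r) :
    HasFilt ((Scheme.Modules.pullback f).obj E) r := by
  obtain ⟨L, hL, ⟨F⟩⟩ := h
  haveI := (Scheme.Modules.pullback f).additive_of_preserves_binary_products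
  refine ⟨fun i => (Scheme.Modules.pullback f).obj (L i), fun i => PicLoc.isInvertible_pullback f (hL i),
    ⟨{ M := fun i => (Scheme.Modules.pullback f).obj (F.M i)
       zero := (Scheme.Modules.pullback f).map_isZero F.zero
       top := (Scheme.Modules.pullback f).mapIso F.top
       a := fun i => (Scheme.Modules.pullback f).map (F.a i)
       b := fun i => (Scheme.Modules.pullback f).map (F.b i)
       comp := fun i => by rw [← Functor.map_comp, F.comp, Functor.map_zero]
       exact := fun i => (F.exact i).map_of_exact (Scheme.Modules.pullback f) }⟩⟩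

theorem HasFilt.extend {K E O : X.Modules} {r : ℕ} (hK : HasFilt K r) (hO : PicF.IsInvertible O) (f : K ⟶ E)
    (g : E ⟶ O) (w : f ≫ g = 0) (hS : (ShortComplex.mk f g w).ShortExact) : HasFilt E (r + 1) := by
  obtain ⟨L, hL, ⟨F⟩⟩ := hK
  let L' : Fin (r + 1) → X.Modules := Fin.snoc L O
  let M' : Fin (r + 1 + 1) → X.Modules := Fin.snoc F.M E
  have e1 : ∀ i : Fin (r + 1), M' (Fin.castSucc i) = F.M i := fun i => Fin.snoc_castSucc _ _ _
  have e2 : M' (Fin.last (r + 1)) = E := Fin.snoc_last _ _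
  have step : ∀ i : Fin (r + 1), ∃ (a : M' (Fin.castSucc i) ⟶ M' (Fin.succ i)) (b : M' (Fin.succ i) ⟶ L' i)
      (h : a ≫ b = 0), (ShortComplex.mk a b h).ShortExact := fun i => by
    refine Fin.lastCases ?_ (fun j => ?_) i
    · rw [e1, Fin.succ_last, e2, show L' (Fin.last r) = O from Fin.snoc_last _ _]
      refine ⟨F.top.hom ≫ f, g, by rw [Category.assoc, w, comp_zero], ?_⟩
      exact ShortComplex.shortExact_of_iso (ShortComplex.isoMk (S₁ := ShortComplex.mk f g w) F.top.symm (Iso.refl _)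
        (Iso.refl _) (by simp) (by simp)) hS
    · rw [e1, Fin.succ_castSucc, e1, show L' (Fin.castSucc j) = L j from Fin.snoc_castSucc _ _ _]
      exact ⟨F.a j, F.b j, F.comp j, F.exact j⟩
  choose a b h hex using step
  refine ⟨L', fun i => ?_, ⟨⟨M', ?_, eqToIso e2, a, b, h, hex⟩⟩⟩
  · refine Fin.lastCases ?_ (fun j => ?_) i
    · rw [show L' (Fin.last r) = O from Fin.snoc_last _ _]; exact hO
    · rw [show L' (Fin.castSucc j) = L j from Fin.snoc_castSucc _ _ _]; exact hL j
  · rw [show M' 0 = F.M 0 from e1 0]; exact F.zero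

/-- A tower on which one module gets a filtration, above a given one. -/
theorem exists_split_one (hX : Cyc.IsSetup X δ) : ∀ (r : ℕ) {P : Scheme.{u}} {π : P ⟶ X} {d : ℕ} (_ : IsSplit π δ d)
    {E : P.Modules} (_ : FlatMod.IsFinLocFreeOfRank r E),
    ∃ (P' : Scheme.{u}) (π' : P' ⟶ P) (d' : ℕ), IsSplit (π' ≫ π) δ d' ∧ Flat π' ∧
      HasFilt ((Scheme.Modules.pullback π').obj E) r
  | 0, P, π, d, h, E, hE => by
    refine ⟨P, 𝟙 P, d, by rwa [Category.id_comp], inferInstance, fun i => i.elim0, fun i => i.elim0,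
      ⟨⟨fun _ => (Scheme.Modules.pullback (𝟙 P)).obj E, ?_, Iso.refl _, fun i => i.elim0, fun i => i.elim0,
        fun i => i.elim0, fun i => i.elim0⟩⟩⟩
    rw [IsZero.iff_id_eq_zero]
    refine eq_zero_of_cover _ fun x => ?_
    obtain ⟨U, hxU, ⟨e⟩⟩ := Nagata.isFinLocFreeOfRank_pullback (𝟙 P) hE x
    refine ⟨U, hxU, IsZero.eq_of_src ?_ _ _⟩
    refine IsZero.of_iso ?_ (((Scheme.Modules.restrictFunctorIsoPullback U.ι).app _).symm ≪≫ e)
    rw [IsZero.iff_id_eq_zero]
    exact Sigma.hom_ext _ _ fun i => i.elim0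
  | n + 1, P, π, d, h, E, hE => by
    obtain ⟨P₁, p, O, q, hP, hp, hproj⟩ := exists_projBundle hE
    haveI := hp
    haveI := hP.epi
    have h1 := h.bundle hX hproj hP hE
    have hEp := Nagata.isFinLocFreeOfRank_pullback p hE
    obtain ⟨P', π', d', h2, hfl, hK⟩ := exists_split_one hX n h1
      (isFinLocFreeOfRank_kernel q hEp (PBundle.isInvertible hP))
    haveI := hfl
    haveI : Flat p := (fibres_of_isProjBundle hP hE).1 (by omega)
    refine ⟨P', π' ≫ p, d', by rwa [Category.assoc], inferInstance, ?_⟩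
    haveI := (Scheme.Modules.pullback π').additive_of_preserves_binary_products
    have hS : (ShortComplex.mk (kernel.ι q) q (kernel.condition q)).ShortExact :=
      { exact := ShortComplex.exact_kernel q }
    exact (hK.extend (PicLoc.isInvertible_pullback π' (PBundle.isInvertible hP)) _ _ _
      (hS.map_of_exact (Scheme.Modules.pullback π'))).of_iso ((Scheme.Modules.pullbackComp π' p).app E)

/-- The splitting principle. -/
theorem exists_split (hX : Cyc.IsSetup X δ) : ∀ (m : ℕ) (E : Fin m → X.Modules) (rk : Fin m → ℕ)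
    (_ : ∀ i, FlatMod.IsFinLocFreeOfRank (rk i) (E i)),
    ∃ (P : Scheme.{u}) (π : P ⟶ X) (d : ℕ), IsSplit π δ d ∧
      ∀ i, HasFilt ((Scheme.Modules.pullback π).obj (E i)) (rk i)
  | 0, E, rk, _ => ⟨X, 𝟙 X, 0, isSplit_id, fun i => i.elim0⟩
  | m + 1, E, rk, hE => by
    obtain ⟨P, π, d, h, hF⟩ := exists_split hX m (fun i => E i.castSucc) (fun i => rk i.castSucc)
      (fun i => hE i.castSucc)
    obtain ⟨P', π', d', h', hfl, hK⟩ := exists_split_one hX (rk (Fin.last m)) h
      (Nagata.isFinLocFreeOfRank_pullback π (hE (Fin.last m)))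
    haveI := hfl
    refine ⟨P', π' ≫ π, d', h', fun i => ?_⟩
    refine Fin.lastCases ?_ (fun j => ?_) i
    · exact hK.of_iso ((Scheme.Modules.pullbackComp π' π).app _)
    · exact ((hF j).pullback π').of_iso ((Scheme.Modules.pullbackComp π' π).app _)

end Groth.Agent.CycPB
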