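import Groth.Agent.CycPB.TrivDiv
import Groth.Agent.CycPB.AffBundle
import Groth.Agent.RelSpecUP.Basic
import Groth.Agent.S8268

/-!
The total space of a quotient bundle with trivial kernel is a principal divisor.
-/

set_option autoImplicit false
set_option linter.unusedSectionVars false
set_option linter.style.haveILetI false
set_option backward.isDefEq.respectTransparency false
set_option backward.isDefEq.respectTransparency.types false

universe u

open CategoryTheory CategoryTheory.Limits AlgebraicGeometry TopologicalSpace Opposite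
open Groth.Agent.QC (res resO)

noncomputable section

namespace Groth.Agent.CycPB

variable {X : Scheme.{u}}

/-- Sections over an affine open where the module is free. -/
theorem exists_basis_of_free {E : X.Modules} {r : ℕ} {W : X.Opens}
    (e : E.restrict W.ι ≅ FlatMod.freeMod (W : Scheme.{u}) r) {D : X.Opens} (hD : IsAffineOpen D) (hDW : D ≤ W)
    (hq : Coh.IsQCoh E) : Nonempty (Module.Basis (Fin r) Γ(X, D) Γ(E, D)) := by
  haveI : E.IsQuasicoherent := hq
  let ι' : Spec Γ(X, D) ⟶ (W : Scheme.{u}) :=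
    IsOpenImmersion.lift W.ι hD.fromSpec (by rw [hD.range_fromSpec, Scheme.Opens.range_ι]; exact hDW)
  have hι : ι' ≫ W.ι = hD.fromSpec := IsOpenImmersion.lift_fac _ _ _
  haveI : IsOpenImmersion (ι' ≫ W.ι) := by rw [hι]; infer_instance
  haveI : IsOpenImmersion ι' := IsOpenImmersion.of_comp ι' W.ι
  let e' : E.restrict hD.fromSpec ≅ FlatMod.freeMod (Spec Γ(X, D)) r :=
    (Scheme.Modules.restrictFunctorCongr hι).symm.app E ≪≫
      (Scheme.Modules.restrictFunctorComp ι' W.ι).app E ≪≫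
      (Scheme.Modules.restrictFunctor ι').mapIso e ≪≫
      (Scheme.Modules.restrictFunctorIsoPullback ι').app _ ≪≫
      Groth.Agent.DerPerf.pullFreeIso ι' r
  let e'' : E.restrict hD.fromSpec ≅ tilde (ModuleCat.of Γ(X, D) (ULift.{u} (Fin r) →₀ Γ(X, D))) :=
    e' ≪≫ (Sigma.whiskerEquiv (f := fun _ : ULift.{u} (Fin r) => Coh.structureModule (Spec Γ(X, D)))
      (g := fun _ : Fin r => Coh.structureModule (Spec Γ(X, D))) Equiv.ulift (fun _ => Iso.refl _)).symm ≪≫
      (tildeFinsupp (R := Γ(X, D)) (ULift.{u} (Fin r))).symm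
  let l : Γ(E, D) ≃ₗ[Γ(X, D)] (ULift.{u} (Fin r) →₀ Γ(X, D)) :=
    (Groth.Agent.QC.topEquiv hD E).symm.trans (moduleSpecΓFunctor.mapIso e'' ≪≫
      (tilde.toTildeΓNatIso.app (ModuleCat.of Γ(X, D) (ULift.{u} (Fin r) →₀ Γ(X, D)))).symm).toLinearEquiv
  exact ⟨(Module.Basis.ofRepr l).reindex Equiv.ulift⟩

/-- A symmetric algebra on a free module is a polynomial algebra. -/
theorem exists_polyEquiv {E : X.Modules} (hq : Coh.IsQCoh E) {A : RelSpec.QCAlg X} {j : E ⟶ A.toModule}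
    (hA : RelSpec.IsSymAlg E A j) {V : X.Opens} (hV : IsAffineOpen V) {σ : Type} (b : Module.Basis σ Γ(X, V) Γ(E, V)) :
    ∃ θ : MvPolynomial σ Γ(X, V) →+* A.presheaf.obj (op V), Function.Bijective θ ∧
      (∀ c, θ (MvPolynomial.C c) = (A.str.app (op V)).hom c) ∧
      ∀ s, θ (MvPolynomial.X s) = (show A.presheaf.obj (op V) from j.app V (b s)) := by
  obtain ⟨γ, hγ, hj⟩ := SymAlg.exists_affineIso hq hA
  let U : X.AffineZariskiSite := ⟨V, hV⟩
  let e : MvPolynomial σ Γ(X, V) →+* A.presheaf.obj (op V) :=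
    (γ.inv.app (op U)).hom.comp (SymmetricAlgebra.equivMvPolynomial b).symm.toRingEquiv.toRingHom
  refine ⟨e, (ConcreteCategory.bijective_of_isIso (γ.inv.app (op U))).comp
    (SymmetricAlgebra.equivMvPolynomial b).symm.bijective, fun c => ?_, fun s => ?_⟩
  · show (γ.inv.app (op U)).hom ((SymmetricAlgebra.equivMvPolynomial b).symm (algebraMap _ _ c)) = _
    rw [AlgEquiv.commutes]
    have h2 : A.str.app (op V) ≫ γ.hom.app (op U) = (SymAlg.symStr E).app (op U) := congr(($hγ).app (op U))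
    have h1 : (γ.hom.app (op U)).hom ((A.str.app (op V)).hom c) = ((SymAlg.symStr E).app (op U)).hom c := congr($h2 c)
    exact (congrArg (γ.inv.app (op U)).hom h1.symm).trans congr($(γ.hom_inv_id_app (op U)) _)
  · show (γ.inv.app (op U)).hom ((SymmetricAlgebra.equivMvPolynomial b).symm (MvPolynomial.X s)) = _
    rw [SymmetricAlgebra.equivMvPolynomial_symm_X]
    exact (hj U (b s)).symm

/-- A polynomial algebra gives a chart. -/
theorem affChart_of_poly (A : RelSpec.QCAlg X) {V : X.Opens} (hV : IsAffineOpen V) {n : ℕ}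
    (θ : MvPolynomial (Fin n) Γ(X, V) →+* A.presheaf.obj (op V)) (hθ : Function.Bijective θ)
    (hC : ∀ c, θ (MvPolynomial.C c) = (A.str.app (op V)).hom c) : AffChart A.π V n := by
  let σ : Type u := ULift.{u} (Fin n)
  let R : CommRingCat.{u} := Γ(X, V)
  let ren : MvPolynomial σ R ≃+* MvPolynomial (Fin n) R :=
    (MvPolynomial.renameEquiv R (Equiv.ulift.{u, 0} : σ ≃ Fin n)).toRingEquiv
  let f : CommRingCat.of (MvPolynomial σ R) ≅ A.presheaf.obj (op V) :=
    (ren.trans (RingEquiv.ofBijective θ hθ)).toCommRingCatIso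
  have hf : A.str.app (op V) ≫ f.inv = CommRingCat.ofHom MvPolynomial.C := by
    rw [Iso.comp_inv_eq]
    refine CommRingCat.hom_ext (RingHom.ext fun c => ?_)
    show (A.str.app (op V)).hom c = θ (MvPolynomial.rename _ (MvPolynomial.C c))
    rw [MvPolynomial.rename_C, hC]
  let k : AffineSpace σ (↑V : Scheme.{u}) ⟶ Spec (A.presheaf.obj (op V)) :=
    AffineSpace.map σ hV.isoSpec.hom ≫ (AffineSpace.SpecIso σ R).hom ≫ Spec.map f.inv
  haveI : IsIso (AffineSpace.map σ hV.isoSpec.hom) :=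
    (AffineSpace.isPullback_map (n := σ) hV.isoSpec.hom).isIso_fst_of_isIso
  haveI : IsIso k := inferInstanceAs (IsIso (AffineSpace.map σ hV.isoSpec.hom ≫ (AffineSpace.SpecIso σ R).hom ≫ Spec.map f.inv))
  have hw : k ≫ Spec.map (A.str.app (op V)) =
      (AffineSpace σ (↑V : Scheme.{u}) ↘ (↑V : Scheme.{u})) ≫ hV.isoSpec.hom := by
    show (AffineSpace.map σ hV.isoSpec.hom ≫ (AffineSpace.SpecIso σ R).hom ≫ Spec.map f.inv) ≫ _ = _
    rw [Category.assoc, Category.assoc, ← Spec.map_comp, hf, ← AffineSpace.SpecIso_inv_over, Iso.hom_inv_id_assoc,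
      AffineSpace.map_over]
  have h1 : IsPullback k (AffineSpace σ (↑V : Scheme.{u}) ↘ (↑V : Scheme.{u})) (Spec.map (A.str.app (op V)))
      hV.isoSpec.hom := IsPullback.of_horiz_isIso ⟨hw⟩
  have h2 := h1.paste_horiz (RelSpecUP.isPullback_chart A V hV).flip
  have h3 : hV.isoSpec.hom ≫ hV.fromSpec = V.ι := by
    rw [← hV.isoSpec_inv_ι, Iso.hom_inv_id_assoc]
  rw [h3] at h2
  exact ⟨_, h2⟩

/-- A basis adapted to an extension by the structure module. -/
theorem exists_seq_basis {S : ShortComplex X.Modules} (hS : S.ShortExact) (e : S.X₁ ≅ Coh.structureModule X)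
    (hq2 : Coh.IsQCoh S.X₂) (hq3 : Coh.IsQCoh S.X₃) {V : X.Opens} (hV : IsAffineOpen V) {n : ℕ}
    (b : Module.Basis (Fin n) Γ(X, V) Γ(S.X₃, V)) :
    ∃ B : Module.Basis (Fin (n + 1)) Γ(X, V) Γ(S.X₂, V),
      B 0 = res S.X₂ le_top ((e.inv ≫ S.f).app ⊤ (show Γ(Coh.structureModule X, ⊤) from (1 : Γ(X, ⊤)))) ∧
      S.g.app V (B 0) = 0 ∧ ∀ i, S.g.app V (B i.succ) = b i := by
  haveI := hS.mono_f
  haveI := hS.epi_g
  let g := QC.appₗ S.g V
  let eV : Γ(S.X₂, V) := res S.X₂ le_top ((e.inv ≫ S.f).app ⊤ (show Γ(Coh.structureModule X, ⊤) from (1 : Γ(X, ⊤))))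
  let f := QC.appₗ (e.inv ≫ S.f) V
  haveI : Mono (e.inv ≫ S.f) := mono_comp _ _
  have hf : Function.Injective f := (QC.mono_iff_app_injective (e.inv ≫ S.f)).1 inferInstance V
  have hfa : ∀ a : Γ(X, V), f (show Γ(Coh.structureModule X, V) from a) = a • eV := fun a => by
    have h1 : eV = f (show Γ(Coh.structureModule X, V) from (1 : Γ(X, V))) := by
      show res S.X₂ _ _ = _
      rw [QC.app_res]
      exact congrArg f (map_one (resO X (le_top : V ≤ ⊤)))
    rw [h1, ← map_smul]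
    exact congrArg f (mul_one a).symm
  choose s hs using fun i => QC.app_surjective_of_epi hV hq2 hq3 S.g (b i)
  have hg0 : g eV = 0 := by
    have h1 : eV = f (show Γ(Coh.structureModule X, V) from (1 : Γ(X, V))) := (hfa 1).trans (one_smul _ _) |>.symm
    rw [h1]
    show S.g.app V ((e.inv ≫ S.f).app V _) = 0
    exact congr($(show (e.inv ≫ S.f) ≫ S.g = 0 by rw [Category.assoc, S.zero, comp_zero]).app V _)
  let v : Fin (n + 1) → Γ(S.X₂, V) := Fin.cases eV s
  have hli : LinearIndependent Γ(X, V) v := by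
    rw [Fintype.linearIndependent_iff]
    intro c hc
    rw [Fin.sum_univ_succ] at hc
    have h1 : ∀ i, c (Fin.succ i) = 0 := by
      have h2 := congrArg g hc
      simp only [map_add, map_smul, map_zero, map_sum, v, Fin.cases_zero, Fin.cases_succ, hg0, smul_zero, zero_add] at h2
      exact Fintype.linearIndependent_iff.1 b.linearIndependent (fun i => c i.succ)
        ((Finset.sum_congr rfl fun i _ => congrArg _ (hs i).symm).trans h2)
    refine Fin.cases ?_ h1
    simp only [h1, zero_smul, Finset.sum_const_zero, add_zero, v, Fin.cases_zero] at hc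
    rw [← hfa] at hc
    exact hf (hc.trans (map_zero f).symm)
  have hsp : ⊤ ≤ Submodule.span Γ(X, V) (Set.range v) := fun m _ => by
    let M := Submodule.span Γ(X, V) (Set.range v)
    let m' := m - ∑ i, b.repr (g m) i • s i
    have h0 : g m' = 0 := by
      simp only [m', map_sub, map_sum, map_smul]
      rw [sub_eq_zero]
      exact (b.sum_repr (g m)).symm.trans (Finset.sum_congr rfl fun i _ => congrArg _ (hs i).symm)
    obtain ⟨c, hc⟩ := Groth.Agent.SiteCoh.sections_exact (CohQC.seq_shortExact hS) V _ h0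
    let a : Γ(X, V) := e.hom.app V c
    have ha : m' = a • eV := by
      rw [← hfa]
      show m' = (e.inv ≫ S.f).app V (e.hom.app V c)
      exact ((congrArg (S.f.app V) (congr($(e.hom_inv_id).app V c))).trans hc).symm
    have hm : m = a • eV + ∑ i, b.repr (g m) i • s i := by rw [← ha]; exact (sub_add_cancel _ _).symm
    rw [hm]
    refine add_mem (Submodule.smul_mem _ _ (Submodule.subset_span ⟨0, rfl⟩))
      (sum_mem fun i _ => Submodule.smul_mem _ _ (Submodule.subset_span ⟨i.succ, rfl⟩))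
  refine ⟨Module.Basis.mk hli hsp, ?_, ?_, fun i => ?_⟩
  · rw [Module.Basis.mk_apply]; rfl
  · rw [Module.Basis.mk_apply]; exact hg0
  · rw [Module.Basis.mk_apply]; exact hs i

/-- Killing the first variable. -/
theorem ker_killFirst (R : Type u) [CommRing R] (n : ℕ) :
    RingHom.ker (MvPolynomial.eval₂Hom (MvPolynomial.C : R →+* MvPolynomial (Fin n) R)
      (Fin.cases 0 MvPolynomial.X : Fin (n + 1) → MvPolynomial (Fin n) R)) =
    Ideal.span {(MvPolynomial.X 0 : MvPolynomial (Fin (n + 1)) R)} := by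
  let E := (MvPolynomial.finSuccEquiv R n).toRingEquiv
  have h : MvPolynomial.eval₂Hom (MvPolynomial.C : R →+* MvPolynomial (Fin n) R)
      (Fin.cases 0 MvPolynomial.X : Fin (n + 1) → MvPolynomial (Fin n) R) = Polynomial.constantCoeff.comp E.toRingHom := by
    refine MvPolynomial.ringHom_ext (fun c => ?_) (Fin.cases ?_ fun i => ?_)
    · simp [E, MvPolynomial.finSuccEquiv_apply]
    · simp [E, MvPolynomial.finSuccEquiv_X_zero]
    · simp [E, MvPolynomial.finSuccEquiv_X_succ]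
  rw [h, ← RingHom.comap_ker, Polynomial.ker_constantCoeff]
  show Ideal.comap E.toRingHom _ = _
  refine le_antisymm (fun p hp => ?_) ?_
  · obtain ⟨q, hq⟩ := Ideal.mem_span_singleton'.1 (Ideal.mem_comap.1 hp)
    refine Ideal.mem_span_singleton'.2 ⟨E.symm q, E.injective ?_⟩
    rw [map_mul, E.apply_symm_apply]
    simpa [E, MvPolynomial.finSuccEquiv_X_zero] using hq
  · rw [Ideal.span_le, Set.singleton_subset_iff, SetLike.mem_coe, Ideal.mem_comap]
    rw [show E.toRingHom (MvPolynomial.X 0) = Polynomial.X from MvPolynomial.finSuccEquiv_X_zero]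
    exact Ideal.mem_span_singleton_self _

set_option maxHeartbeats 1600000 in
/-- The equation of the quotient bundle in the bundle. -/
theorem exists_trivDiv {S : ShortComplex X.Modules} (hS : S.ShortExact) (e : S.X₁ ≅ Coh.structureModule X)
    (hqE : Coh.IsQCoh S.X₂) (hqF : Coh.IsQCoh S.X₃) (hF : FlatMod.IsFinLocFree S.X₃)
    (AE : RelSpec.QCAlg X) (jE : S.X₂ ⟶ AE.toModule) (hAE : RelSpec.IsSymAlg S.X₂ AE jE)
    (AF : RelSpec.QCAlg X) (jF : S.X₃ ⟶ AF.toModule) (hAF : RelSpec.IsSymAlg S.X₃ AF jF)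
    (φ : AE ⟶ AF) (hφ : jE ≫ RelSpec.QCAlg.Hom.toModuleMap φ = S.g ≫ jF)
    [IsClosedImmersion (RelSpec.QCAlg.specMap φ)] :
    ∃ t : Γ(AE.spec, (⊤ : AE.spec.Opens)),
      (∀ y, ∃ (U : X.Opens) (n : ℕ), y ∈ U ∧ AffChart (RelSpec.QCAlg.specMap φ ≫ AE.π) U n ∧ AffChart AE.π U (n + 1)) ∧
      (∀ x, x ∈ Set.range (RelSpec.QCAlg.specMap φ) ↔ ¬ IsUnit ((AE.spec.presheaf.germ ⊤ x trivial).hom t)) ∧
      (∀ d, RingHom.ker ((RelSpec.QCAlg.specMap φ).stalkMap d).hom =
        Ideal.span {(AE.spec.presheaf.germ ⊤ (RelSpec.QCAlg.specMap φ d) trivial).hom t}) ∧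
      ∀ x, ∀ c, (AE.spec.presheaf.germ ⊤ x trivial).hom t * c = 0 → c = 0 := by
  let eE : Γ(S.X₂, (⊤ : X.Opens)) := (e.inv ≫ S.f).app ⊤ (show Γ(Coh.structureModule X, ⊤) from (1 : Γ(X, ⊤)))
  let i := RelSpec.QCAlg.specMap φ
  obtain ⟨ω, hω⟩ : ∃ ω, ω = inv AE.gammaMap := ⟨_, rfl⟩
  let t : Γ(AE.spec, (⊤ : AE.spec.Opens)) :=
    (ω.app (op ⊤)).hom (show AE.presheaf.obj (op ⊤) from jE.app ⊤ eE)
  have hip : i ≫ AE.π = AF.π := RelSpec.QCAlg.specMap_π φ
  have hb : ∀ y : X, ∃ (V : X.Opens) (n : ℕ), IsAffineOpen V ∧ y ∈ V ∧ Nonempty (Module.Basis (Fin n) Γ(X, V) Γ(S.X₃, V)) :=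
    fun y => by
      obtain ⟨U, n, hy, ⟨iso⟩⟩ := hF y
      obtain ⟨V, hV, hyV, hVU⟩ := exists_isAffineOpen_mem_and_subset hy
      exact ⟨V, n, hV, hyV, exists_basis_of_free iso hV hVU hqF⟩
  -- everything over a small affine open
  have key : ∀ y : X, ∃ (V : X.Opens) (n : ℕ), y ∈ V ∧ IsAffineOpen V ∧ AffChart AF.π V n ∧ AffChart AE.π V (n + 1) ∧
      RingHom.ker (i.app (AE.π ⁻¹ᵁ V)).hom = Ideal.span {resO AE.spec le_top t} ∧
      ∀ c, resO AE.spec (le_top : AE.π ⁻¹ᵁ V ≤ ⊤) t * c = 0 → c = 0 := fun y => by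
    obtain ⟨V, n, hV, hy, ⟨b⟩⟩ := hb y
    obtain ⟨B, hB0, hg0, hgs⟩ := exists_seq_basis hS e hqE hqF hV b
    obtain ⟨θE, hθE, hCE, hXE⟩ := exists_polyEquiv hqE hAE hV B
    obtain ⟨θF, hθF, hCF, hXF⟩ := exists_polyEquiv hqF hAF hV b
    let π0 := MvPolynomial.eval₂Hom (MvPolynomial.C : Γ(X, V) →+* MvPolynomial (Fin n) Γ(X, V))
      (Fin.cases 0 MvPolynomial.X : Fin (n + 1) → MvPolynomial (Fin n) Γ(X, V))
    have hcomm : (φ.hom.app (op V)).hom.comp θE = θF.comp π0 := by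
      refine MvPolynomial.ringHom_ext (fun c => ?_) (fun s => ?_)
      · show (φ.hom.app (op V)).hom (θE (MvPolynomial.C c)) = θF (π0 (MvPolynomial.C c))
        rw [MvPolynomial.eval₂Hom_C, hCE, hCF]
        exact congr($(φ.comm).app (op V) c)
      · show (φ.hom.app (op V)).hom (θE (MvPolynomial.X s)) = θF (π0 (MvPolynomial.X s))
        rw [MvPolynomial.eval₂Hom_X', hXE]
        refine (congr($(hφ).app V (B s))).trans ?_
        show jF.app V (S.g.app V (B s)) = _
        refine Fin.cases ?_ (fun i' => ?_) s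
        · rw [Fin.cases_zero, hg0, map_zero, map_zero]
        · rw [Fin.cases_succ, hgs, hXF]
    have htV : resO AE.spec (le_top : AE.π ⁻¹ᵁ V ≤ ⊤) t = (ω.app (op V)).hom (θE (MvPolynomial.X 0)) := by
      rw [hXE, hB0, ← QC.app_res jE le_top]
      exact (congr($(ω.naturality (homOfLE (le_top : V ≤ ⊤)).op) _)).symm
    have hker : ∀ p, (φ.hom.app (op V)).hom (θE p) = 0 ↔ p ∈ Ideal.span {(MvPolynomial.X 0 : MvPolynomial (Fin (n + 1)) Γ(X, V))} :=
      fun p => by
        rw [← ker_killFirst, RingHom.mem_ker, ← RingHom.comp_apply, hcomm, RingHom.comp_apply]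
        exact ⟨fun h => hθF.1 (h.trans (map_zero θF).symm), fun h => by rw [h, map_zero]⟩
    have hωb : Function.Bijective (ω.app (op V)).hom := by
      subst hω
      exact ConcreteCategory.bijective_of_isIso _
    let Θ : MvPolynomial (Fin (n + 1)) Γ(X, V) →+* Γ(AE.spec, AE.π ⁻¹ᵁ V) := (ω.app (op V)).hom.comp θE
    have hΘ : Function.Bijective Θ := hωb.comp hθE
    have hnat : AE.gammaMap ≫ φ.hom =
        AffAlg.algHom AE.π AF.π i hip ≫ AF.gammaMap := (RelSpecUP.gammaMap_naturality φ).symm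
    have hle : AF.π ⁻¹ᵁ V ≤ i ⁻¹ᵁ (AE.π ⁻¹ᵁ V) := by rw [← Scheme.Hom.comp_preimage, hip]
    have hle' : i ⁻¹ᵁ (AE.π ⁻¹ᵁ V) ≤ AF.π ⁻¹ᵁ V := by rw [← Scheme.Hom.comp_preimage, hip]
    have happ : ∀ a, (i.app (AE.π ⁻¹ᵁ V)).hom (Θ a) = 0 ↔ (φ.hom.app (op V)).hom (θE a) = 0 := fun a => by
      have h1 : (φ.hom.app (op V)).hom (θE a) =
          (AF.gammaMap.app (op V)).hom (resO AF.spec hle ((i.app (AE.π ⁻¹ᵁ V)).hom (Θ a))) := by
        have h2 : (AE.gammaMap.app (op V)).hom (Θ a) = θE a := by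
          subst hω
          exact congr($(IsIso.inv_hom_id AE.gammaMap).app (op V) _)
        have h3 := congr($(hnat).app (op V) (Θ a))
        refine (congrArg (φ.hom.app (op V)).hom h2.symm).trans (h3.trans ?_)
        show (AF.gammaMap.app (op V)).hom (((AffAlg.algHom AE.π AF.π i hip).app (op V)).hom (Θ a)) = _
        rw [RelSpecUP.algHom_app]
        rfl
      refine ⟨fun h => by rw [h1, h, map_zero, map_zero], fun h => ?_⟩
      have h4 : resO AF.spec hle ((i.app (AE.π ⁻¹ᵁ V)).hom (Θ a)) = 0 :=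
        (congr($(IsIso.hom_inv_id AF.gammaMap).app (op V) _)).symm.trans
          ((congrArg ((inv AF.gammaMap).app (op V)).hom (h1.symm.trans h)).trans (map_zero _))
      have h5 := congrArg (resO AF.spec hle') h4
      rw [map_zero] at h5
      refine Eq.trans ?_ h5
      rw [QC.resO_resO, QC.resO_self]
    refine ⟨V, n, hy, hV, affChart_of_poly AF hV θF hθF hCF, affChart_of_poly AE hV θE hθE hCE, ?_, fun c hc => ?_⟩
    · rw [htV, show (ω.app (op V)).hom (θE (MvPolynomial.X 0)) = Θ (MvPolynomial.X 0) from rfl]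
      ext z
      obtain ⟨a, rfl⟩ := hΘ.2 z
      rw [RingHom.mem_ker, happ, hker, Ideal.mem_span_singleton', Ideal.mem_span_singleton']
      exact ⟨fun ⟨q, hq⟩ => ⟨Θ q, by rw [← map_mul, hq]⟩, fun ⟨q, hq⟩ => by
        obtain ⟨q, rfl⟩ := hΘ.2 q
        exact ⟨q, hΘ.1 (by rw [map_mul, hq])⟩⟩
    · obtain ⟨a, rfl⟩ := hΘ.2 c
      rw [htV, show (ω.app (op V)).hom (θE (MvPolynomial.X 0)) = Θ (MvPolynomial.X 0) from rfl, ← map_mul] at hc
      have h0 : (MvPolynomial.X 0 : MvPolynomial (Fin (n + 1)) Γ(X, V)) * a = 0 :=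
        hΘ.1 (hc.trans (map_zero Θ).symm)
      rw [show a = 0 from MvPolynomial.X_mul_cancel_left_iff.1 (h0.trans (mul_zero _).symm), map_zero]
  refine ⟨t, fun y => ?_, fun x => ?_, fun d => ?_, fun x c hc => ?_⟩
  · obtain ⟨V, n, hy, -, h1, h2, -, -⟩ := key y
    exact ⟨V, n, hy, by rw [hip]; exact h1, h2⟩
  · obtain ⟨V, n, hy, hV, -, -, hk, -⟩ := key (AE.π x)
    let U : AE.spec.affineOpens := ⟨AE.π ⁻¹ᵁ V, hV.preimage AE.π⟩
    have hx : x ∈ U.1 := hy
    have hs : Set.range i = (i.ker.support : Set AE.spec) := by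
      rw [Scheme.Hom.support_ker, i.isClosedEmbedding.isClosed_range.closure_eq]
    rw [hs, SetLike.mem_coe, i.ker.mem_support_iff_of_mem (U := U) hx, Scheme.Hom.ker_apply, hk,
      Scheme.zeroLocus_span, Scheme.zeroLocus_singleton]
    show x ∉ AE.spec.basicOpen _ ↔ _
    rw [Scheme.mem_basicOpen _ _ _ hx]
    exact not_congr (Iff.of_eq (congrArg IsUnit (TopCat.Presheaf.germ_res_apply AE.spec.presheaf _ x hx t)))
  · obtain ⟨V, n, hy, hV, -, -, hk, -⟩ := key (AE.π (i d))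
    rw [CMFlat.ker_stalkMap_eq i d ⟨AE.π ⁻¹ᵁ V, hV.preimage AE.π⟩ hy, hk, Ideal.map_span, Set.image_singleton]
    congr 2
    exact TopCat.Presheaf.germ_res_apply AE.spec.presheaf _ (i d) hy t
  · obtain ⟨V, n, hy, hV, -, -, -, hz⟩ := key (AE.π x)
    have hU := hV.preimage AE.π
    let U : AE.spec.Opens := AE.π ⁻¹ᵁ V
    let a := resO AE.spec (le_top : U ≤ ⊤) t
    letI := TopCat.Presheaf.algebra_section_stalk AE.spec.presheaf (⟨x, hy⟩ : U)
    haveI := hU.isLocalization_stalk ⟨x, hy⟩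
    obtain ⟨⟨b, s⟩, hbs⟩ := IsLocalization.surj (hU.primeIdealOf ⟨x, hy⟩).asIdeal.primeCompl c
    have ha : algebraMap Γ(AE.spec, U) (AE.spec.presheaf.stalk x) a = (AE.spec.presheaf.germ ⊤ x trivial).hom t :=
      TopCat.Presheaf.germ_res_apply AE.spec.presheaf _ x hy t
    have h0 : algebraMap Γ(AE.spec, U) (AE.spec.presheaf.stalk x) (a * b) = 0 := by
      rw [map_mul, ← hbs, ha, ← mul_assoc, hc, zero_mul]
    obtain ⟨r, hr⟩ := (IsLocalization.map_eq_zero_iff (hU.primeIdealOf ⟨x, hy⟩).asIdeal.primeCompl _ _).1 h0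
    have h1 : (r : Γ(AE.spec, U)) * b = 0 := hz _ (by rw [← hr]; ring)
    have h2 : algebraMap Γ(AE.spec, U) (AE.spec.presheaf.stalk x) b = 0 :=
      (IsLocalization.map_eq_zero_iff (hU.primeIdealOf ⟨x, hy⟩).asIdeal.primeCompl _ _).2 ⟨r, h1⟩
    have hu := IsLocalization.map_units (AE.spec.presheaf.stalk x) s
    exact hu.mul_left_eq_zero.1 (hbs.trans h2)

end Groth.Agent.CycPB
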