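import Groth.Agent.CycPB.Tower

/-!
The product formula for Chern classes.
-/

set_option autoImplicit false
set_option linter.unusedSectionVars false
set_option linter.style.haveILetI false
set_option backward.isDefEq.respectTransparency false
set_option backward.isDefEq.respectTransparency.types false

universe u

open CategoryTheory CategoryTheory.Limits AlgebraicGeometry TopologicalSpace Opposite

noncomputable section

namespace Groth.Agent.CycPB

variable {X P Q Y : Scheme.{u}} {δ : X → ℤ} {δP : P → ℤ} {δQ : Q → ℤ} {k : ℤ}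

/-- A family extended by zero. -/
def nx {r : ℕ} (c : Fin (r + 1) → X → ℤ) (j : ℕ) : X → ℤ :=
  if h : j < r + 1 then c ⟨j, h⟩ else fun _ => 0

lemma nx_of_lt {r : ℕ} (c : Fin (r + 1) → X → ℤ) {j : ℕ} (h : j < r + 1) : nx c j = c ⟨j, h⟩ := dif_pos h

lemma nx_of_le {r : ℕ} (c : Fin (r + 1) → X → ℤ) {j : ℕ} (h : r + 1 ≤ j) : nx c j = fun _ => 0 := dif_neg (by omega)

lemma nx_val {r : ℕ} (c : Fin (r + 1) → X → ℤ) (j : Fin (r + 1)) : nx c (j : ℕ) = c j := dif_pos j.2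

lemma cy_nx {r : ℕ} {c : Fin (r + 1) → X → ℤ} (hc : ∀ j : Fin (r + 1), Cy δ (k - ((j : ℕ) : ℤ)) (c j)) (j : ℕ) :
    Cy δ (k - j) (nx c j) := by
  by_cases h : j < r + 1
  · rw [nx_of_lt c h]; exact hc ⟨j, h⟩
  · rw [nx_of_le c (by omega)]; exact Cy.zero

lemma pull_nx (f : Y ⟶ X) (δY : Y → ℤ) (e : ℤ) {r : ℕ} (c : Fin (r + 1) → X → ℤ) (j : ℕ) :
    nx (fun i => Cyc.pullFun f δY δ e (c i)) j = Cyc.pullFun f δY δ e (nx c j) := by
  by_cases h : j < r + 1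
  · rw [nx_of_lt _ h, nx_of_lt _ h]
  · rw [nx_of_le _ (by omega), nx_of_le _ (by omega)]
    funext y
    unfold Cyc.pullFun
    split <;> simp

lemma cap_zero {L : X.Modules} (v : (x : X) → Cyc.secFibre L x) (x : X) :
    Cyc.c1CapFun δ L (fun _ => 0) v x = 0 :=
  finsum_eq_zero_of_forall_eq_zero fun ξ => zero_mul _

lemma cap_sum [IsLocallyNoetherian X] {ι : Type*} (s : Finset ι) {f : ι → X → ℤ} {l : ℤ}
    (h : ∀ i ∈ s, Cy δ l (f i)) {L : X.Modules} (v : (x : X) → Cyc.secFibre L x) (x : X) :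
    Cyc.c1CapFun δ L (fun x => ∑ i ∈ s, f i x) v x = ∑ i ∈ s, Cyc.c1CapFun δ L (f i) v x := by
  classical
  induction s using Finset.induction_on with
  | empty => simpa using cap_zero v x
  | insert a s ha ih =>
    simp only [Finset.sum_insert ha]
    rw [congrFun (Cy.cap_add (h a (Finset.mem_insert_self a s)) (Cy.sum s fun i hi => h i (Finset.mem_insert_of_mem hi)) v) x,
      ih fun i hi => h i (Finset.mem_insert_of_mem hi)]

lemma cap_ite {L : X.Modules} (v : (x : X) → Cyc.secFibre L x) (p : Prop) [Decidable p] (a : X → ℤ) (x : X) :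
    Cyc.c1CapFun δ L (fun x => if p then a x else 0) v x = if p then Cyc.c1CapFun δ L a v x else 0 := by
  split_ifs
  · rfl
  · exact cap_zero v x

/-- A shifted cap. -/
def capShift (δ : X → ℤ) {L : X.Modules} (v : (x : X) → Cyc.secFibre L x) (a : ℕ → X → ℤ) : ℕ → X → ℤ
  | 0 => fun _ => 0
  | j + 1 => Cyc.c1CapFun δ L (a j) v

/-- Chern classes in an extension by an invertible module, extended by zero. -/
theorem rel_ext_nat {p : P ⟶ X} [IsProper p] {p' : Q ⟶ X} [IsProper p'] {E F L : X.Modules} {O : P.Modules}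
    {O' : Q.Modules} {r m : ℕ} (hr : r = m + 1)
    (hB : Bundle p δ δP E O r) (hB' : Bundle p' δ δQ F O' m) (hL : PicF.IsInvertible L) (f : L ⟶ E) (g : E ⟶ F)
    (w : f ≫ g = 0) (hS : (ShortComplex.mk f g w).ShortExact) {v : (x : X) → Cyc.secFibre L x} (hv : ∀ x, v x ≠ 0)
    {c : Fin (r + 1) → X → ℤ} (hc : Rel p δ δP O r k c) {d : Fin (m + 1) → X → ℤ} (hd : Rel p' δ δQ O' m k d)
    (h0 : RZ δ k fun x => c 0 x - d 0 x) (j : ℕ) :
    RZ δ (k - j) fun x => nx c j x - (nx d j x + capShift δ v (nx d) j x) := by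
  subst hr
  have hu := Rel.unique hB hc (rel_of_ext hB hB' hL f g w hS hv hd) (h0.eq (funext fun x => by
    simp only [Fin.cases_zero, add_zero]
    rw [show (0 : Fin (m + 1 + 1)) = Fin.castSucc 0 from rfl, Fin.snoc_castSucc]))
  by_cases hj : j < m + 1 + 1
  · refine (hu ⟨j, hj⟩).eq (funext fun x => ?_)
    rw [nx_of_lt c hj]
    refine congrArg₂ (· - ·) rfl (congrArg₂ (· + ·) ?_ ?_)
    · by_cases hj' : j < m + 1
      · rw [nx_of_lt d hj', show (⟨j, hj⟩ : Fin (m + 1 + 1)) = Fin.castSucc ⟨j, hj'⟩ from rfl, Fin.snoc_castSucc]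
      · obtain rfl : j = m + 1 := by omega
        rw [nx_of_le d le_rfl, show (⟨m + 1, hj⟩ : Fin (m + 1 + 1)) = Fin.last (m + 1) from rfl, Fin.snoc_last]
    · cases j with
      | zero => exact congrFun (Fin.cases_zero (motive := fun _ => X → ℤ)) x
      | succ i =>
        rw [show (⟨i + 1, hj⟩ : Fin (m + 1 + 1)) = Fin.succ ⟨i, by omega⟩ from rfl, Fin.cases_succ]
        show _ = Cyc.c1CapFun δ L (nx d i) v x
        rw [nx_of_lt d (show i < m + 1 by omega)]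
  · obtain ⟨i, rfl⟩ : ∃ i, j = i + 1 := ⟨j - 1, by omega⟩
    refine RZ.zero.eq (funext fun x => ?_)
    show (0 : ℤ) = nx c (i + 1) x - (nx d (i + 1) x + Cyc.c1CapFun δ L (nx d i) v x)
    rw [nx_of_le c (by omega), nx_of_le d (by omega), nx_of_le d (by omega), cap_zero]
    ring

/-- The terms of the product formula. -/
def wsum {r₁ r₂ : ℕ} (ε : Fin (r₂ + 1) → Fin (r₁ + 1) → X → ℤ) (j : ℕ) : X → ℤ := fun x =>
  ∑ b : Fin (r₂ + 1), if (b : ℕ) ≤ j then nx (ε b) (j - b) x else 0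

theorem whitney_filt : ∀ (r₁ : ℕ) {r r₂ : ℕ} (_ : r = r₁ + r₂) {P P₁ P₂ : Scheme.{u}} {p : P ⟶ X} [IsProper p]
    {p₁ : P₁ ⟶ X} [IsProper p₁] {p₂ : P₂ ⟶ X} [IsProper p₂] {δP : P → ℤ} {δ₁ : P₁ → ℤ} {δ₂ : P₂ → ℤ}
    {E E₁ E₂ : X.Modules} {O : P.Modules} {O₁ : P₁.Modules} {O₂ : P₂.Modules} (_ : Bundle p δ δP E O r)
    (_ : Bundle p₁ δ δ₁ E₁ O₁ r₁) (_ : Bundle p₂ δ δ₂ E₂ O₂ r₂) (_ : HasFilt E₁ r₁) (a : E₁ ⟶ E) (b : E ⟶ E₂)
    (w : a ≫ b = 0) (_ : (ShortComplex.mk a b w).ShortExact) {d : Fin (r₂ + 1) → X → ℤ}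
    (_ : Rel p₂ δ δ₂ O₂ r₂ k d) {ε : Fin (r₂ + 1) → Fin (r₁ + 1) → X → ℤ}
    (_ : ∀ b : Fin (r₂ + 1), Rel p₁ δ δ₁ O₁ r₁ (k - ((b : ℕ) : ℤ)) (ε b))
    (_ : ∀ b : Fin (r₂ + 1), RZ δ (k - ((b : ℕ) : ℤ)) fun x => ε b 0 x - d b x)
    {c : Fin (r + 1) → X → ℤ} (_ : Rel p δ δP O r k c) (_ : RZ δ k fun x => c 0 x - d 0 x) (j : ℕ),
    RZ δ (k - j) fun x => nx c j x - wsum ε j x
  | 0, r, r₂, hr, P, P₁, P₂, p, _, p₁, _, p₂, _, δP, δ₁, δ₂, E, E₁, E₂, O, O₁, O₂, hB, hB₁, hB₂, hF, a, b, w, hS,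
      d, hd, ε, hε, hε0, c, hc, hc0, j => by
    obtain rfl : r = r₂ := by omega
    obtain ⟨L, -, ⟨F⟩⟩ := hF
    have hz : IsZero E₁ := IsZero.of_iso F.zero F.top.symm
    haveI : IsIso b := hS.isIso_g_iff.2 hz
    obtain ⟨q₂, hq₂⟩ := hB₂.proj
    have hB₂' : Bundle p₂ δ δ₂ E O₂ r :=
      ⟨hB₂.setup, hB₂.setupP, hB₂.compat, ⟨_, PBundle.of_moduleIso hq₂ (asIso b)⟩, hB.rank⟩
    have hu := Rel.unique hB hc (hd.transfer hB₂' hB) hc0
    by_cases hj : j < r + 1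
    · refine ((hu ⟨j, hj⟩).sub (hε0 ⟨j, hj⟩)).eq (funext fun x => ?_)
      rw [nx_of_lt c hj, wsum, Finset.sum_eq_single (⟨j, hj⟩ : Fin (r + 1))]
      · rw [if_pos le_rfl, Nat.sub_self, nx_of_lt _ (by omega : 0 < 0 + 1)]
        show c ⟨j, hj⟩ x - d ⟨j, hj⟩ x - (ε ⟨j, hj⟩ 0 x - d ⟨j, hj⟩ x) = c ⟨j, hj⟩ x - ε ⟨j, hj⟩ 0 x
        ring
      · intro b' _ hb'
        split_ifs with hle
        · rw [nx_of_le _ (by have := Fin.val_ne_of_ne hb'; simp only at this; omega)]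
        · rfl
      · simp
    · refine RZ.zero.eq (funext fun x => ?_)
      rw [nx_of_le c (by omega), wsum, Finset.sum_eq_zero]
      · simp
      · intro b' _
        split_ifs
        · have := b'.2
          rw [nx_of_le _ (by omega)]
        · rfl
  | m + 1, r, r₂, hr, P, P₁, P₂, p, _, p₁, _, p₂, _, δP, δ₁, δ₂, E, E₁, E₂, O, O₁, O₂, hB, hB₁, hB₂, hF, a, b, w,
      hS, d, hd, ε, hε, hε0, c, hc, hc0, j => by
    haveI := hB.setup.1
    obtain ⟨L, hL, ⟨F⟩⟩ := hF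
    obtain ⟨G, f, g, wfg, hfg, hG, ⟨FG⟩⟩ := exists_refilt hL F
    -- the quotient of `E₁`
    obtain ⟨q₁, hq₁⟩ := hB₁.proj
    obtain ⟨Z₁, ι₁, hι₁, -, -, -, -, ⟨qZ₁, hqZ₁⟩, -⟩ := exists_subBundle hq₁ (hL 0) f g wfg hfg
    haveI := hι₁
    have hBG : Bundle (ι₁ ≫ p₁) δ (fun d => δ₁ (ι₁ d)) G ((Scheme.Modules.pullback ι₁).obj O₁) m :=
      ⟨hB.setup, CycK0.isSetup_closed ι₁ hB₁.setupP, CycK0.deltaCompat_closed_comp ι₁ p₁ hB₁.compat, ⟨qZ₁, hqZ₁⟩, hG⟩
    -- the quotient of `E`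
    obtain ⟨g', h', w', hg'⟩ := shortExact_coker f a b hS
    haveI : Mono f := hfg.mono_f
    haveI : Mono a := hS.mono_f
    haveI : Mono (f ≫ a) := mono_comp f a
    let E' := cokernel (f ≫ a)
    let eG : G ≅ cokernel f := hfg.gIsCokernel.coconePointUniqueUpToIso (colimit.isColimit _)
    have hE'ex : (ShortComplex.mk (eG.hom ≫ g') h' (by rw [Category.assoc, w', comp_zero])).ShortExact :=
      ShortComplex.shortExact_of_iso (ShortComplex.isoMk (S₁ := ShortComplex.mk g' h' w') eG.symm (Iso.refl _)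
        (Iso.refl _) (by simp) (by simp)) hg'
    have hrE' : FlatMod.IsFinLocFreeOfRank (m + r₂) E' := isFinLocFreeOfRank_middle hE'ex hG hB₂.rank
    have hfaS : (ShortComplex.mk (f ≫ a) (cokernel.π (f ≫ a)) (cokernel.condition _)).ShortExact :=
      { exact := ShortComplex.exact_cokernel _ }
    obtain ⟨q, hq⟩ := hB.proj
    obtain ⟨Z, ι, hι, -, -, -, -, ⟨qZ, hqZ⟩, -⟩ := exists_subBundle hq (hL 0) (f ≫ a) _ _ hfaS
    haveI := hι
    have hBE' : Bundle (ι ≫ p) δ (fun d => δP (ι d)) E' ((Scheme.Modules.pullback ι).obj O) (m + r₂) :=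
      ⟨hB.setup, CycK0.isSetup_closed ι hB.setupP, CycK0.deltaCompat_closed_comp ι p hB.compat, ⟨qZ, hqZ⟩, hrE'⟩
    choose η hη hη0 using fun b' : Fin (r₂ + 1) => exists_rel hBG (hd.1 b')
    obtain ⟨e, he, he0⟩ := exists_rel hBE' (show Cy δ k (d 0) by have := hd.1 0; simpa using this)
    have IH := whitney_filt m (r := m + r₂) rfl hBE' hBG hB₂ ⟨_, fun i => hL i.succ, ⟨FG⟩⟩ (eG.hom ≫ g') h' _ hE'ex hd
      hη (fun b' => by rw [hη0]; exact RZ.refl _) he (by rw [he0]; exact RZ.refl _)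
    obtain ⟨v, hv⟩ := exists_sections (hL 0)
    have hcE := rel_ext_nat (r := r) (m := m + r₂) (by omega) hB hBE' (hL 0) (f ≫ a) _ _ hfaS hv hc he
      (by rw [he0]; exact hc0)
    have hεb := fun b' => rel_ext_nat rfl hB₁ hBG (hL 0) f g wfg hfg hv (hε b') (hη b') (by rw [hη0]; exact hε0 b')
    -- the shifted part
    have hshift : RZ δ (k - j) fun x =>
        capShift δ v (nx e) j x - ∑ b' : Fin (r₂ + 1), if (b' : ℕ) ≤ j then capShift δ v (nx (η b')) (j - b') x else 0 := by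
      cases j with
      | zero =>
        refine RZ.zero.eq (funext fun x => ?_)
        rw [Finset.sum_eq_zero fun b' _ => ?_]
        · simp [capShift]
        · split_ifs
          · rw [Nat.zero_sub]; rfl
          · rfl
      | succ i =>
        have hl : k - ((i + 1 : ℕ) : ℤ) + 1 = k - (i : ℤ) := by push_cast; ring
        have hA : Cy δ (k - (i : ℤ)) (nx e i) := cy_nx he.1 i
        have hBb : ∀ b' : Fin (r₂ + 1), Cy δ (k - (i : ℤ))
            (fun x => if (b' : ℕ) ≤ i then nx (η b') (i - b') x else 0) := fun b' => by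
          by_cases hle : (b' : ℕ) ≤ i
          · simp only [if_pos hle]
            have := cy_nx (hη b').1 (i - b')
            rwa [show k - ((b' : ℕ) : ℤ) - ((i - (b' : ℕ) : ℕ) : ℤ) = k - i by push_cast [hle]; ring] at this
          · simp only [if_neg hle]; exact Cy.zero
        have h1 : RZ δ (k - ((i + 1 : ℕ) : ℤ) + 1) fun x => nx e i x - wsum η i x := by rw [hl]; exact IH i
        refine (h1.cap hB.setup (hL 0) hv).eq (funext fun x => ?_)
        have hW : Cy δ (k - (i : ℤ)) (wsum η i) := Cy.sum Finset.univ fun b' _ => hBb b'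
        rw [Cy.cap_sub hA hW v x]
        refine congrArg₂ (· - ·) rfl ((cap_sum Finset.univ (fun b' _ => hBb b') v x).trans
          (Finset.sum_congr rfl fun b' _ => ?_))
        rw [cap_ite]
        by_cases hle : (b' : ℕ) ≤ i
        · rw [if_pos hle, if_pos (by omega), show i + 1 - (b' : ℕ) = i - b' + 1 by omega]
          rfl
        · rw [if_neg hle]
          split_ifs with h
          · rw [show i + 1 - (b' : ℕ) = 0 by omega]; rfl
          · rfl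
    have hsum : RZ δ (k - j) fun x => ∑ b' : Fin (r₂ + 1), if (b' : ℕ) ≤ j then
        nx (ε b') (j - b') x - (nx (η b') (j - b') x + capShift δ v (nx (η b')) (j - b') x) else 0 := by
      refine RZ.sum Finset.univ fun b' _ => ?_
      by_cases hle : (b' : ℕ) ≤ j
      · simp only [if_pos hle]
        have := hεb b' (j - b')
        rwa [show k - ((b' : ℕ) : ℤ) - ((j - (b' : ℕ) : ℕ) : ℤ) = k - j by push_cast [hle]; ring] at this
      · simp only [if_neg hle]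
        exact RZ.zero
    refine ((((hcE j).add (IH j)).add hshift).sub hsum).eq (funext fun x => ?_)
    simp only [wsum]
    rw [← sub_eq_zero]
    simp only [← Finset.sum_filter, Finset.sum_sub_distrib, Finset.sum_add_distrib]
    ring

/-- A bundle with its relations, pulled back. -/
theorem Bundle.exists_pull {p : P ⟶ X} [IsProper p] {E : X.Modules} {O : P.Modules} {r : ℕ} (hB : Bundle p δ δP E O r)
    {δY : Y → ℤ} (hY : Cyc.IsSetup Y δY) (f : Y ⟶ X) [Flat f] [LocallyOfFiniteType f] {e : ℕ}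
    (he : Cyc.HasRelDim f e) (hf : Cyc.DeltaCompat f δY δ) :
    ∃ (Q : Scheme.{u}) (π : Q ⟶ Y) (_ : IsProper π) (O' : Q.Modules) (δQ : Q → ℤ),
      Bundle π δY δQ ((Scheme.Modules.pullback f).obj E) O' r ∧ ∀ (k : ℤ) (c : Fin (r + 1) → X → ℤ),
        Rel p δ δP O r k c → Rel π δY δQ O' r (k + e) fun j => Cyc.pullFun f δY δ e (c j) := by
  have hsq : IsPullback (pullback.fst p f) (pullback.snd p f) p f := .of_hasPullback _ _
  obtain ⟨δQ, hQ, hπ⟩ := exists_isSetup hY (pullback.snd p f)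
  exact ⟨_, _, inferInstance, _, δQ, hB.baseChange hY f hf _ _ hsq hQ hπ, fun k c hc =>
    hc.pull hB hY f he hf _ _ hsq hQ hπ⟩

/-- Descent along the tower. -/
theorem IsSplit.descend {π : P ⟶ X} {d : ℕ} (h : IsSplit π δ d) (hX : Cyc.IsSetup X δ) (hP : Cyc.IsSetup P δP)
    (hδ : Cyc.DeltaCompat π δP δ) {a : X → ℤ} (ha : Cy δ k a)
    (hz : RZ δP (k + d) (Cyc.pullFun π δP δ d a)) : RZ δ k a := by
  haveI := hX.1
  refine h.inj X (𝟙 X) δ hX (fun x => ⟨0, ?_, by simp⟩) P π (𝟙 P) IsPullback.of_id_fst δP hP hδ k a ha hz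
  show CycK0.resTr (𝟙 X) x = _
  simpa using resTr_pre (𝟙 X) x

/-- The product formula. -/
theorem whitney {r r₁ r₂ : ℕ} (hr : r = r₁ + r₂) {P₁ P₂ : Scheme.{u}} {p : P ⟶ X} [IsProper p]
    {p₁ : P₁ ⟶ X} [IsProper p₁] {p₂ : P₂ ⟶ X} [IsProper p₂] {δ₁ : P₁ → ℤ} {δ₂ : P₂ → ℤ}
    {E E₁ E₂ : X.Modules} {O : P.Modules} {O₁ : P₁.Modules} {O₂ : P₂.Modules} (hB : Bundle p δ δP E O r)
    (hB₁ : Bundle p₁ δ δ₁ E₁ O₁ r₁) (hB₂ : Bundle p₂ δ δ₂ E₂ O₂ r₂) (a : E₁ ⟶ E) (b : E ⟶ E₂) (w : a ≫ b = 0)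
    (hS : (ShortComplex.mk a b w).ShortExact) {d : Fin (r₂ + 1) → X → ℤ} (hd : Rel p₂ δ δ₂ O₂ r₂ k d)
    {ε : Fin (r₂ + 1) → Fin (r₁ + 1) → X → ℤ} (hε : ∀ b : Fin (r₂ + 1), Rel p₁ δ δ₁ O₁ r₁ (k - ((b : ℕ) : ℤ)) (ε b))
    (hε0 : ∀ b : Fin (r₂ + 1), RZ δ (k - ((b : ℕ) : ℤ)) fun x => ε b 0 x - d b x)
    {c : Fin (r + 1) → X → ℤ} (hc : Rel p δ δP O r k c) (hc0 : RZ δ k fun x => c 0 x - d 0 x) (j : ℕ) :
    RZ δ (k - j) fun x => nx c j x - wsum ε j x := by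
  have hX := hB.setup
  haveI := hX.1
  obtain ⟨S, π, e, hsp, hF⟩ := exists_split hX 1 (fun _ => E₁) (fun _ => r₁) fun _ => hB₁.rank
  haveI := hsp.proper
  haveI := hsp.flat
  obtain ⟨δS, hS', hπ⟩ := exists_isSetup hX π
  have hWcy : Cy δ (k - j) (wsum ε j) := Cy.sum Finset.univ fun b' _ => by
    by_cases hle : (b' : ℕ) ≤ j
    · simp only [if_pos hle]
      have := cy_nx (hε b').1 (j - b')
      rwa [show k - ((b' : ℕ) : ℤ) - ((j - (b' : ℕ) : ℕ) : ℤ) = k - j by push_cast [hle]; ring] at this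
    · simp only [if_neg hle]; exact Cy.zero
  refine hsp.descend hX hS' hπ ((cy_nx hc.1 j).sub hWcy) ?_
  obtain ⟨Q, q, hq, OQ, δQ, hBQ, hRQ⟩ := hB.exists_pull hS' π hsp.relDim hπ
  obtain ⟨Q₁, q₁, hq₁, OQ₁, δQ₁, hBQ₁, hRQ₁⟩ := hB₁.exists_pull hS' π hsp.relDim hπ
  obtain ⟨Q₂, q₂, hq₂, OQ₂, δQ₂, hBQ₂, hRQ₂⟩ := hB₂.exists_pull hS' π hsp.relDim hπ
  haveI := (Scheme.Modules.pullback π).additive_of_preserves_binary_products
  have hp0 : ∀ {l : ℤ} {u v : X → ℤ}, RZ δ l (fun x => u x - v x) →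
      RZ δS (l + e) fun y => Cyc.pullFun π δS δ e u y - Cyc.pullFun π δS δ e v y := fun {l u v} h =>
    (RZ.pull hX hS' hπ hsp.relDim h).eq (pullFun_sub (e : ℤ) u v)
  have hw := whitney_filt r₁ (k := k + e) hr hBQ hBQ₁ hBQ₂ (hF 0) ((Scheme.Modules.pullback π).map a)
    ((Scheme.Modules.pullback π).map b) (by rw [← Functor.map_comp, w, Functor.map_zero])
    (hS.map_of_exact (Scheme.Modules.pullback π)) (hRQ₂ k d hd)
    (ε := fun b' i => Cyc.pullFun π δS δ e (ε b' i))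
    (fun b' => by
      rw [show k + e - ((b' : ℕ) : ℤ) = k - ((b' : ℕ) : ℤ) + e by ring]
      exact hRQ₁ _ _ (hε b'))
    (fun b' => by
      rw [show k + e - ((b' : ℕ) : ℤ) = k - ((b' : ℕ) : ℤ) + e by ring]
      exact hp0 (hε0 b'))
    (hRQ k c hc) (hp0 hc0) j
  rw [show k - (j : ℤ) + e = k + e - j by ring, pullFun_sub (e : ℤ) (nx c j) (wsum ε j)]
  refine hw.eq (funext fun y => ?_)
  rw [pull_nx]
  refine congrArg₂ (· - ·) rfl ?_
  simp only [wsum, pull_nx]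
  unfold Cyc.pullFun
  split
  · refine Eq.trans ?_ (Finset.sum_mul _ _ _).symm
    exact Finset.sum_congr rfl fun b' _ => by split_ifs <;> simp
  · exact Finset.sum_eq_zero fun b' _ => by split_ifs <;> rfl

end Groth.Agent.CycPB
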